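import Cfsg.Agent.Lib.GTwoJTwo.Defs

/-!
# Coset table checks, part 0
-/

set_option autoImplicit false

namespace Cfsg.Agent.GTwoJTwo

theorem check_step0 : (List.range 416).all (stepOk 0) = true := by decide +kernel

theorem check_step1 : (List.range 416).all (stepOk 1) = true := by decide +kernel

theorem check_step2 : (List.range 416).all (stepOk 2) = true := by decide +kernel

theorem check_step3 : (List.range 416).all (stepOk 3) = true := by decide +kernel

theorem check_step4 : (List.range 416).all (stepOk 4) = true := by decide +kernel

theorem check_step5 : (List.range 416).all (stepOk 5) = true := by decide +kernel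

end Cfsg.Agent.GTwoJTwo
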