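import Cfsg.Agent.Lib.GTwoJTwo.Defs

/-!
# Coset table checks, part 1
-/

set_option autoImplicit false

namespace Cfsg.Agent.GTwoJTwo

theorem check_step6 : (List.range 416).all (stepOk 6) = true := by decide +kernel

theorem check_step7 : (List.range 416).all (stepOk 7) = true := by decide +kernel

theorem check_step8 : (List.range 416).all (stepOk 8) = true := by decide +kernel

theorem check_step9 : (List.range 416).all (stepOk 9) = true := by decide +kernel

theorem check_step10 : (List.range 416).all (stepOk 10) = true := by decide +kernel

theorem check_step11 : (List.range 416).all (stepOk 11) = true := by decide +kernel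

end Cfsg.Agent.GTwoJTwo
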