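import Cfsg.Agent.Lib.GTwoJTwo.Defs

/-!
# Coset table checks, part 2
-/

set_option autoImplicit false

namespace Cfsg.Agent.GTwoJTwo

theorem check_step12 : (List.range 416).all (stepOk 12) = true := by decide +kernel

theorem check_step13 : (List.range 416).all (stepOk 13) = true := by decide +kernel

theorem check_step14 : (List.range 416).all (stepOk 14) = true := by decide +kernel

theorem check_step15 : (List.range 416).all (stepOk 15) = true := by decide +kernel

theorem check_step16 : (List.range 416).all (stepOk 16) = true := by decide +kernel

theorem check_step17 : (List.range 416).all (stepOk 17) = true := by decide +kernel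

end Cfsg.Agent.GTwoJTwo
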