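import Cfsg.Agent.Lib.GTwoJTwo.Defs

/-!
# Coset table checks, part 3
-/

set_option autoImplicit false

namespace Cfsg.Agent.GTwoJTwo

theorem check_step18 : (List.range 416).all (stepOk 18) = true := by decide +kernel

theorem check_step19 : (List.range 416).all (stepOk 19) = true := by decide +kernel

theorem check_step20 : (List.range 416).all (stepOk 20) = true := by decide +kernel

theorem check_step21 : (List.range 416).all (stepOk 21) = true := by decide +kernel

theorem check_step22 : (List.range 416).all (stepOk 22) = true := by decide +kernel

theorem check_step23 : (List.range 416).all (stepOk 23) = true := by decide +kernel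

end Cfsg.Agent.GTwoJTwo
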