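import Cfsg.Agent.Lib.GTwoJTwo.Defs

/-!
# The remaining checks
-/

set_option autoImplicit false

namespace Cfsg.Agent.GTwoJTwo

open Cfsg.Agent.JTwo (mulP oneP gP ev)

theorem check_par : (List.range 416).all parOk = true := by decide +kernel

theorem check_base : (mulP pP piP == oneP && mulP piP pP == oneP) = true := by decide +kernel

theorem check_gens : ((List.range 4).all fun g => ((hgWords.getD g []).all fun k => decide (k < 24)) &&
    zWord (hgWords.getD g []) == gP g) = true := by decide +kernel

theorem check_hperm : ((List.range 4).all fun g => (List.range 416).all fun i =>
    app perm (hgWords.getD g []) i == hperm g i) = true := by decide +kernel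

theorem check_z : ((List.finRange 24).all fun k => (List.finRange 12).all fun i =>
    (List.finRange 12).all fun j =>
      yTarget (param k.val) (k.val / 2) i j == ev (mulP (mulP piP (zP k.val)) pP) i j) = true := by
  decide +kernel

theorem check_cert_g : certOk perm 24 0 mask_g cert_g reach_g = true := by decide +kernel

theorem check_cert_h1 : certOk hperm 4 1 mask_h1 cert_h1 reach_h1 = true := by decide +kernel

theorem check_cert_h3 : certOk hperm 4 3 mask_h3 cert_h3 reach_h3 = true := by decide +kernel

theorem check_mask : ((List.range 416).all fun i => mask_g.testBit i &&
    (decide (i = 0) || mask_h1.testBit i || mask_h3.testBit i)) = true := by decide +kernel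

end Cfsg.Agent.GTwoJTwo
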