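import Cfsg.Agent.Lib.GTwoJTwo.Defs

/-!
# The orbits of the subgroup
-/

set_option autoImplicit false

namespace Cfsg.Agent.GTwoJTwo

/-- Repeated rounds of the four generators. -/
def rounds : List (List ℕ) := (List.replicate 12 [[0], [1], [2], [3]]).flatten

theorem check_inv : ((List.range 4).all fun g => (List.range 416).all fun i =>
    (mask_h1.testBit (hperm g i) == mask_h1.testBit i) &&
      (mask_h3.testBit (hperm g i) == mask_h3.testBit i)) = true := by decide +kernel

theorem check_orbits : ((reachAll hperm rounds (2 ^ 1) &&& mask_h1 == mask_h1) &&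
    (reachAll hperm rounds (2 ^ 3) &&& mask_h3 == mask_h3) &&
    mask_h1.testBit 1 && mask_h3.testBit 3 &&
    ((List.range 4).any fun g => !(hperm g 1 == 1)) &&
    ((List.range 4).any fun g => !(hperm g 3 == 3))) = true := by decide +kernel

end Cfsg.Agent.GTwoJTwo
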