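import Cfsg.Agent.Lib.J2.Packed

/-!
# Matrices, cosets and words for the action on 416 points
-/

set_option autoImplicit false
set_option maxRecDepth 10000

namespace Cfsg.Agent.GTwoJTwo

open Cfsg.Agent.JTwo (Tr)

/-- The base change. -/
def pP : ℕ := 4437694107262153794694694975679675134448738

/-- Its inverse. -/
def piP : ℕ := 4481212928373629344465267801067424424675208

/-- The table `zT`. -/
def zT : Tr := (.node (.node (.node (.node (.node (.leaf 2505680520648531540175808810091676063134366) (.leaf 10621735020193256538033615850926460523671389)) (.leaf 2505680162676517667874419696107778804927096)) (.node (.node (.leaf 20697919457843509723620696405698565059556630) (.leaf 8448884346733739239163996438171506177122071)) (.leaf 20697918229996429816436195722423580161759183))) (.node (.node (.node (.leaf 11151734815773738405451992359774976184777278) (.leaf 17708438032179006866986815523517273145860777)) (.leaf 15791478499717850222031401513098106387419515)) (.node (.node (.leaf 7850765128315319381863822462557910122254172) (.leaf 13004226791306326293747389666347116744461960)) (.leaf 1050966914958057786505586187702518131737164))))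 (.node (.node (.node (.node (.leaf 21650896854505446013325914595526986290549115) (.leaf 15671418789454361842351131336997704643767033)) (.leaf 21650896882101670895914399469935103232845905)) (.node (.node (.leaf 7970580379804632923227728835530927333284023) (.leaf 1449269413030050993988227505045068185684540)) (.leaf 7970580352208400389190769073487325742026376))) (.node (.node (.node (.leaf 11151734413876136401990953542308005968860459) (.leaf 17420045981697552929310058865143437517753716)) (.leaf 15311909232032913723558847683194611845006308)) (.node (.node (.leaf 991047336643082274800760357590958597339898) (.leaf 16706046668958616556560761744341715781204294)) (.leaf 21890508735600303686757914720691069377667837)))))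

/-- Part of the table `rT`. -/
def rT_1 : Tr := (.node (.node (.node (.node (.node (.node (.leaf 11151733894906779683522195341810241573494785) (.leaf 6145781679697314992292740091032374550931041)) (.node (.leaf 21286298912057453802259281203273580289982592) (.leaf 20283992519349052620811286191143204841848170))) (.node (.node (.leaf 21362568211879328766922721723178492686730660) (.leaf 17599510940133052162799512371913761639168714)) (.leaf 4917183886010920332601126705057873208554562))) (.node (.node (.node (.leaf 7970580856283798398942831302606285675903906) (.leaf 1961329643138454216538285827946275395323816)) (.leaf 12268045743587690992477648491533249685857077)) (.node (.node (.leaf 11002898005419872964953364244029362969050954) (.leaf 12088308187931837932100181053468509089288491)) (.leaf 18324587989648908061604020647404151493862117)))) (.node (.node (.node (.node (.leaf 16706046668958616556560761744341715781204294) (.leaf 6532180585527203519177237694841691084209478)) (.node (.leaf 2483896771685154263546374288432081215696962) (.leaf 9341903160028322926516330356039717507010532))) (.node (.node (.leaf 9608761192284077835075787651033441995747165)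 (.leaf 19652401580374129193386137997047625083265025)) (.leaf 13733696716999304574783687071885016218919193))) (.node (.node (.node (.leaf 15562502740975871182523894834205818649215636) (.leaf 18139434962303910655093040691643408639834854)) (.leaf 3588429774693002914045301473927964078806679)) (.node (.node (.leaf 18999777276116422671040684599560426365087918) (.leaf 16706046195640515927106040852914823004513917)) (.leaf 15676864527772405550845415506556630918137428))))) (.node (.node (.node (.node (.node (.leaf 20697918229996429816436195722423580161759183) (.leaf 18324588216862273772391286986367426518386352)) (.node (.leaf 20986586889350186971903471667888837921436606) (.leaf 18994328841996636635215892068789953175091642))) (.node (.node (.leaf 119860992963975459461545635306359942318468) (.leaf 15807815849459508423397046730512403932335788)) (.leaf 18379025517032239160835359234565880448210395))) (.node (.node (.node (.leaf 6815369542744233826449392743795012287806370) (.leaf 827721913622605050863292329499322672320695)) (.leaf 6695581635341093240246907856642609629560410)) (.node (.node (.leaf 21890509495903373687436679651053192266110251)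 (.leaf 14685661098035252241860935782670340501521576)) (.leaf 18667843052190901980108613521456000182729698)))) (.node (.node (.node (.node (.leaf 10621735540584361032886385147141350984675165) (.leaf 14947040069640139672441166462625437007257415)) (.node (.leaf 8357219602279309207458923344174330307528696) (.leaf 7371801585201073046936410853276351532355176))) (.node (.node (.leaf 1781652568619039725197122582592909007001747) (.leaf 13592069627978061052432498869152461102432792)) (.leaf 4824838634581079108790878676222147883886553))) (.node (.node (.node (.leaf 435880626780161377581212059677735185061319) (.leaf 3332678767624358957935513814175786797864743)) (.leaf 2902352180982321677717899820256063498357328)) (.node (.node (.leaf 14250057560987919195205510405408695347171256) (.leaf 7448098346504749257491072964759074325975115)) (.leaf 6809924507078159898686028842606250613022721))))))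

/-- Part of the table `rT`. -/
def rT_2 : Tr := (.node (.node (.node (.node (.node (.node (.leaf 7970580379804632923227728835530927333284023) (.leaf 20300375293677962334306870966091945307329547)) (.node (.leaf 19630633371595397653150983235055726690153718) (.leaf 9772231083432447434129838314735254021616194))) (.node (.node (.leaf 3130994572393989137186814237633665900468523) (.leaf 3740844138887915305499737955434602106859217)) (.leaf 4781256398448231632243971491632822255801819))) (.node (.node (.node (.leaf 9124084380001385570761949379370239333691738) (.leaf 12922498403581138063198859744558570906891654)) (.leaf 21650896454121713958388872287044966044805201)) (.node (.node (.leaf 21264504887242711503575987465373727679931389) (.leaf 14533411393277591215664026261994619446402839)) (.leaf 10414986255752171322329516763313879173324303)))) (.node (.node (.node (.node (.leaf 18754976853922747581340356931377950609011358) (.leaf 7257261577288494247391623041858774440073963)) (.node (.leaf 13004226319371310467305030167500392417059705) (.leaf 18471803646127104785982972259301320340136825))) (.node (.node (.leaf 18395368919068199398166107552345292899947251)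 (.leaf 16139758160468406456170880387955052250038676)) (.leaf 1710649710059018364665463214513177272462881))) (.node (.node (.node (.leaf 4781256773343814359798998191498131176330263) (.leaf 15339253260823609856517145805463563965197725)) (.leaf 15469990303587472642324129787732926541835365)) (.node (.node (.leaf 11908615936911794909875820226125663297570084) (.leaf 21939508233504403604218528617520089246049717)) (.leaf 14511627935003127252031048757685019760666433))))) (.node (.node (.node (.node (.node (.leaf 15671418789454361842351131336997704643767033) (.leaf 21286299185142067558834876358422069658784643)) (.node (.leaf 13341601131403078519885880107713674835954052) (.leaf 8362665994963518835800469064857114765945449))) (.node (.node (.leaf 5129535317144244957995797164596160431494071) (.leaf 16613465542056020202827552578074179214236971)) (.leaf 1732432053346387977976902887859218872625341))) (.node (.node (.node (.leaf 11151734559601964730226190625311155201728367) (.leaf 20697918760527105972898464573144028951387207)) (.leaf 6722854543545371979639279132471470424475932)) (.node (.node (.leaf 10017267602734660207569083173697855331093688)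 (.leaf 12720797220368682731499342361764651772962317)) (.leaf 19380993504503494815120036496788934586633780)))) (.node (.node (.node (.node (.leaf 7970580870255650991999788192513507202067869) (.leaf 16515508554929192051717676451314312640586169)) (.node (.leaf 12818821604992722438023462493641850255894409) (.leaf 8808533158164963555595634225156500745026714))) (.node (.node (.leaf 157969456010209890124072428433556363912373) (.leaf 20099062745856614281579042485579998630364600)) (.leaf 8775806451793374497624686819459147000396706))) (.node (.node (.node (.leaf 3191089901413036831780193961859577203022111) (.leaf 3408908300723070093559365061110979920001786)) (.leaf 11908615413898755564372501732811793380346720)) (.node (.node (.leaf 14843581128197408661562856003103765612273011) (.leaf 20251328385211859302880460733170495408844737)) (.leaf 9488956843821768348437725847103935427345582))))))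

/-- Part of the table `rT`. -/
def rT_3 : Tr := (.node (.node (.node (.node (.node (.node (.leaf 11151734413876136401990953542308005968860459) (.leaf 22184567190531793307079907452970941966332370)) (.node (.leaf 16335729130185359890630096587571413310384209) (.leaf 13341601926583844503594464600576352475491505))) (.node (.node (.leaf 2097250317757905920287124267789971805914860) (.leaf 2097250302167078016929423669865275236435484)) (.leaf 20893906071312673266220179881586528551470084))) (.node (.node (.node (.leaf 10621734892773729285510678519700363457782041) (.leaf 21313508202963886178421909755660014516801076)) (.leaf 13368841820892680539509888118184215311783655)) (.node (.node (.leaf 9113196519971122537083545485570983097599088) (.leaf 21553119791115426027978465729183605549196813)) (.leaf 18999777320296222759665700956777567894372074)))) (.node (.node (.node (.node (.leaf 3130994424273591922065863866234295879494093) (.leaf 8862981815760579938525085229043397022843088)) (.node (.leaf 21623671701899912644715836200526378172486707) (.leaf 21852374088633931261032029420413564466418523))) (.node (.node (.leaf 14239177705506058331109802962928344305105850)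 (.leaf 16618912792968545863501094503908656886631176)) (.leaf 14364607236177488728255607731732637632291769))) (.node (.node (.node (.leaf 827721952245833372564441736446221022994673) (.leaf 17719328423112448787180103941491159381605198)) (.leaf 17164162410736914947255934956607728186880522)) (.node (.node (.leaf 14162923741621719083071811431514936899919803) (.leaf 5449753532634064691499038481579583556860)) (.leaf 20033777134985848357696737863132105711050829))))) (.node (.node (.node (.node (.node (.leaf 21890508735600303686757914720691069377667837) (.leaf 4824838655679697242664200404639198434730197)) (.node (.leaf 21302618022189403576263536477532404854520814) (.leaf 17550571148356746645856546163988726602315718))) (.node (.node (.leaf 10610845097119367681891253065335994436121534) (.leaf 17860975505852075300459036017490134206508329)) (.leaf 10621735542203905378439468867609611008151651))) (.node (.node (.node (.leaf 9875759420846799845806456533437726592516824) (.leaf 6532181006958754585028912451263877413943922)) (.leaf 1520124691606808349017505139321369567287099)) (.node (.node (.leaf 12927940971334122443818066404614437566472585)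 (.leaf 16161526162250255845308056605265071929312652)) (.leaf 21286299138768763156619139410103295827915474)))) (.node (.node (.node (.node (.leaf 4585227600338485074301356263758708124520372) (.leaf 20643413775648396860638761718711941262117076)) (.node (.leaf 8775806319041670039488913925469162372820525) (.leaf 18100524066388212585024702190510795904490087))) (.node (.node (.leaf 18689611169484167689360384257736540312959674) (.leaf 9772230500901168769149846747717586271634692)) (.leaf 8704818166270376579178107967946216519040842))) (.node (.node (.node (.leaf 14707444193793840716015566262305106533671353) (.leaf 2896904666990186855897777724375853723587271)) (.leaf 9581578007703445094994829842588267821170254)) (.node (.node (.leaf 15644194336119323782857909687795166352879093) (.leaf 16199645153362345943883423460712698303359633)) (.leaf 4236522620822475887511606769805895375608575))))))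

/-- Part of the table `rT`. -/
def rT_4 : Tr := (.node (.node (.node (.node (.node (.node (.leaf 21650896882101670895914399469935103232845905) (.leaf 795050248363249356886342013211529041082586)) (.node (.leaf 17708438675080487754874794292686419187193131) (.leaf 12523976353585672793449655645046071342912811))) (.node (.node (.leaf 12987880538770630777431673069934309814460319) (.leaf 119860604964588532353231180329580350222642)) (.leaf 11462123298868876320687775082101750625843062))) (.node (.node (.node (.leaf 10273456320257253855440166971595531472848168) (.leaf 7339128939223604780641332678267679658625692)) (.leaf 17245842886822531606902893192416951374031541)) (.node (.node (.leaf 6815370575861579929408828223695118204411905) (.leaf 795049938844619368008351274756728034189965)) (.leaf 18455271582201580230618816057709626235149243)))) (.node (.node (.node (.node (.leaf 3130994572393984550763721412512377245627966) (.leaf 5840649911995820334653762846116908963400352)) (.node (.leaf 21678128451603058029967061981949253001091171) (.leaf 8139466242588847207034102183981013908554980))) (.node (.node (.leaf 19908481088916860320471219846426237908787301)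 (.leaf 7894326902894316740145121119790055446457813)) (.leaf 9799470441571671030007099294015941397761928))) (.node (.node (.node (.leaf 1170824330364858856097710484968912537671967) (.leaf 4895390016712569493456054813612698774974229)) (.leaf 12268045030967072171074335162507094584925987)) (.node (.node (.leaf 3223815094020176652813116147282688265384110) (.leaf 1159936960876486141354605798445145657553206)) (.leaf 17349255501186748871161738602612346967474520))))) (.node (.node (.node (.node (.node (.leaf 17420045981697552929310058865143437517753716) (.leaf 10485566690017099333995199961539251104509049)) (.node (.leaf 12523975884102906887914549986891773660507793) (.leaf 18204780898222205581533653291242633470633325))) (.node (.node (.leaf 4165624473609285711427756516862750965805334) (.leaf 3996863050881711978746452499273894444505271)) (.leaf 22293484400776658326978389165622869340002803))) (.node (.node (.node (.leaf 10621735533440814176407136763500604413984194) (.leaf 14059528735053210874770197524582904246727454)) (.leaf 6962402709612248693889341704950809587117517)) (.node (.node (.leaf 571961334413936832274528119912725825245064)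 (.leaf 15410040339258743038462067916934546154600450)) (.leaf 10937595801619209985737258963238839693013338)))) (.node (.node (.node (.node (.leaf 6581194512691154415061124236446150065157838) (.leaf 18111414121376985746096317863926704141803909)) (.node (.leaf 6831718235906570027423208364982705964226631) (.leaf 16433773966381481201634172982726014809929450))) (.node (.node (.leaf 16510060064960239750896773900288043484548404) (.leaf 19010665229647963043687884286753946682975577)) (.leaf 10959379421757322495995251286393666061331897))) (.node (.node (.node (.leaf 4558017762672771924834265507449619957106412) (.leaf 9478066163909987730420302426548731877334387)) (.leaf 18918149686774857129149695647208478944245286)) (.node (.node (.leaf 21286299071536443144394152097528001272684833) (.leaf 5401834971069335792240529864310980244658155)) (.leaf 16009233014469584866212029309370447045110469))))))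

/-- Part of the table `rT`. -/
def rT_5 : Tr := (.node (.node (.node (.node (.node (.node (.leaf 21650896854505446013325914595526986290549115) (.leaf 13004225824420249608715728204968422945050795)) (.node (.leaf 10937595859103426935993055465240141949297321) (.leaf 6080496142374481604923431761470927902807395))) (.node (.node (.leaf 10616292803246958794978548176822666254366146) (.leaf 5004360658419132357255445515214460290386632)) (.leaf 4585226542836293136652746329861162778895441))) (.node (.node (.node (.leaf 6592085394550638043360047050890582127804074) (.leaf 13684693694551874141594515839158833489958475)) (.leaf 4536223995664957103587401508464986230226618)) (.node (.node (.leaf 14162923427311332446472992142150172584346068) (.leaf 20256759795341249018138808480810555486431705)) (.leaf 4813948745413733214774291895165564694880841)))) (.node (.node (.node (.node (.leaf 12987881089616732792716547709791447710123116) (.leaf 3436147499500334490305346675903532455318239)) (.node (.leaf 18357243093251651923680075857592674218763261) (.leaf 18999776953170235794864928338088515911684243))) (.node (.node (.leaf 14903479682137960552301436950384930006245187)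 (.leaf 10779601073713937603006840302110910564227887)) (.leaf 5570649386015584072982154747061946590856532))) (.node (.node (.node (.leaf 17425265757033352518571750809727198939854082) (.leaf 17719329021546862829368405939080289119791133)) (.leaf 1781653299384769653059502963909835034629847)) (.node (.node (.leaf 1781652672815641304016386280474636519018547) (.leaf 19043338140296681398061291449523083472475171)) (.leaf 1928658488508815098990175895789547067598793))))) (.node (.node (.node (.node (.node (.leaf 7970580352208400389190769073487325742026376) (.leaf 14364607236177511621156401551040229942405269)) (.node (.leaf 19342863079083402964355488335380924340571168) (.leaf 8775805709358252414703666247311923844405915))) (.node (.node (.leaf 17719329135144889707823880284088833219722222) (.leaf 7377243977172780478516077923057584067297576)) (.leaf 4781256262975813708002322715330477075554621))) (.node (.node (.node (.leaf 795050942421464296943397812221711114521708) (.leaf 827721972370034642051657731940079684894780)) (.leaf 13733697403811774233509404255596161571385181)) (.node (.node (.leaf 6837163586066176631581316235895996933789323)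 (.leaf 11117247834033211956831126950498941775163013)) (.leaf 3109210752336520718296554415069442412991679)))) (.node (.node (.node (.node (.leaf 7638623666588892635037538877152071613397094) (.leaf 18999776953170250092152237160173220649392479)) (.node (.leaf 16706046063007825849173345161524551396691440) (.leaf 20534475716431304481548787217610257131948040))) (.node (.node (.leaf 4410769083050309903128656844754261386171751) (.leaf 14604203330134229688368073260458998548817693)) (.leaf 4781256612005019065984749483661331215895660))) (.node (.node (.node (.leaf 15339252834683786221860695149447052145490766) (.leaf 3240150955862011359016401363203630454394939)) (.leaf 21890508653538727095178284474938838195571616)) (.node (.node (.leaf 5347448392412648957286088061909154644000980) (.leaf 8508831051145067396977386084579020727623463)) (.leaf 12906146247580201534942165662890842183544181))))))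

/-- Part of the table `rT`. -/
def rT_6 : Tr := (.node (.node (.node (.node (.node (.node (.leaf 991047336643082274800760357590958597339898) (.leaf 13347047888931513365214583211505279761725618)) (.node (.leaf 20986586747241762948188679271046547751010532) (.leaf 19630633843012744622246672558743879594080522))) (.node (.node (.leaf 20834002593578598842393971577524570645753629) (.leaf 3882461239699271815612848172180978002093513)) (.leaf 10621735738662946092428220822229139848999814))) (.node (.node (.node (.leaf 6809924594762889625622226582066139891827504) (.leaf 3838900555549148515908578444637935258542309)) (.leaf 10621734902182987797740196072153095007870503)) (.node (.node (.leaf 17371049550354742780158059809068282223716569) (.leaf 20943036669892921822749449311822428124375965)) (.leaf 11756365238554612904702849945853950250450666)))) (.node (.node (.node (.node (.leaf 12987880325919257408260337493550622799374577) (.leaf 17082434379044986177433064334883233198626171)) (.node (.leaf 13004225934123235609676654805109538753336619) (.leaf 2609193152358233241964061195268942820739872))) (.node (.node (.leaf 4781255800975314809454274345023893483862342)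 (.leaf 6488630290929683717019296675290329389977707)) (.leaf 21721754551868287528153291298094205346440985))) (.node (.node (.node (.leaf 11151734483385662728905572061278458813583591) (.leaf 14707444849397979038835487649197698642093441)) (.leaf 14162923427311351706046749606499857245325336)) (.node (.node (.leaf 18999776880029956362765966496635762525628173) (.leaf 22217248423133282363308294798015178947574034)) (.leaf 13706487569546202656447674486598901676302681))))) (.node (.node (.node (.node (.node (.leaf 17708438032179006866986815523517273145860777) (.leaf 1699759511263362126445593191040499304932485)) (.node (.leaf 5423627735238157973232081948741562082521834) (.leaf 18830973227534115568983185504217427364473881))) (.node (.node (.leaf 12644617774006384253877486079429810085873368) (.leaf 5846098466886570721429389165446354765904974)) (.leaf 2875110718731695456620745345794535652159485))) (.node (.node (.node (.leaf 4781255889868569064719973836793690198450417) (.leaf 11886848205487968339648538772967548270683777)) (.leaf 3490366335059604929022921145077591427304776)) (.node (.node (.leaf 9401801599550944617200234237850756728490176)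 (.leaf 19717703551132522966258162355353978807703835)) (.leaf 20643413823693028933748040872441096215540786)))) (.node (.node (.node (.node (.leaf 991047644842126473597708416671749971789340) (.leaf 14037734536196095829768568051936970460993911)) (.node (.leaf 21650896981518659299385569058201770620756049) (.leaf 12906146513078975583246043665350310505327989))) (.node (.node (.leaf 18324587630647531123074824985915813957258888) (.leaf 6962403101074723065446515835961594405392160)) (.leaf 18046069367166044330971666791416077305126867))) (.node (.node (.node (.leaf 2652711814659194133805381984911630473244369) (.leaf 5742681105435142856448136631227675111629957)) (.leaf 18999776880029948376088627698232762805006017)) (.node (.node (.leaf 9467173242819053324132676189829395347046868) (.leaf 22032105463994174505715274399060153987583868)) (.leaf 21667232647677000784333342010300249961547996))))))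

/-- Part of the table `rT`. -/
def rT_7 : Tr := (.node (.node (.node (.node (.node (.node (.leaf 20697919457843509723620696405698565059556630) (.leaf 19511677735844988730124457251084586457701859)) (.node (.leaf 4705021138996855991411634228974912114804620) (.leaf 12906146791349432419866919452193006199952923))) (.node (.node (.leaf 5009792144315041640029797206316684665983687) (.leaf 20937594141239090108341710543100165499384874)) (.leaf 11151733749181070680732731500169372760582725))) (.node (.node (.node (.leaf 15671418680673722599334442773752291658889482) (.leaf 21041089026569597519821521219285697785073204)) (.leaf 6831718685747064286185206271542953266899753)) (.node (.node (.leaf 9483514827686782995243521267103553907002400) (.leaf 11413113923209998804008461550140441015856613)) (.leaf 14162924201175131446774430945913917210448383)))) (.node (.node (.node (.node (.leaf 10098955203311563427520302065569987047459712) (.leaf 4862948644403104266937971278118970203722463)) (.node (.leaf 12644618334845400191133091393602154241856467) (.leaf 17637640925798331505140388979509268101803633))) (.node (.node (.leaf 21803375601818172036706680048590364919389659)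 (.leaf 6151230144817105003984606529242490802057414)) (.leaf 7072154070406444076531636020585493516785987))) (.node (.node (.node (.leaf 9902969152825479273605849316750729399814792) (.leaf 15339253690897981292596707637361775739097135)) (.leaf 19821155764960037382738247964921798446703005)) (.node (.node (.leaf 11271594538971081000620232557108369982902108) (.leaf 16477389347877915397107000773149285773662235)) (.leaf 15726070963128313403369616979058698788309060))))) (.node (.node (.node (.node (.node (.leaf 10621735020193256538033615850926460523671389) (.leaf 14821787166085181471149851642756429442537279)) (.node (.leaf 15017869318786975853471073353048290637085614) (.leaf 9527140306965115958860596974531477112840365))) (.node (.node (.leaf 6151231026019788585396309931789793009560493) (.leaf 10229905695104005184597204298044771901493627)) (.leaf 435880725792640468664742604871772740355636))) (.node (.node (.node (.leaf 20529030284533710940592299798787414207829747) (.leaf 6831717846280147189082221568198134750780931)) (.leaf 2402190882794558224665190772396193035429877)) (.node (.node (.leaf 245039874587278280684524050432089591092327)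 (.leaf 15753302216886402123536068898251140157539984)) (.leaf 10937595728146566542135238792015007738331070)))) (.node (.node (.node (.node (.leaf 20697918616426000333254222481363835430191164) (.leaf 18999776681067932516027039310868613027942140)) (.node (.leaf 17550571037359622162631666327751655992923251) (.leaf 9913861884757269307524470946509351014406599))) (.node (.node (.leaf 13336159116525151701330099494351568570549840) (.leaf 20131747316325971289696941431610828297330219)) (.leaf 8308227182168071973279566326497547622118654))) (.node (.node (.node (.leaf 4895390143908295345722192808671315161132625) (.leaf 15764190023973093726988487479078808152695785)) (.leaf 14288372249601180183096321330074919790184448)) (.node (.node (.leaf 10910371068261521717985465232769619418399272) (.leaf 7850765859575909663256703120520789302501449)) (.leaf 10926718426311516219039833190550264272390080))))))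

/-- Part of the table `rT`. -/
def rT_8 : Tr := (.node (.node (.node (.node (.node (.node (.leaf 15311909232032913723558847683194611845006308) (.leaf 8775805976318332312907432426683337457859850)) (.node (.leaf 18705946907603693368358554697982227860586270) (.leaf 15137706530199809448591599087590079950583166))) (.node (.node (.leaf 3130994424273626959394244766619850438526680) (.leaf 20109958359882161338781808625087464421106581)) (.leaf 16935211784269874928756698536820417229762305))) (.node (.node (.node (.leaf 4143841048214721591925164542628088051393833) (.leaf 9467173264242798832475012161055200408666580)) (.leaf 8971835238586531531511068463685590869037551)) (.node (.node (.leaf 8775806062932250148870047633911000708962255) (.leaf 1569064334552831079928792609988339700960564)) (.leaf 18918149414144760935037995309501830999702458)))) (.node (.node (.node (.node (.leaf 12927940090455362954993693705293154387530631) (.leaf 15671419586203964034004917576532445471728717)) (.node (.leaf 14854458333304120823911129004943922389342159) (.leaf 10268013826333819640646997891794935751283159))) (.node (.node (.leaf 4291040741869519192373150416252587751998500)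 (.leaf 14162923945065211840064211703026841025576714)) (.leaf 19870368064714176911139379522124075129652940))) (.node (.node (.node (.leaf 10621735752618967466060061021437811380952615) (.leaf 14179258040202670093428203390623116578739439)) (.leaf 12927940824276912644597999152226384023790673)) (.node (.node (.leaf 11277040192480867802837079782020801571935743) (.leaf 3768091160737440609288279512399062211325949)) (.leaf 19652401257316193696714861912248419650529309))))) (.node (.node (.node (.node (.node (.leaf 13004226791306326293747389666347116744461960) (.leaf 9467173717376495984422944330410528882120511)) (.node (.leaf 5835197145034222397621990729124913029536623) (.leaf 2293289251910977122810544466156458409237127))) (.node (.node (.leaf 8634031322013160859009237680616322620727107) (.leaf 5570649116965277089742170972524626203709296)) (.leaf 2652712109071548805574650788141824711168567))) (.node (.node (.node (.leaf 9113197042071709687125938649854078832603562) (.leaf 21487753884139699574048104310724485483850217)) (.leaf 6831718641648310738840086638088339777753012)) (.node (.node (.leaf 11908614856468013998557473860655808877971980)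 (.leaf 3811642330850124717869301064911640305142064)) (.leaf 18319139300694751964190652077647243756318481)))) (.node (.node (.node (.node (.leaf 20697919054702484669603209643156390767207141) (.leaf 11271594474852189450021141215246584824367316)) (.node (.leaf 10621735015646368161488607179067481242484162) (.leaf 17441600748731768924802785310731397162327211))) (.node (.node (.leaf 11090031544062705643304265062864371920918827) (.leaf 5200331491544402350950855687339444095181261)) (.leaf 18335475414455922670593008792901379490820838))) (.node (.node (.node (.leaf 13733697259883029027877783682726986021236573) (.leaf 19527105438187908461682285559714181186538028)) (.leaf 3855245233199220915504705108602000289232090)) (.node (.node (.leaf 20643414099029399874058042201394249876524892) (.leaf 11271594776549478080858277299899898641424853)) (.leaf 16009233919183556357838957584591470277923559))))))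

/-- The table `rT`. -/
def rT : Tr := (.node (.node (.node rT_1 rT_2) (.node rT_3 rT_4)) (.node (.node rT_5 rT_6) (.node rT_7 rT_8)))

/-- Part of the table `parT`. -/
def parT_1 : Tr := (.node (.node (.node (.node (.node (.node (.leaf 0) (.leaf 1280)) (.node (.leaf 392) (.leaf 3826))) (.node (.node (.leaf 177) (.leaf 2053)) (.leaf 833))) (.node (.node (.node (.leaf 77) (.leaf 1515)) (.leaf 561)) (.node (.node (.leaf 303) (.leaf 2759)) (.leaf 1047)))) (.node (.node (.node (.node (.leaf 23) (.leaf 1367)) (.node (.leaf 465) (.leaf 5066))) (.node (.node (.leaf 240) (.leaf 2354)) (.leaf 944))) (.node (.node (.node (.leaf 114) (.leaf 1741)) (.leaf 686)) (.node (.node (.leaf 353) (.leaf 3301)) (.leaf 1141))))) (.node (.node (.node (.node (.node (.leaf 12) (.leaf 1317)) (.node (.leaf 425) (.leaf 4672))) (.node (.node (.leaf 208) (.leaf 2195)) (.leaf 886))) (.node (.node (.node (.leaf 86) (.leaf 1602)) (.leaf 621)) (.node (.node (.leaf 323) (.leaf 3020)) (.leaf 1108)))) (.node (.node (.node (.node (.leaf 48) (.leaf 1460)) (.node (.leaf 512) (.leaf 6336))) (.node (.node (.leaf 272) (.leaf 2593)) (.leaf 1003)))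 (.node (.node (.node (.leaf 145) (.leaf 1942)) (.leaf 744)) (.node (.node (.leaf 366) (.leaf 3598)) (.leaf 1187))))))

/-- Part of the table `parT`. -/
def parT_2 : Tr := (.node (.node (.node (.node (.node (.node (.leaf 5) (.leaf 1312)) (.node (.leaf 405) (.leaf 4053))) (.node (.node (.leaf 197) (.leaf 2135)) (.leaf 877))) (.node (.node (.node (.leaf 82) (.leaf 1577)) (.leaf 589)) (.node (.node (.leaf 307) (.leaf 2935)) (.leaf 1095)))) (.node (.node (.node (.node (.leaf 43) (.leaf 1399)) (.node (.leaf 482) (.leaf 5610))) (.node (.node (.leaf 267) (.leaf 2503)) (.leaf 951))) (.node (.node (.node (.leaf 140) (.leaf 1827)) (.leaf 718)) (.node (.node (.leaf 360) (.leaf 3445)) (.leaf 1171))))) (.node (.node (.node (.node (.node (.leaf 17) (.leaf 1361)) (.node (.leaf 456) (.leaf 5005))) (.node (.node (.leaf 212) (.leaf 2251)) (.leaf 914))) (.node (.node (.node (.leaf 108) (.leaf 1677)) (.leaf 657)) (.node (.node (.leaf 336) (.leaf 3091)) (.leaf 1124)))) (.node (.node (.node (.node (.leaf 69) (.leaf 1483)) (.node (.leaf 555) (.leaf 6601))) (.node (.node (.leaf 277) (.leaf 2631)) (.leaf 1015))) (.node (.node (.node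 (.leaf 171) (.leaf 2006)) (.leaf 776)) (.node (.node (.leaf 373) (.leaf 3663)) (.leaf 1193))))))

/-- Part of the table `parT`. -/
def parT_3 : Tr := (.node (.node (.node (.node (.node (.node (.leaf 3) (.leaf 1287)) (.node (.leaf 402) (.leaf 3880))) (.node (.node (.leaf 182) (.leaf 2115)) (.leaf 837))) (.node (.node (.node (.leaf 80) (.leaf 1527)) (.leaf 565)) (.node (.node (.leaf 305) (.leaf 2831)) (.leaf 1089)))) (.node (.node (.node (.node (.leaf 37) (.leaf 1393)) (.node (.leaf 471) (.leaf 5355))) (.node (.node (.leaf 247) (.leaf 2382)) (.leaf 948))) (.node (.node (.node (.leaf 118) (.leaf 1801)) (.leaf 711)) (.node (.node (.leaf 357) (.leaf 3415)) (.leaf 1161))))) (.node (.node (.node (.node (.node (.leaf 15) (.leaf 1323)) (.node (.leaf 439) (.leaf 4903))) (.node (.node (.leaf 210) (.leaf 2197)) (.leaf 912))) (.node (.node (.node (.leaf 104) (.leaf 1632)) (.leaf 625)) (.node (.node (.leaf 329) (.leaf 3063)) (.leaf 1120)))) (.node (.node (.node (.node (.leaf 55) (.leaf 1478)) (.node (.leaf 517) (.leaf 6446))) (.node (.node (.leaf 275) (.leaf 2624)) (.leaf 1007))) (.node (.node (.node (.leaf 147) (.leaf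 1965)) (.leaf 749)) (.node (.node (.leaf 370) (.leaf 3627)) (.leaf 1191))))))

/-- Part of the table `parT`. -/
def parT_4 : Tr := (.node (.node (.node (.node (.node (.node (.leaf 9) (.leaf 1314)) (.node (.leaf 419) (.leaf 4547))) (.node (.node (.leaf 204) (.leaf 2192)) (.leaf 883))) (.node (.node (.node (.leaf 84) (.leaf 1591)) (.leaf 599)) (.node (.node (.leaf 310) (.leaf 2981)) (.leaf 1099)))) (.node (.node (.node (.node (.leaf 45) (.leaf 1428)) (.node (.leaf 484) (.leaf 5782))) (.node (.node (.leaf 270) (.leaf 2543)) (.leaf 979))) (.node (.node (.node (.leaf 142) (.leaf 1890)) (.leaf 721)) (.node (.node (.leaf 362) (.leaf 3520)) (.leaf 1173))))) (.node (.node (.node (.node (.node (.leaf 19) (.leaf 1364)) (.node (.leaf 463) (.leaf 5035))) (.node (.node (.leaf 215) (.leaf 2282)) (.leaf 916))) (.node (.node (.node (.leaf 112) (.leaf 1714)) (.leaf 683)) (.node (.node (.leaf 343) (.leaf 3183)) (.leaf 1129)))) (.node (.node (.node (.node (.leaf 75) (.leaf 1487)) (.node (.leaf 557) (.leaf 8235))) (.node (.node (.leaf 295) (.leaf 2702)) (.leaf 1043))) (.node (.node (.node (.leaf 173) (.leaf 2037)) (.leaf 783))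 (.node (.node (.leaf 384) (.leaf 3670)) (.leaf 1252))))))

/-- Part of the table `parT`. -/
def parT_5 : Tr := (.node (.node (.node (.node (.node (.node (.leaf 1) (.leaf 1285)) (.node (.leaf 393) (.leaf 3877))) (.node (.node (.leaf 179) (.leaf 2062)) (.leaf 835))) (.node (.node (.node (.leaf 78) (.leaf 1519)) (.leaf 563)) (.node (.node (.leaf 304) (.leaf 2793)) (.leaf 1079)))) (.node (.node (.node (.node (.leaf 36) (.leaf 1389)) (.node (.leaf 470) (.leaf 5089))) (.node (.node (.leaf 246) (.leaf 2375)) (.leaf 946))) (.node (.node (.node (.leaf 117) (.leaf 1793)) (.leaf 688)) (.node (.node (.leaf 356) (.leaf 3379)) (.leaf 1159))))) (.node (.node (.node (.node (.node (.leaf 13) (.leaf 1319)) (.node (.leaf 438) (.leaf 4901))) (.node (.node (.leaf 209) (.leaf 2196)) (.leaf 908))) (.node (.node (.node (.leaf 87) (.leaf 1603)) (.leaf 624)) (.node (.node (.leaf 328) (.leaf 3028)) (.leaf 1109)))) (.node (.node (.node (.node (.leaf 49) (.leaf 1473)) (.node (.leaf 514) (.leaf 6407))) (.node (.node (.leaf 274) (.leaf 2615)) (.leaf 1005))) (.node (.node (.node (.leaf 146) (.leaf 1943)) (.leaf 745)) (.node (.node (.leaf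 367) (.leaf 3599)) (.leaf 1190))))))

/-- Part of the table `parT`. -/
def parT_6 : Tr := (.node (.node (.node (.node (.node (.node (.leaf 7) (.leaf 1313)) (.node (.leaf 417) (.leaf 4227))) (.node (.node (.leaf 199) (.leaf 2148)) (.leaf 880))) (.node (.node (.node (.leaf 83) (.leaf 1590)) (.leaf 592)) (.node (.node (.leaf 308) (.leaf 2944)) (.leaf 1098)))) (.node (.node (.node (.node (.leaf 44) (.leaf 1418)) (.node (.leaf 483) (.leaf 5750))) (.node (.node (.leaf 269) (.leaf 2539)) (.leaf 978))) (.node (.node (.node (.leaf 141) (.leaf 1858)) (.leaf 720)) (.node (.node (.leaf 361) (.leaf 3447)) (.leaf 1172))))) (.node (.node (.node (.node (.node (.leaf 18) (.leaf 1363)) (.node (.leaf 457) (.leaf 5015))) (.node (.node (.leaf 214) (.leaf 2254)) (.leaf 915))) (.node (.node (.node (.leaf 109) (.leaf 1678)) (.leaf 663)) (.node (.node (.leaf 341) (.leaf 3092)) (.leaf 1126)))) (.node (.node (.node (.node (.leaf 71) (.leaf 1486)) (.node (.leaf 556) (.leaf 7014))) (.node (.node (.leaf 279) (.leaf 2696)) (.leaf 1042))) (.node (.node (.node (.leaf 172) (.leaf 2027)) (.leaf 777)) (.node (.node (.leaf 374) (.leaf 3665))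 (.leaf 1225))))))

/-- Part of the table `parT`. -/
def parT_7 : Tr := (.node (.node (.node (.node (.node (.node (.leaf 4) (.leaf 1291)) (.node (.leaf 403) (.leaf 3942))) (.node (.node (.leaf 183) (.leaf 2119)) (.leaf 876))) (.node (.node (.node (.leaf 81) (.leaf 1545)) (.leaf 588)) (.node (.node (.leaf 306) (.leaf 2863)) (.leaf 1093)))) (.node (.node (.node (.node (.leaf 39) (.leaf 1398)) (.node (.leaf 481) (.leaf 5386))) (.node (.node (.leaf 266) (.leaf 2402)) (.leaf 949))) (.node (.node (.node (.leaf 119) (.leaf 1826)) (.leaf 714)) (.node (.node (.leaf 358) (.leaf 3435)) (.leaf 1167))))) (.node (.node (.node (.node (.node (.leaf 16) (.leaf 1357)) (.node (.leaf 455) (.leaf 4910))) (.node (.node (.leaf 211) (.leaf 2198)) (.leaf 913))) (.node (.node (.node (.leaf 107) (.leaf 1665)) (.leaf 653)) (.node (.node (.leaf 333) (.leaf 3076)) (.leaf 1121)))) (.node (.node (.node (.node (.leaf 68) (.leaf 1481)) (.node (.leaf 519) (.leaf 6542))) (.node (.node (.leaf 276) (.leaf 2628)) (.leaf 1011))) (.node (.node (.node (.leaf 149) (.leaf 2004)) (.leaf 759)) (.node (.node (.leaf 371) (.leaf 3654)) (.leaf 1192))))))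

/-- Part of the table `parT`. -/
def parT_8 : Tr := (.node (.node (.node (.node (.node (.node (.leaf 11) (.leaf 1316)) (.node (.leaf 424) (.leaf 4556))) (.node (.node (.leaf 205) (.leaf 2194)) (.leaf 884))) (.node (.node (.node (.leaf 85) (.leaf 1600)) (.leaf 620)) (.node (.node (.leaf 311) (.leaf 2983)) (.leaf 1103)))) (.node (.node (.node (.node (.leaf 47) (.leaf 1457)) (.node (.leaf 503) (.leaf 5911))) (.node (.node (.leaf 271) (.leaf 2565)) (.leaf 981))) (.node (.node (.node (.leaf 144) (.leaf 1896)) (.leaf 739)) (.node (.node (.leaf 363) (.leaf 3592)) (.leaf 1175))))) (.node (.node (.node (.node (.node (.leaf 22) (.leaf 1366)) (.node (.leaf 464) (.leaf 5043))) (.node (.node (.leaf 237) (.leaf 2286)) (.leaf 940))) (.node (.node (.node (.leaf 113) (.leaf 1715)) (.leaf 685)) (.node (.node (.leaf 352) (.leaf 3236)) (.leaf 1139)))) (.node (.node (.node (.node (.leaf 76) (.leaf 1510)) (.node (.leaf 560) (.leaf 10016))) (.node (.node (.leaf 298) (.leaf 2731)) (.leaf 1044))) (.node (.node (.node (.leaf 176) (.leaf 2052)) (.leaf 787)) (.node (.node (.leaf 390) (.leaf 3750)) (.leaf 1260))))))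

/-- The table `parT`. -/
def parT : Tr := (.node (.node (.node parT_1 parT_2) (.node parT_3 parT_4)) (.node (.node parT_5 parT_6) (.node parT_7 parT_8)))

/-- Part of the table `hpermT0`. -/
def hpermT0_1 : Tr := (.node (.node (.node (.node (.node (.node (.leaf 0) (.leaf 410)) (.node (.leaf 248) (.leaf 381))) (.node (.node (.leaf 64) (.leaf 55)) (.leaf 129))) (.node (.node (.node (.leaf 318) (.leaf 254)) (.leaf 274)) (.node (.node (.leaf 290) (.leaf 29)) (.leaf 271)))) (.node (.node (.node (.node (.leaf 112) (.leaf 139)) (.node (.leaf 35) (.leaf 90))) (.node (.node (.leaf 92) (.leaf 239)) (.leaf 138))) (.node (.node (.node (.leaf 303) (.leaf 36)) (.leaf 267)) (.node (.node (.leaf 16) (.leaf 348)) (.leaf 6))))) (.node (.node (.node (.node (.node (.leaf 104) (.leaf 124)) (.node (.leaf 189) (.leaf 411))) (.node (.node (.leaf 27) (.leaf 314)) (.leaf 167))) (.node (.node (.node (.leaf 179) (.leaf 317)) (.leaf 13)) (.node (.node (.leaf 8) (.leaf 121)) (.leaf 312)))) (.node (.node (.node (.node (.leaf 149) (.leaf 152)) (.node (.leaf 280) (.leaf 213))) (.node (.node (.leaf 164) (.leaf 407)) (.leaf 130))) (.node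 (.node (.node (.leaf 83) (.leaf 232)) (.leaf 195)) (.node (.node (.leaf 120) (.leaf 145)) (.leaf 128))))))

/-- Part of the table `hpermT0`. -/
def hpermT0_2 : Tr := (.node (.node (.node (.node (.node (.node (.leaf 148) (.leaf 260)) (.node (.leaf 73) (.leaf 343))) (.node (.node (.leaf 358) (.leaf 359)) (.leaf 300))) (.node (.node (.node (.leaf 304) (.leaf 345)) (.leaf 88)) (.node (.node (.leaf 74) (.leaf 244)) (.leaf 259)))) (.node (.node (.node (.node (.leaf 126) (.leaf 412)) (.node (.leaf 4) (.leaf 77))) (.node (.node (.leaf 225) (.leaf 109)) (.leaf 19))) (.node (.node (.node (.leaf 7) (.leaf 98)) (.leaf 353)) (.node (.node (.leaf 116) (.leaf 62)) (.leaf 356))))) (.node (.node (.node (.node (.node (.leaf 12) (.leaf 37)) (.node (.leaf 78) (.leaf 75))) (.node (.node (.leaf 380) (.leaf 178)) (.leaf 45))) (.node (.node (.node (.leaf 258) (.leaf 196)) (.leaf 172)) (.node (.node (.leaf 245) (.leaf 142)) (.leaf 299)))) (.node (.node (.node (.node (.leaf 326) (.leaf 155)) (.node (.leaf 156) (.leaf 276))) (.node (.node (.leaf 80) (.leaf 368)) (.leaf 69))) (.node (.node (.node (.leaf 188) (.leaf 351)) (.leaf 60))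 (.node (.node (.leaf 264) (.leaf 76)) (.leaf 199))))))

/-- Part of the table `hpermT0`. -/
def hpermT0_3 : Tr := (.node (.node (.node (.node (.node (.node (.leaf 313) (.leaf 44)) (.node (.leaf 216) (.leaf 375))) (.node (.node (.leaf 229) (.leaf 79)) (.leaf 151))) (.node (.node (.node (.leaf 366) (.leaf 96)) (.leaf 323)) (.node (.node (.leaf 308) (.leaf 51)) (.leaf 65)))) (.node (.node (.node (.node (.leaf 310) (.leaf 160)) (.node (.leaf 177) (.leaf 214))) (.node (.node (.leaf 242) (.leaf 347)) (.leaf 278))) (.node (.node (.node (.leaf 227) (.leaf 414)) (.leaf 332)) (.node (.node (.leaf 335) (.leaf 42)) (.leaf 82))))) (.node (.node (.node (.node (.node (.leaf 91) (.leaf 367)) (.node (.leaf 208) (.leaf 211))) (.node (.node (.leaf 100) (.leaf 153)) (.leaf 357))) (.node (.node (.node (.leaf 370) (.leaf 361)) (.leaf 243)) (.node (.node (.leaf 191) (.leaf 362)) (.leaf 190)))) (.node (.node (.node (.node (.leaf 241) (.leaf 287)) (.node (.leaf 279) (.leaf 256))) (.node (.node (.leaf 400) (.leaf 89)) (.leaf 382))) (.node (.node (.node (.leaf 231) (.leaf 328)) (.leaf 215)) (.node (.node (.leaf 122) (.leaf 70))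 (.leaf 181))))))

/-- Part of the table `hpermT0`. -/
def hpermT0_4 : Tr := (.node (.node (.node (.node (.node (.node (.leaf 240) (.leaf 262)) (.node (.leaf 235) (.leaf 101))) (.node (.node (.leaf 378) (.leaf 28)) (.leaf 175))) (.node (.node (.node (.leaf 385) (.leaf 373)) (.leaf 125)) (.node (.node (.leaf 393) (.leaf 68)) (.leaf 217)))) (.node (.node (.node (.node (.leaf 255) (.leaf 210)) (.node (.leaf 291) (.leaf 349))) (.node (.node (.leaf 269) (.leaf 85)) (.leaf 402))) (.node (.node (.node (.leaf 54) (.leaf 18)) (.leaf 147)) (.node (.node (.leaf 329) (.leaf 205)) (.leaf 185))))) (.node (.node (.node (.node (.node (.leaf 389) (.leaf 265)) (.node (.leaf 364) (.leaf 158))) (.node (.node (.leaf 140) (.leaf 405)) (.leaf 111))) (.node (.node (.node (.leaf 46) (.leaf 251)) (.leaf 401)) (.node (.node (.leaf 237) (.leaf 34)) (.leaf 305)))) (.node (.node (.node (.node (.leaf 30) (.leaf 275)) (.node (.leaf 398) (.leaf 306))) (.node (.node (.leaf 281) (.leaf 203)) (.leaf 222))) (.node (.node (.node (.leaf 372) (.leaf 32)) (.leaf 234)) (.node (.node (.leaf 20) (.leaf 218)) (.leaf 288))))))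

/-- Part of the table `hpermT0`. -/
def hpermT0_5 : Tr := (.node (.node (.node (.node (.node (.node (.leaf 107) (.leaf 319)) (.node (.leaf 192) (.leaf 38))) (.node (.node (.leaf 226) (.leaf 355)) (.leaf 369))) (.node (.node (.node (.leaf 25) (.leaf 277)) (.leaf 171)) (.node (.node (.leaf 363) (.leaf 180)) (.leaf 84)))) (.node (.node (.node (.node (.leaf 99) (.leaf 57)) (.node (.leaf 376) (.leaf 174))) (.node (.node (.leaf 81) (.leaf 249)) (.leaf 197))) (.node (.node (.node (.leaf 143) (.leaf 238)) (.leaf 146)) (.node (.node (.leaf 113) (.leaf 193)) (.leaf 26))))) (.node (.node (.node (.node (.node (.leaf 119) (.leaf 270)) (.node (.leaf 383) (.leaf 102))) (.node (.node (.leaf 132) (.leaf 118)) (.leaf 67))) (.node (.node (.node (.leaf 43) (.leaf 297)) (.leaf 293)) (.node (.node (.leaf 159) (.leaf 298)) (.leaf 379)))) (.node (.node (.node (.node (.leaf 33) (.leaf 94)) (.node (.leaf 330) (.leaf 413))) (.node (.node (.leaf 346) (.leaf 292)) (.leaf 230))) (.node (.node (.node (.leaf 273) (.leaf 2)) (.leaf 246)) (.node (.node (.leaf 360) (.leaf 263)) (.leaf 337))))))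

/-- Part of the table `hpermT0`. -/
def hpermT0_6 : Tr := (.node (.node (.node (.node (.node (.node (.leaf 63) (.leaf 331)) (.node (.leaf 133) (.leaf 14))) (.node (.node (.leaf 220) (.leaf 187)) (.leaf 209))) (.node (.node (.node (.leaf 268) (.leaf 169)) (.leaf 311)) (.node (.node (.leaf 390) (.leaf 202)) (.leaf 66)))) (.node (.node (.node (.node (.leaf 21) (.leaf 289)) (.node (.leaf 24) (.leaf 334))) (.node (.node (.leaf 342) (.leaf 131)) (.leaf 408))) (.node (.node (.node (.leaf 223) (.leaf 309)) (.leaf 250)) (.node (.node (.leaf 123) (.leaf 294)) (.leaf 108))))) (.node (.node (.node (.node (.node (.leaf 168) (.leaf 86)) (.node (.leaf 397) (.leaf 141))) (.node (.node (.leaf 404) (.leaf 61)) (.leaf 374))) (.node (.node (.node (.leaf 204) (.leaf 135)) (.leaf 183)) (.node (.node (.leaf 340) (.leaf 93)) (.leaf 110)))) (.node (.node (.node (.node (.leaf 352) (.leaf 71)) (.node (.leaf 219) (.leaf 409))) (.node (.node (.leaf 365) (.leaf 406)) (.leaf 391))) (.node (.node (.node (.leaf 333) (.leaf 296)) (.leaf 136)) (.node (.node (.leaf 166) (.leaf 384)) (.leaf 295))))))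

/-- Part of the table `hpermT0`. -/
def hpermT0_7 : Tr := (.node (.node (.node (.node (.node (.node (.leaf 127) (.leaf 228)) (.node (.leaf 341) (.leaf 31))) (.node (.node (.leaf 201) (.leaf 162)) (.leaf 184))) (.node (.node (.node (.leaf 144) (.leaf 150)) (.leaf 163)) (.node (.node (.leaf 17) (.leaf 321)) (.leaf 50)))) (.node (.node (.node (.node (.leaf 212) (.leaf 286)) (.node (.leaf 182) (.leaf 403))) (.node (.node (.leaf 56) (.leaf 339)) (.leaf 394))) (.node (.node (.node (.leaf 354) (.leaf 307)) (.leaf 40)) (.node (.node (.leaf 115) (.leaf 247)) (.leaf 170))))) (.node (.node (.node (.node (.node (.leaf 103) (.leaf 176)) (.node (.leaf 272) (.leaf 327))) (.node (.node (.leaf 396) (.leaf 261)) (.leaf 350))) (.node (.node (.node (.leaf 41) (.leaf 236)) (.leaf 161)) (.node (.node (.leaf 1) (.leaf 97)) (.leaf 134)))) (.node (.node (.node (.node (.leaf 72) (.leaf 95)) (.node (.leaf 284) (.leaf 392))) (.node (.node (.leaf 10) (.leaf 338)) (.leaf 157))) (.node (.node (.node (.leaf 15) (.leaf 39)) (.leaf 325)) (.node (.node (.leaf 117) (.leaf 233)) (.leaf 302))))))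

/-- Part of the table `hpermT0`. -/
def hpermT0_8 : Tr := (.node (.node (.node (.node (.node (.node (.leaf 52) (.leaf 377)) (.node (.leaf 301) (.leaf 221))) (.node (.node (.leaf 285) (.leaf 395)) (.leaf 252))) (.node (.node (.node (.leaf 315) (.leaf 253)) (.leaf 200)) (.node (.node (.leaf 11) (.leaf 324)) (.leaf 58)))) (.node (.node (.node (.node (.leaf 23) (.leaf 154)) (.node (.leaf 194) (.leaf 344))) (.node (.node (.leaf 87) (.leaf 388)) (.leaf 186))) (.node (.node (.node (.leaf 320) (.leaf 165)) (.leaf 173)) (.node (.node (.leaf 9) (.leaf 386)) (.leaf 371))))) (.node (.node (.node (.node (.node (.leaf 59) (.leaf 224)) (.node (.leaf 49) (.leaf 399))) (.node (.node (.leaf 322) (.leaf 114)) (.leaf 207))) (.node (.node (.node (.leaf 47) (.leaf 48)) (.leaf 198)) (.node (.node (.leaf 206) (.leaf 266)) (.leaf 336)))) (.node (.node (.node (.node (.leaf 387) (.leaf 282)) (.node (.leaf 105) (.leaf 415))) (.node (.node (.leaf 283) (.leaf 316)) (.leaf 53))) (.node (.node (.node (.leaf 5) (.leaf 257)) (.leaf 106)) (.node (.node (.leaf 3) (.leaf 137)) (.leaf 22))))))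

/-- The table `hpermT0`. -/
def hpermT0 : Tr := (.node (.node (.node hpermT0_1 hpermT0_2) (.node hpermT0_3 hpermT0_4)) (.node (.node hpermT0_5 hpermT0_6) (.node hpermT0_7 hpermT0_8)))

/-- Part of the table `hpermT1`. -/
def hpermT1_1 : Tr := (.node (.node (.node (.node (.node (.node (.leaf 0) (.leaf 347)) (.node (.leaf 262) (.leaf 142))) (.node (.node (.leaf 344) (.leaf 265)) (.leaf 210))) (.node (.node (.node (.leaf 258) (.leaf 388)) (.leaf 183)) (.node (.node (.leaf 351) (.leaf 38)) (.leaf 60)))) (.node (.node (.node (.node (.leaf 323) (.leaf 272)) (.node (.leaf 415) (.leaf 251))) (.node (.node (.leaf 198) (.leaf 130)) (.leaf 398))) (.node (.node (.node (.leaf 399) (.leaf 270)) (.leaf 203)) (.node (.node (.leaf 299) (.leaf 13)) (.leaf 175))))) (.node (.node (.node (.node (.node (.leaf 199) (.leaf 126)) (.node (.leaf 318) (.leaf 282))) (.node (.node (.leaf 307) (.leaf 185)) (.leaf 57))) (.node (.node (.node (.leaf 85) (.leaf 196)) (.leaf 397)) (.node (.node (.leaf 293) (.leaf 95)) (.leaf 232)))) (.node (.node (.node (.node (.leaf 193) (.leaf 267)) (.node (.leaf 350) (.leaf 207))) (.node (.node (.leaf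 101) (.leaf 64)) (.leaf 306))) (.node (.node (.node (.leaf 273) (.leaf 122)) (.leaf 1)) (.node (.node (.leaf 120) (.leaf 259)) (.leaf 248))))))

/-- Part of the table `hpermT1`. -/
def hpermT1_2 : Tr := (.node (.node (.node (.node (.node (.node (.leaf 188) (.leaf 174)) (.node (.leaf 211) (.leaf 288))) (.node (.node (.leaf 68) (.leaf 119)) (.leaf 296))) (.node (.node (.node (.leaf 55) (.leaf 404)) (.leaf 268)) (.node (.node (.leaf 100) (.leaf 127)) (.leaf 237)))) (.node (.node (.node (.node (.leaf 366) (.leaf 50)) (.node (.leaf 271) (.leaf 292))) (.node (.node (.leaf 326) (.leaf 29)) (.leaf 212))) (.node (.node (.node (.leaf 15) (.leaf 58)) (.leaf 313)) (.node (.node (.leaf 159) (.leaf 246)) (.leaf 305))))) (.node (.node (.node (.node (.node (.leaf 165) (.leaf 164)) (.node (.leaf 172) (.leaf 214))) (.node (.node (.leaf 182) (.leaf 410)) (.leaf 157))) (.node (.node (.node (.leaf 189) (.leaf 291)) (.leaf 140)) (.node (.node (.leaf 59) (.leaf 123)) (.leaf 162)))) (.node (.node (.node (.node (.leaf 43) (.leaf 179)) (.node (.leaf 156) (.leaf 330))) (.node (.node (.leaf 6) (.leaf 141)) (.leaf 233))) (.node (.node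 (.node (.leaf 224) (.leaf 277)) (.leaf 4)) (.node (.node (.leaf 34) (.leaf 355)) (.leaf 169))))))

/-- Part of the table `hpermT1`. -/
def hpermT1_3 : Tr := (.node (.node (.node (.node (.node (.node (.leaf 357) (.leaf 32)) (.node (.leaf 336) (.leaf 222))) (.node (.node (.leaf 173) (.leaf 354)) (.leaf 98))) (.node (.node (.node (.leaf 124) (.leaf 289)) (.leaf 236)) (.node (.node (.leaf 194) (.leaf 322)) (.leaf 99)))) (.node (.node (.node (.node (.leaf 46) (.leaf 229)) (.node (.leaf 359) (.leaf 249))) (.node (.node (.leaf 22) (.leaf 178)) (.leaf 192))) (.node (.node (.node (.leaf 276) (.leaf 216)) (.leaf 338)) (.node (.node (.leaf 230) (.leaf 370)) (.leaf 103))))) (.node (.node (.node (.node (.node (.leaf 10) (.leaf 191)) (.node (.leaf 125) (.leaf 170))) (.node (.node (.leaf 163) (.leaf 412)) (.leaf 353))) (.node (.node (.node (.leaf 23) (.leaf 298)) (.leaf 394)) (.node (.node (.leaf 281) (.leaf 139)) (.leaf 51)))) (.node (.node (.node (.node (.leaf 393) (.leaf 392)) (.node (.leaf 221) (.leaf 332))) (.node (.node (.leaf 14) (.leaf 363)) (.leaf 387))) (.node (.node (.node (.leaf 308) (.leaf 62)) (.leaf 261))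 (.node (.node (.leaf 312) (.leaf 121)) (.leaf 369))))))

/-- Part of the table `hpermT1`. -/
def hpermT1_4 : Tr := (.node (.node (.node (.node (.node (.node (.leaf 92) (.leaf 128)) (.node (.leaf 269) (.leaf 37))) (.node (.node (.leaf 283) (.leaf 84)) (.leaf 80))) (.node (.node (.node (.leaf 352) (.leaf 206)) (.leaf 158)) (.node (.node (.leaf 205) (.leaf 297)) (.leaf 114)))) (.node (.node (.node (.node (.leaf 82) (.leaf 315)) (.node (.leaf 317) (.leaf 309))) (.node (.node (.leaf 118) (.leaf 155)) (.leaf 396))) (.node (.node (.node (.leaf 143) (.leaf 310)) (.leaf 76)) (.node (.node (.leaf 86) (.leaf 241)) (.leaf 372))))) (.node (.node (.node (.node (.node (.leaf 90) (.leaf 304)) (.node (.leaf 384) (.leaf 208))) (.node (.node (.leaf 78) (.leaf 287)) (.leaf 294))) (.node (.node (.node (.leaf 18) (.leaf 389)) (.leaf 260)) (.node (.node (.leaf 145) (.leaf 20)) (.leaf 3)))) (.node (.node (.node (.node (.leaf 19) (.leaf 343)) (.node (.leaf 166) (.leaf 239))) (.node (.node (.leaf 367) (.leaf 152)) (.leaf 386))) (.node (.node (.node (.leaf 314) (.leaf 136)) (.leaf 79)) (.node (.node (.leaf 264) (.leaf 187)) (.leaf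 275))))))

/-- Part of the table `hpermT1`. -/
def hpermT1_5 : Tr := (.node (.node (.node (.node (.node (.node (.leaf 184) (.leaf 17)) (.node (.leaf 39) (.leaf 109))) (.node (.node (.leaf 319) (.leaf 147)) (.leaf 24))) (.node (.node (.node (.leaf 33) (.leaf 290)) (.leaf 21)) (.node (.node (.leaf 395) (.leaf 202)) (.leaf 41)))) (.node (.node (.node (.node (.leaf 257) (.leaf 56)) (.node (.leaf 110) (.leaf 401))) (.node (.node (.leaf 333) (.leaf 75)) (.leaf 77))) (.node (.node (.node (.leaf 49) (.leaf 244)) (.leaf 9)) (.node (.node (.leaf 25) (.leaf 250)) (.leaf 374))))) (.node (.node (.node (.node (.node (.leaf 177) (.leaf 320)) (.node (.leaf 279) (.leaf 26))) (.node (.node (.leaf 243) (.leaf 235)) (.leaf 285))) (.node (.node (.node (.leaf 225) (.leaf 358)) (.leaf 252)) (.node (.node (.leaf 105) (.leaf 403)) (.leaf 220)))) (.node (.node (.node (.node (.leaf 113) (.leaf 106)) (.node (.leaf 227) (.leaf 379))) (.node (.node (.leaf 327) (.leaf 197)) (.leaf 53))) (.node (.node (.node (.leaf 200) (.leaf 180)) (.leaf 328)) (.node (.node (.leaf 378) (.leaf 339)) (.leaf 402))))))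

/-- Part of the table `hpermT1`. -/
def hpermT1_6 : Tr := (.node (.node (.node (.node (.node (.node (.leaf 5) (.leaf 186)) (.node (.leaf 91) (.leaf 302))) (.node (.node (.leaf 413) (.leaf 31)) (.leaf 345))) (.node (.node (.node (.leaf 390) (.leaf 104)) (.leaf 12)) (.node (.node (.leaf 88) (.leaf 2)) (.leaf 274)))) (.node (.node (.node (.node (.leaf 161) (.leaf 316)) (.node (.leaf 181) (.leaf 411))) (.node (.node (.leaf 40) (.leaf 111)) (.leaf 213))) (.node (.node (.node (.leaf 217) (.leaf 406)) (.leaf 149)) (.node (.node (.leaf 381) (.leaf 131)) (.leaf 7))))) (.node (.node (.node (.node (.node (.leaf 368) (.leaf 134)) (.node (.leaf 348) (.leaf 168))) (.node (.node (.leaf 209) (.leaf 81)) (.leaf 102))) (.node (.node (.node (.leaf 93) (.leaf 107)) (.leaf 66)) (.node (.node (.leaf 385) (.leaf 219)) (.leaf 228)))) (.node (.node (.node (.node (.leaf 340) (.leaf 201)) (.node (.leaf 204) (.leaf 69))) (.node (.node (.leaf 45) (.leaf 349)) (.leaf 154))) (.node (.node (.node (.leaf 61) (.leaf 150)) (.leaf 44)) (.node (.node (.leaf 138) (.leaf 117)) (.leaf 215))))))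

/-- Part of the table `hpermT1`. -/
def hpermT1_7 : Tr := (.node (.node (.node (.node (.node (.node (.leaf 238) (.leaf 376)) (.node (.leaf 373) (.leaf 218))) (.node (.node (.leaf 371) (.leaf 16)) (.leaf 135))) (.node (.node (.node (.leaf 35) (.leaf 300)) (.leaf 74)) (.node (.node (.leaf 226) (.leaf 380)) (.leaf 153)))) (.node (.node (.node (.node (.leaf 30) (.leaf 254)) (.node (.leaf 321) (.leaf 361))) (.node (.node (.leaf 167) (.leaf 377)) (.leaf 132))) (.node (.node (.node (.leaf 234) (.leaf 72)) (.leaf 284)) (.node (.node (.leaf 63) (.leaf 67)) (.leaf 73))))) (.node (.node (.node (.node (.node (.leaf 255) (.leaf 280)) (.node (.leaf 362) (.leaf 97))) (.node (.node (.leaf 337) (.leaf 295)) (.leaf 176))) (.node (.node (.node (.leaf 28) (.leaf 112)) (.leaf 171)) (.node (.node (.leaf 301) (.leaf 346)) (.leaf 329)))) (.node (.node (.node (.node (.leaf 27) (.leaf 70)) (.node (.leaf 342) (.leaf 405))) (.node (.node (.leaf 133) (.leaf 256)) (.leaf 365))) (.node (.node (.node (.leaf 108) (.leaf 278)) (.leaf 382)) (.node (.node (.leaf 364) (.leaf 409)) (.leaf 400))))))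

/-- Part of the table `hpermT1`. -/
def hpermT1_8 : Tr := (.node (.node (.node (.node (.node (.node (.leaf 245) (.leaf 263)) (.node (.leaf 195) (.leaf 383))) (.node (.node (.leaf 247) (.leaf 89)) (.leaf 8))) (.node (.node (.node (.leaf 129) (.leaf 331)) (.leaf 83)) (.node (.node (.leaf 242) (.leaf 146)) (.leaf 151)))) (.node (.node (.node (.node (.leaf 42) (.leaf 137)) (.node (.leaf 231) (.leaf 407))) (.node (.node (.leaf 87) (.leaf 286)) (.leaf 253))) (.node (.node (.node (.leaf 36) (.leaf 311)) (.leaf 160)) (.node (.node (.leaf 324) (.leaf 375)) (.leaf 71))))) (.node (.node (.node (.node (.node (.leaf 52) (.leaf 148)) (.node (.leaf 54) (.leaf 48))) (.node (.node (.leaf 190) (.leaf 223)) (.leaf 408))) (.node (.node (.node (.leaf 47) (.leaf 303)) (.leaf 240)) (.node (.node (.leaf 341) (.leaf 94)) (.leaf 414)))) (.node (.node (.node (.node (.leaf 325) (.leaf 334)) (.node (.leaf 116) (.leaf 144))) (.node (.node (.leaf 360) (.leaf 96)) (.leaf 335))) (.node (.node (.node (.leaf 115) (.leaf 65)) (.leaf 266)) (.node (.node (.leaf 356) (.leaf 391)) (.leaf 11))))))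

/-- The table `hpermT1`. -/
def hpermT1 : Tr := (.node (.node (.node hpermT1_1 hpermT1_2) (.node hpermT1_3 hpermT1_4)) (.node (.node hpermT1_5 hpermT1_6) (.node hpermT1_7 hpermT1_8)))

/-- Part of the table `hpermT2`. -/
def hpermT2_1 : Tr := (.node (.node (.node (.node (.node (.node (.leaf 0) (.leaf 24)) (.node (.leaf 206) (.leaf 384))) (.node (.node (.leaf 5) (.leaf 286)) (.leaf 274))) (.node (.node (.node (.leaf 322) (.leaf 236)) (.leaf 14)) (.node (.node (.leaf 190) (.leaf 212)) (.leaf 380)))) (.node (.node (.node (.node (.leaf 304) (.leaf 147)) (.node (.leaf 376) (.leaf 270))) (.node (.node (.leaf 408) (.leaf 89)) (.leaf 302))) (.node (.node (.node (.leaf 33) (.leaf 16)) (.leaf 415)) (.node (.node (.leaf 314) (.leaf 332)) (.leaf 240))))) (.node (.node (.node (.node (.node (.leaf 234) (.leaf 106)) (.node (.leaf 306) (.leaf 197))) (.node (.node (.leaf 99) (.leaf 36)) (.leaf 403))) (.node (.node (.node (.leaf 21) (.leaf 404)) (.leaf 329)) (.node (.node (.leaf 290) (.leaf 360)) (.leaf 83)))) (.node (.node (.node (.node (.leaf 256) (.leaf 105)) (.node (.leaf 255) (.leaf 80))) (.node (.node (.leaf 266)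 (.leaf 344)) (.leaf 330))) (.node (.node (.node (.leaf 230) (.leaf 217)) (.leaf 292)) (.node (.node (.leaf 123) (.leaf 144)) (.leaf 373))))))

/-- Part of the table `hpermT2`. -/
def hpermT2_2 : Tr := (.node (.node (.node (.node (.node (.node (.leaf 362) (.leaf 260)) (.node (.leaf 100) (.leaf 125))) (.node (.node (.leaf 115) (.leaf 363)) (.leaf 1))) (.node (.node (.node (.leaf 328) (.leaf 184)) (.leaf 279)) (.node (.node (.leaf 132) (.leaf 263)) (.leaf 311)))) (.node (.node (.node (.node (.leaf 348) (.leaf 79)) (.node (.leaf 148) (.leaf 296))) (.node (.node (.leaf 84) (.leaf 18)) (.leaf 352))) (.node (.node (.node (.leaf 130) (.leaf 218)) (.leaf 194)) (.node (.node (.leaf 110) (.leaf 93)) (.leaf 41))))) (.node (.node (.node (.node (.node (.leaf 11) (.leaf 149)) (.node (.leaf 70) (.leaf 187))) (.node (.node (.leaf 91) (.leaf 368)) (.leaf 343))) (.node (.node (.node (.leaf 359) (.leaf 2)) (.leaf 121)) (.node (.node (.leaf 199) (.leaf 364)) (.leaf 288)))) (.node (.node (.node (.node (.leaf 109) (.leaf 171)) (.node (.leaf 381) (.leaf 318))) (.node (.node (.leaf 198) (.leaf 20)) (.leaf 220))) (.node (.node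 (.node (.leaf 143) (.leaf 119)) (.leaf 379)) (.node (.node (.leaf 269) (.leaf 224)) (.leaf 146))))))

/-- Part of the table `hpermT2`. -/
def hpermT2_3 : Tr := (.node (.node (.node (.node (.node (.node (.leaf 300) (.leaf 97)) (.node (.leaf 52) (.leaf 309))) (.node (.node (.leaf 299) (.leaf 32)) (.leaf 180))) (.node (.node (.node (.leaf 250) (.leaf 104)) (.leaf 138)) (.node (.node (.leaf 301) (.leaf 395)) (.leaf 17)))) (.node (.node (.node (.node (.leaf 340) (.leaf 192)) (.node (.leaf 252) (.leaf 345))) (.node (.node (.leaf 145) (.leaf 281)) (.leaf 275))) (.node (.node (.node (.leaf 351) (.leaf 136)) (.leaf 126)) (.node (.node (.leaf 163) (.leaf 370)) (.leaf 35))))) (.node (.node (.node (.node (.node (.leaf 271) (.leaf 88)) (.node (.leaf 162) (.leaf 122))) (.node (.node (.leaf 273) (.leaf 216)) (.leaf 337))) (.node (.node (.node (.leaf 222) (.leaf 223)) (.leaf 53)) (.node (.node (.leaf 264) (.leaf 4)) (.leaf 8)))) (.node (.node (.node (.node (.leaf 193) (.leaf 249)) (.node (.leaf 367) (.leaf 37))) (.node (.node (.leaf 219) (.leaf 277)) (.leaf 308))) (.node (.node (.node (.leaf 411) (.leaf 112)) (.leaf 333))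 (.node (.node (.leaf 394) (.leaf 283)) (.leaf 34))))))

/-- Part of the table `hpermT2`. -/
def hpermT2_4 : Tr := (.node (.node (.node (.node (.node (.node (.leaf 207) (.leaf 341)) (.node (.leaf 369) (.leaf 13))) (.node (.node (.leaf 140) (.leaf 310)) (.leaf 92))) (.node (.node (.node (.leaf 38) (.leaf 111)) (.leaf 45)) (.node (.node (.leaf 94) (.leaf 358)) (.leaf 56)))) (.node (.node (.node (.node (.leaf 159) (.leaf 55)) (.node (.leaf 31) (.leaf 23))) (.node (.node (.leaf 191) (.leaf 161)) (.leaf 195))) (.node (.node (.node (.leaf 355) (.leaf 326)) (.leaf 413)) (.node (.node (.leaf 101) (.leaf 397)) (.leaf 158))))) (.node (.node (.node (.node (.node (.leaf 160) (.leaf 400)) (.node (.leaf 87) (.leaf 39))) (.node (.node (.leaf 95) (.leaf 291)) (.leaf 128))) (.node (.node (.node (.leaf 3) (.leaf 208)) (.leaf 303)) (.node (.node (.leaf 116) (.leaf 383)) (.leaf 29)))) (.node (.node (.node (.node (.leaf 225) (.leaf 320)) (.node (.leaf 246) (.leaf 293))) (.node (.node (.leaf 102) (.leaf 165)) (.leaf 42))) (.node (.node (.node (.leaf 173) (.leaf 412)) (.leaf 96)) (.node (.node (.leaf 178) (.leaf 135)) (.leaf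 229))))))

/-- Part of the table `hpermT2`. -/
def hpermT2_5 : Tr := (.node (.node (.node (.node (.node (.node (.leaf 196) (.leaf 307)) (.node (.leaf 389) (.leaf 339))) (.node (.node (.leaf 27) (.leaf 321)) (.leaf 26))) (.node (.node (.node (.leaf 48) (.leaf 239)) (.leaf 342)) (.node (.node (.leaf 258) (.leaf 67)) (.leaf 30)))) (.node (.node (.node (.node (.leaf 226) (.leaf 74)) (.node (.leaf 82) (.leaf 25))) (.node (.node (.leaf 253) (.leaf 202)) (.leaf 231))) (.node (.node (.node (.leaf 233) (.leaf 19)) (.leaf 245)) (.node (.node (.leaf 113) (.leaf 134)) (.leaf 235))))) (.node (.node (.node (.node (.node (.leaf 227) (.leaf 157)) (.node (.leaf 181) (.leaf 347))) (.node (.node (.leaf 57) (.leaf 168)) (.leaf 151))) (.node (.node (.node (.leaf 244) (.leaf 407)) (.leaf 189)) (.node (.node (.leaf 280) (.leaf 243)) (.leaf 49)))) (.node (.node (.node (.node (.leaf 401) (.leaf 338)) (.node (.leaf 7) (.leaf 139))) (.node (.node (.leaf 336) (.leaf 402)) (.leaf 312))) (.node (.node (.node (.leaf 73) (.leaf 107)) (.leaf 315)) (.node (.node (.leaf 172) (.leaf 43)) (.leaf 282))))))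

/-- Part of the table `hpermT2`. -/
def hpermT2_6 : Tr := (.node (.node (.node (.node (.node (.node (.leaf 64) (.leaf 215)) (.node (.leaf 69) (.leaf 129))) (.node (.node (.leaf 133) (.leaf 247)) (.leaf 392))) (.node (.node (.node (.leaf 410) (.leaf 414)) (.leaf 350)) (.node (.node (.leaf 118) (.leaf 287)) (.leaf 254)))) (.node (.node (.node (.node (.leaf 40) (.leaf 346)) (.node (.leaf 268) (.leaf 387))) (.node (.node (.leaf 155) (.leaf 262)) (.leaf 175))) (.node (.node (.node (.leaf 170) (.leaf 386)) (.leaf 137)) (.node (.node (.leaf 117) (.leaf 248)) (.leaf 177))))) (.node (.node (.node (.node (.node (.leaf 390) (.leaf 124)) (.node (.leaf 391) (.leaf 374))) (.node (.node (.leaf 285) (.leaf 186)) (.leaf 221))) (.node (.node (.node (.leaf 166) (.leaf 98)) (.leaf 62)) (.node (.node (.leaf 28) (.leaf 183)) (.leaf 237)))) (.node (.node (.node (.node (.leaf 238) (.leaf 77)) (.node (.leaf 265) (.leaf 182))) (.node (.node (.leaf 372) (.leaf 349)) (.leaf 205))) (.node (.node (.node (.leaf 331) (.leaf 71)) (.leaf 169)) (.node (.node (.leaf 388) (.leaf 156)) (.leaf 81))))))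

/-- Part of the table `hpermT2`. -/
def hpermT2_7 : Tr := (.node (.node (.node (.node (.node (.node (.leaf 46) (.leaf 203)) (.node (.leaf 131) (.leaf 405))) (.node (.node (.leaf 353) (.leaf 251)) (.leaf 214))) (.node (.node (.node (.leaf 242) (.leaf 334)) (.leaf 114)) (.node (.node (.leaf 72) (.leaf 54)) (.leaf 9)))) (.node (.node (.node (.node (.leaf 305) (.leaf 210)) (.node (.leaf 272) (.leaf 200))) (.node (.node (.leaf 232) (.leaf 385)) (.leaf 211))) (.node (.node (.node (.leaf 59) (.leaf 257)) (.leaf 179)) (.node (.node (.leaf 68) (.leaf 75)) (.leaf 361))))) (.node (.node (.node (.node (.node (.leaf 12) (.leaf 267)) (.node (.leaf 409) (.leaf 354))) (.node (.node (.leaf 371) (.leaf 61)) (.leaf 259))) (.node (.node (.node (.leaf 377) (.leaf 66)) (.leaf 284)) (.node (.node (.leaf 313) (.leaf 324)) (.leaf 241)))) (.node (.node (.node (.node (.leaf 65) (.leaf 378)) (.node (.leaf 85) (.leaf 58))) (.node (.node (.leaf 76) (.leaf 393)) (.leaf 90))) (.node (.node (.node (.leaf 51) (.leaf 185)) (.leaf 396)) (.node (.node (.leaf 120) (.leaf 188)) (.leaf 323))))))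

/-- Part of the table `hpermT2`. -/
def hpermT2_8 : Tr := (.node (.node (.node (.node (.node (.node (.leaf 153) (.leaf 356)) (.node (.leaf 382) (.leaf 141))) (.node (.node (.leaf 317) (.leaf 15)) (.leaf 108))) (.node (.node (.node (.leaf 398) (.leaf 295)) (.leaf 167)) (.node (.node (.leaf 103) (.leaf 44)) (.leaf 209)))) (.node (.node (.node (.node (.leaf 406) (.leaf 164)) (.node (.leaf 201) (.leaf 297))) (.node (.node (.leaf 142) (.leaf 204)) (.leaf 261))) (.node (.node (.node (.leaf 278) (.leaf 228)) (.leaf 365)) (.node (.node (.leaf 316) (.leaf 375)) (.leaf 325))))) (.node (.node (.node (.node (.node (.leaf 327) (.leaf 10)) (.node (.leaf 60) (.leaf 399))) (.node (.node (.leaf 276) (.leaf 335)) (.leaf 6))) (.node (.node (.node (.leaf 47) (.leaf 174)) (.leaf 213)) (.node (.node (.leaf 294) (.leaf 154)) (.leaf 289)))) (.node (.node (.node (.node (.leaf 150) (.leaf 357)) (.node (.leaf 22) (.leaf 176))) (.node (.node (.leaf 78) (.leaf 50)) (.leaf 298))) (.node (.node (.node (.leaf 63) (.leaf 319)) (.leaf 86)) (.node (.node (.leaf 127) (.leaf 366)) (.leaf 152))))))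

/-- The table `hpermT2`. -/
def hpermT2 : Tr := (.node (.node (.node hpermT2_1 hpermT2_2) (.node hpermT2_3 hpermT2_4)) (.node (.node hpermT2_5 hpermT2_6) (.node hpermT2_7 hpermT2_8)))

/-- Part of the table `hpermT3`. -/
def hpermT3_1 : Tr := (.node (.node (.node (.node (.node (.node (.leaf 0) (.leaf 415)) (.node (.leaf 266) (.leaf 409))) (.node (.node (.leaf 72) (.leaf 287)) (.leaf 277))) (.node (.node (.node (.leaf 405) (.leaf 411)) (.leaf 354)) (.node (.node (.leaf 412) (.leaf 352)) (.leaf 224)))) (.node (.node (.node (.node (.leaf 357) (.leaf 5)) (.node (.leaf 268) (.leaf 79))) (.node (.node (.leaf 73) (.leaf 179)) (.leaf 383))) (.node (.node (.node (.leaf 54) (.leaf 286)) (.leaf 168)) (.node (.node (.leaf 112) (.leaf 61)) (.leaf 175))))) (.node (.node (.node (.node (.node (.leaf 83) (.leaf 37)) (.node (.leaf 169) (.leaf 31))) (.node (.node (.leaf 64) (.leaf 184)) (.leaf 388))) (.node (.node (.node (.leaf 395) (.leaf 53)) (.leaf 176)) (.node (.node (.leaf 365) (.leaf 180)) (.leaf 369)))) (.node (.node (.node (.node (.leaf 329) (.leaf 173)) (.node (.leaf 391) (.leaf 97))) (.node (.node (.leaf 93) (.leaf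 226)) (.leaf 346))) (.node (.node (.node (.leaf 9) (.leaf 387)) (.leaf 328)) (.node (.node (.leaf 3) (.leaf 389)) (.leaf 78))))))

/-- Part of the table `hpermT3`. -/
def hpermT3_2 : Tr := (.node (.node (.node (.node (.node (.node (.leaf 377) (.leaf 380)) (.node (.leaf 195) (.leaf 200))) (.node (.node (.leaf 68) (.leaf 347)) (.leaf 183))) (.node (.node (.node (.leaf 253) (.leaf 81)) (.leaf 119)) (.node (.node (.leaf 94) (.leaf 127)) (.leaf 159)))) (.node (.node (.node (.node (.leaf 316) (.leaf 77)) (.node (.leaf 115) (.leaf 283))) (.node (.node (.leaf 84) (.leaf 42)) (.leaf 349))) (.node (.node (.node (.leaf 242) (.leaf 342)) (.leaf 360)) (.node (.node (.leaf 269) (.leaf 206)) (.leaf 244))))) (.node (.node (.node (.node (.node (.leaf 363) (.leaf 144)) (.node (.leaf 58) (.leaf 167))) (.node (.node (.leaf 28) (.leaf 158)) (.leaf 210))) (.node (.node (.node (.leaf 343) (.leaf 229)) (.leaf 414)) (.node (.node (.leaf 299) (.leaf 309)) (.leaf 70)))) (.node (.node (.node (.node (.leaf 76) (.leaf 191)) (.node (.leaf 65) (.leaf 96))) (.node (.node (.leaf 394) (.leaf 279)) (.leaf 271))) (.node (.node (.node (.leaf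 362) (.leaf 20)) (.leaf 123)) (.node (.node (.leaf 135) (.leaf 260)) (.leaf 39))))))

/-- Part of the table `hpermT3`. -/
def hpermT3_3 : Tr := (.node (.node (.node (.node (.node (.node (.leaf 26) (.leaf 57)) (.node (.leaf 262) (.leaf 386))) (.node (.node (.leaf 221) (.leaf 217)) (.leaf 194))) (.node (.node (.node (.leaf 62) (.leaf 1)) (.leaf 333)) (.node (.node (.leaf 98) (.leaf 160)) (.leaf 344)))) (.node (.node (.node (.node (.leaf 133) (.leaf 330)) (.node (.leaf 235) (.leaf 249))) (.node (.node (.leaf 267) (.leaf 295)) (.leaf 204))) (.node (.node (.node (.leaf 203) (.leaf 151)) (.leaf 294)) (.node (.node (.leaf 289) (.leaf 370)) (.leaf 52))))) (.node (.node (.node (.node (.node (.leaf 10) (.leaf 128)) (.node (.leaf 177) (.leaf 92))) (.node (.node (.leaf 207) (.leaf 274)) (.leaf 403))) (.node (.node (.node (.leaf 340) (.leaf 111)) (.leaf 378)) (.node (.node (.leaf 327) (.leaf 60)) (.leaf 134)))) (.node (.node (.node (.node (.leaf 2) (.leaf 247)) (.node (.leaf 22) (.leaf 15))) (.node (.node (.leaf 261) (.leaf 216)) (.leaf 153))) (.node (.node (.node (.leaf 140) (.leaf 211)) (.leaf 245)) (.node (.node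 (.leaf 278) (.leaf 170)) (.leaf 105))))))

/-- Part of the table `hpermT3`. -/
def hpermT3_4 : Tr := (.node (.node (.node (.node (.node (.node (.leaf 371) (.leaf 130)) (.node (.leaf 234) (.leaf 86))) (.node (.node (.leaf 236) (.leaf 326)) (.leaf 55))) (.node (.node (.node (.leaf 38) (.leaf 178)) (.leaf 103)) (.node (.node (.leaf 214) (.leaf 233)) (.leaf 185)))) (.node (.node (.node (.node (.leaf 154) (.leaf 122)) (.node (.leaf 317) (.leaf 339))) (.node (.node (.leaf 390) (.leaf 308)) (.leaf 102))) (.node (.node (.node (.leaf 48) (.leaf 375)) (.leaf 399)) (.node (.node (.leaf 335) (.leaf 350)) (.leaf 331))))) (.node (.node (.node (.node (.node (.leaf 21) (.leaf 285)) (.node (.leaf 91) (.leaf 241))) (.node (.node (.leaf 248) (.leaf 259)) (.leaf 372))) (.node (.node (.node (.leaf 379) (.leaf 265)) (.leaf 23)) (.node (.node (.leaf 382) (.leaf 157)) (.leaf 33)))) (.node (.node (.node (.node (.leaf 381) (.leaf 304)) (.node (.leaf 332) (.leaf 172))) (.node (.node (.leaf 100) (.leaf 374)) (.leaf 69))) (.node (.node (.node (.leaf 34) (.leaf 181)) (.leaf 137)) (.node (.node (.leaf 223) (.leaf 110)) (.leaf 193))))))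

/-- Part of the table `hpermT3`. -/
def hpermT3_5 : Tr := (.node (.node (.node (.node (.node (.node (.leaf 290) (.leaf 257)) (.node (.leaf 149) (.leaf 303))) (.node (.node (.leaf 156) (.leaf 307)) (.leaf 254))) (.node (.node (.node (.leaf 238) (.leaf 114)) (.leaf 7)) (.node (.node (.leaf 408) (.leaf 293)) (.leaf 27)))) (.node (.node (.node (.node (.leaf 17) (.leaf 75)) (.node (.leaf 145) (.leaf 319))) (.node (.node (.leaf 292) (.leaf 125)) (.leaf 397))) (.node (.node (.node (.leaf 49) (.leaf 113)) (.leaf 138)) (.node (.node (.leaf 305) (.leaf 232)) (.leaf 398))))) (.node (.node (.node (.node (.node (.leaf 56) (.leaf 302)) (.node (.leaf 190) (.leaf 11))) (.node (.node (.leaf 80) (.leaf 24)) (.leaf 189))) (.node (.node (.node (.leaf 47) (.leaf 63)) (.leaf 136)) (.node (.node (.leaf 250) (.leaf 219)) (.leaf 358)))) (.node (.node (.node (.node (.leaf 25) (.leaf 281)) (.node (.leaf 218) (.leaf 384))) (.node (.node (.leaf 89) (.leaf 325)) (.leaf 322))) (.node (.node (.node (.leaf 258) (.leaf 373)) (.leaf 230)) (.node (.node (.leaf 67) (.leaf 4)) (.leaf 402))))))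

/-- Part of the table `hpermT3`. -/
def hpermT3_6 : Tr := (.node (.node (.node (.node (.node (.node (.leaf 272) (.leaf 90)) (.node (.leaf 18) (.leaf 376))) (.node (.node (.leaf 222) (.leaf 345)) (.leaf 71))) (.node (.node (.node (.leaf 264) (.leaf 353)) (.leaf 231)) (.node (.node (.leaf 101) (.leaf 16)) (.leaf 300)))) (.node (.node (.node (.node (.leaf 14) (.leaf 192)) (.node (.leaf 129) (.leaf 32))) (.node (.node (.leaf 163) (.leaf 35)) (.leaf 213))) (.node (.node (.node (.leaf 296) (.leaf 364)) (.leaf 318)) (.node (.node (.leaf 117) (.leaf 313)) (.leaf 186))))) (.node (.node (.node (.node (.node (.leaf 171) (.leaf 116)) (.node (.leaf 251) (.leaf 209))) (.node (.node (.leaf 276) (.leaf 162)) (.leaf 199))) (.node (.node (.node (.leaf 45) (.leaf 131)) (.leaf 280)) (.node (.node (.leaf 87) (.leaf 104)) (.leaf 51)))) (.node (.node (.node (.node (.leaf 355) (.leaf 270)) (.node (.leaf 366) (.leaf 413))) (.node (.node (.leaf 88) (.leaf 212)) (.leaf 66))) (.node (.node (.node (.leaf 368) (.leaf 150)) (.leaf 201)) (.node (.node (.leaf 337) (.leaf 30)) (.leaf 36))))))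

/-- Part of the table `hpermT3`. -/
def hpermT3_7 : Tr := (.node (.node (.node (.node (.node (.node (.leaf 120) (.leaf 334)) (.node (.leaf 301) (.leaf 312))) (.node (.node (.leaf 121) (.leaf 255)) (.leaf 132))) (.node (.node (.node (.leaf 341) (.leaf 351)) (.leaf 85)) (.node (.node (.leaf 147) (.leaf 29)) (.leaf 315)))) (.node (.node (.node (.node (.leaf 19) (.leaf 359)) (.node (.leaf 99) (.leaf 202))) (.node (.node (.leaf 8) (.leaf 406)) (.leaf 314))) (.node (.node (.node (.leaf 237) (.leaf 321)) (.leaf 336)) (.node (.node (.leaf 148) (.leaf 6)) (.leaf 215))))) (.node (.node (.node (.node (.node (.leaf 393) (.leaf 82)) (.node (.leaf 139) (.leaf 40))) (.node (.node (.leaf 273) (.leaf 246)) (.leaf 50))) (.node (.node (.node (.leaf 143) (.leaf 108)) (.leaf 13)) (.node (.node (.leaf 95) (.leaf 12)) (.leaf 146)))) (.node (.node (.node (.node (.leaf 225) (.leaf 404)) (.node (.leaf 239) (.leaf 288))) (.node (.node (.leaf 142) (.leaf 324)) (.leaf 361))) (.node (.node (.node (.leaf 59) (.leaf 227)) (.leaf 187)) (.node (.node (.leaf 188) (.leaf 46)) (.leaf 141))))))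

/-- Part of the table `hpermT3`. -/
def hpermT3_8 : Tr := (.node (.node (.node (.node (.node (.node (.leaf 161) (.leaf 263)) (.node (.leaf 124) (.leaf 152))) (.node (.node (.leaf 197) (.leaf 106)) (.leaf 205))) (.node (.node (.node (.leaf 252) (.leaf 338)) (.leaf 396)) (.node (.node (.leaf 166) (.leaf 275)) (.leaf 165)))) (.node (.node (.node (.node (.leaf 174) (.leaf 348)) (.node (.leaf 306) (.leaf 407))) (.node (.node (.leaf 109) (.leaf 44)) (.leaf 243))) (.node (.node (.node (.leaf 198) (.leaf 367)) (.leaf 196)) (.node (.node (.leaf 164) (.leaf 310)) (.leaf 282))))) (.node (.node (.node (.node (.node (.leaf 410) (.leaf 220)) (.node (.leaf 43) (.leaf 182))) (.node (.node (.leaf 400) (.leaf 118)) (.leaf 74))) (.node (.node (.node (.leaf 41) (.leaf 385)) (.leaf 240)) (.node (.node (.leaf 298) (.leaf 311)) (.leaf 155)))) (.node (.node (.node (.node (.leaf 392) (.leaf 320)) (.node (.leaf 228) (.leaf 256))) (.node (.node (.leaf 107) (.leaf 291)) (.leaf 126))) (.node (.node (.node (.leaf 297) (.leaf 401)) (.leaf 284)) (.node (.node (.leaf 356) (.leaf 208)) (.leaf 323))))))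

/-- The table `hpermT3`. -/
def hpermT3 : Tr := (.node (.node (.node hpermT3_1 hpermT3_2) (.node hpermT3_3 hpermT3_4)) (.node (.node hpermT3_5 hpermT3_6) (.node hpermT3_7 hpermT3_8)))

/-- The four involutions as words in root elements. -/
def hgWords : List (List ℕ) := [[2, 17, 10, 17, 20, 2], [4, 9, 20, 9, 4], [13, 7, 13, 23, 7, 13], [5, 17, 10, 17, 21, 5]]

/-- Suborbit representatives and their derivations. -/
def cert_h1 : List (ℕ × List (List ℕ)) := [(2, [[2, 1, 3, 1, 0, 3], [0, 2, 0], [1], [2, 1, 3, 1, 0, 3], [3, 1], [2], [0], [1], [3], [2], [0], [3], [2]]), (8, [[2, 1, 3, 0, 0, 3, 2, 3, 0, 3, 0], [3, 0, 2, 1, 2, 2], [1, 2, 0], [3, 1], [2], [3], [0], [1], [3], [2], [3], [0]]), (9, [[2, 1, 3, 0, 0, 3, 2, 3, 0, 3, 0], [2, 3, 2, 0, 2, 0, 1, 0, 3, 1], [2, 1, 0], [3], [0], [3, 2], [1], [2], [0], [3], [0], [1]]), (12, [[0], [2, 1, 3, 0, 0, 3, 2, 3, 0, 3, 0], [0], [1, 2], [3, 2], [3], [1], [0], [2], [3], [1], [0]]), (82, [[2, 0, 0, 3, 2], [2, 3, 2, 0, 2, 0, 1, 0, 3, 1], [3, 1], [0], [1], [2], [3], [0], [1], [2], [3], [1], [0]])]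

/-- Words fixing the base point. -/
def reach_h1 : List (List ℕ) := [[2, 1, 3, 0, 0, 3, 2, 3, 0, 3, 0], [2, 3, 2, 0, 2, 0, 1, 0, 3, 1], [2, 1, 3, 0, 0, 3, 2, 3, 0, 3, 0], [2, 3, 2, 0, 2, 0, 1, 0, 3, 1], [2, 1, 3, 0, 0, 3, 2, 3, 0, 3, 0], [2, 3, 2, 0, 2, 0, 1, 0, 3, 1], [2, 1, 3, 0, 0, 3, 2, 3, 0, 3, 0], [2, 3, 2, 0, 2, 0, 1, 0, 3, 1], [2, 1, 3, 0, 0, 3, 2, 3, 0, 3, 0], [2, 3, 2, 0, 2, 0, 1, 0, 3, 1], [2, 1, 3, 0, 0, 3, 2, 3, 0, 3, 0], [2, 1, 3, 0, 0, 3, 2, 3, 0, 3, 0], [2, 3, 2, 0, 2, 0, 1, 0, 3, 1], [2, 1, 3, 0, 0, 3, 2, 3, 0, 3, 0], [2, 1, 3, 0, 0, 3, 2, 3, 0, 3, 0]]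

/-- The points of the orbit. -/
def mask_h1 : ℕ := 146252177185326815103524942297238720475099879339318104824708417086012981946037928181400880794522927213091536110732174062386118

/-- Suborbit representatives and their derivations. -/
def cert_h3 : List (ℕ × List (List ℕ)) := [(4, [[3, 1, 3], [1, 0, 1], [3], [0], [2], [1], [3], [0], [1], [3], [2], [0]]), (17, [[3], [0], [1], [2], [0], [3], [2], [1, 0], [0], [3], [0]])]

/-- Words fixing the base point. -/
def reach_h3 : List (List ℕ) := [[0, 1, 3, 2, 0], [3, 3, 3, 0, 1, 3], [0, 1, 3, 2, 0], [3, 3, 3, 0, 1, 3], [0, 1, 3, 2, 0], [0, 1, 3, 2, 0], [3, 3, 3, 0, 1, 3], [0, 1, 3, 2, 0], [3, 3, 3, 0, 1, 3], [0, 1, 3, 2, 0], [0, 1, 3, 2, 0], [0, 1, 3, 2, 0]]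

/-- The points of the orbit. -/
def mask_h3 : ℕ := 22978150824976826228165376559150665720971719499537887312161674504234900610457776349847557078044185707891814167673805663503416

/-- Suborbit representatives and their derivations. -/
def cert_g : List (ℕ × List (List ℕ)) := [(1, [[20], [17, 22], [1], [13], [4], [15], [23], [21], [3], [22], [0], [2]]), (3, [[6, 7, 15], [2], [9], [7], [22], [12], [23], [13], [11], [5], [6], [1]])]

/-- Words fixing the base point. -/
def reach_g : List (List ℕ) := [[2, 17, 10, 17, 20, 2], [4, 9, 20, 9, 4], [13, 7, 13, 23, 7, 13], [5, 17, 10, 17, 21, 5], [2, 17, 10, 17, 20, 2], [4, 9, 20, 9, 4], [13, 7, 13, 23, 7, 13], [5, 17, 10, 17, 21, 5], [2, 17, 10, 17, 20, 2], [13, 7, 13, 23, 7, 13], [4, 9, 20, 9, 4], [5, 17, 10, 17, 21, 5], [2, 17, 10, 17, 20, 2]]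

/-- The points of the orbit. -/
def mask_g : ℕ := 169230328010303641331690318856389386196071598838855992136870091590247882556495704531248437872567112920983350278405979725889535

end Cfsg.Agent.GTwoJTwo
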