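import Cfsg.Agent.Lib.G2Six.Model
import Cfsg.Agent.Lib.J2.Group
import Cfsg.Agent.S1059

/-!
# A twelve-dimensional binary representation of `G₂(4)`
-/

set_option autoImplicit false

namespace Cfsg.Agent.GTwoJTwo

open Cfsg.Lie Cfsg.Agent.Chev
open Cfsg.Agent.JTwo (Mat ev)

noncomputable section

section General

variable {F : Type*} [Field F] [CharP F 2]

theorem exists_rep : ∃ π : ↥(chevG2.group F) →* GL G2Six.W F, Function.Injective π ∧
    ∀ (r : ℕ) (hr : r < 12) (t : F) (h : G2.ok.xG r t ∈ chevG2.group F),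
      π ⟨G2.ok.xG r t, h⟩ = G2Six.yu hr t := by
  let ψ : ↥(G2Six.pairG F) →* GL chevG2.Idx F :=
    (MonoidHom.snd _ _).comp (G2Six.pairG F).subtype
  have hinj : Function.Injective ψ := (injective_iff_map_eq_one ψ).2 fun p hp =>
    Subtype.ext (Prod.ext ((G2Six.pairG_injective p.2).2 hp) hp)
  have hrange : chevG2.group F ≤ ψ.range := by
    rw [ChevalleyDatum.group, Subgroup.closure_le]
    rintro g ⟨r, t, hg⟩
    refine ⟨⟨_, Subgroup.subset_closure ⟨r.val, r.isLt, t, rfl⟩⟩, ?_⟩
    show G2.ok.xG r.val t = g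
    apply Units.ext
    rw [G2.ok.coe_xG, hg, ChevalleyDatum.x, dif_pos r.isLt]
  let e := MonoidHom.ofInjective hinj
  let π : ↥(chevG2.group F) →* GL G2Six.W F :=
    (((MonoidHom.fst _ _).comp (G2Six.pairG F).subtype).comp e.symm.toMonoidHom).comp
      (Subgroup.inclusion hrange)
  refine ⟨π, (injective_iff_map_eq_one π).2 fun g hg => ?_, fun r hr t h => ?_⟩
  · have h2 : (e (e.symm (Subgroup.inclusion hrange g)) : GL chevG2.Idx F) = g.1 := by
      rw [MulEquiv.apply_symm_apply]; rfl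
    exact Subtype.ext (h2.symm.trans
      ((G2Six.pairG_injective (e.symm (Subgroup.inclusion hrange g)).2).1 hg))
  · have hp : e.symm (Subgroup.inclusion hrange ⟨_, h⟩) =
        ⟨(G2Six.yu hr t, G2.ok.xG r t), Subgroup.subset_closure ⟨r, hr, t, rfl⟩⟩ := by
      rw [MulEquiv.symm_apply_eq]
      rfl
    show (e.symm (Subgroup.inclusion hrange ⟨_, h⟩)).1.1 = _
    rw [hp]

theorem xG_mem (r : ℕ) (hr : r < 12) (t : F) : G2.ok.xG r t ∈ chevG2.group F :=
  Subgroup.subset_closure ⟨⟨r, hr⟩, t, by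
    rw [G2.ok.coe_xG, ChevalleyDatum.x, dif_pos (show r < chevG2.nroots from hr)]⟩

/-- A root element of the group. -/
def xe (r : Fin 12) (t : F) : ↥(chevG2.group F) := ⟨G2.ok.xG r t, xG_mem r r.2 t⟩

theorem xe_add (r : Fin 12) (t u : F) : xe r t * xe r u = xe r (t + u) :=
  Subtype.ext (G2.ok.xG_add _ t u)

theorem xe_zero (r : Fin 12) : xe r (0 : F) = 1 := Subtype.ext (G2.ok.xG_zero _)

theorem closure_xe : Subgroup.closure {g : ↥(chevG2.group F) | ∃ r t, g = xe r t} = ⊤ := by
  rw [eq_top_iff]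
  rintro ⟨g, hg⟩ -
  have key : chevG2.group F ≤
      (Subgroup.closure {g : ↥(chevG2.group F) | ∃ r t, g = xe r t}).map (chevG2.group F).subtype := by
    conv_lhs => rw [ChevalleyDatum.group]
    rw [Subgroup.closure_le]
    rintro x ⟨r, t, hx⟩
    refine ⟨xe ⟨r.val, r.isLt⟩ t, Subgroup.subset_closure ⟨_, _, rfl⟩, Units.ext ?_⟩
    show (G2.ok.xG r.val t : Matrix chevG2.Idx chevG2.Idx F) = _
    rw [G2.ok.coe_xG, hx, ChevalleyDatum.x, dif_pos r.isLt]
  obtain ⟨y, hy, hyg⟩ := key hg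
  exact (Subtype.ext hyg : y = ⟨g, hg⟩) ▸ hy

end General

/-- The companion matrix of `X² + X + 1`. -/
def w2 : Matrix (Fin 2) (Fin 2) (ZMod 2) := !![0, 1; 1, 1]

variable {F : Type*} [Field F] [Fintype F]

theorem charTwo (hF : Fintype.card F = 4) : CharP F 2 := by
  have h : (4 : F) = 0 := by
    have := Nat.cast_card_eq_zero F
    rw [hF] at this
    exact_mod_cast this
  have h2 : (2 : F) = 0 := by
    have : (2 : F) * 2 = 0 := by linear_combination h
    exact mul_self_eq_zero.1 this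
  exact CharTwo.of_one_ne_zero_of_two_eq_zero one_ne_zero h2

theorem exists_omega (hF : Fintype.card F = 4) : ∃ ω : F, ω ^ 2 + ω + 1 = 0 := by
  classical
  obtain ⟨x, -, hx⟩ := Finset.exists_mem_notMem_of_card_lt_card
    (s := ({0, 1} : Finset F)) (t := Finset.univ)
    (lt_of_le_of_lt Finset.card_le_two (by rw [Finset.card_univ, hF]; norm_num))
  simp only [Finset.mem_insert, Finset.mem_singleton, not_or] at hx
  have h4 : x ^ 3 = 1 := by
    have := FiniteField.pow_card_sub_one_eq_one x hx.1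
    rwa [hF] at this
  refine ⟨x, ?_⟩
  have : (x - 1) * (x ^ 2 + x + 1) = 0 := by linear_combination h4
  exact (mul_eq_zero.1 this).resolve_left (sub_ne_zero.2 hx.2)

theorem four_cases (hF : Fintype.card F = 4) {ω : F} (hω : ω ^ 2 + ω + 1 = 0) :
    ∀ x : F, x = 0 ∨ x = 1 ∨ x = ω ∨ x = ω + 1 := by
  classical
  haveI := charTwo hF
  have h0 : ω ≠ 0 := fun h => one_ne_zero (α := F) (by rw [h] at hω; linear_combination hω)
  have h1 : ω ≠ 1 := fun h => one_ne_zero (α := F) (by
    rw [h] at hω; linear_combination hω - (CharTwo.two_eq_zero : (2 : F) = 0))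
  have h2 : ω + 1 ≠ 0 := fun h => h1 (by linear_combination h - (CharTwo.two_eq_zero : (2 : F) = 0))
  have h3 : ω + 1 ≠ 1 := fun h => h0 (by linear_combination h)
  have hcard : ({0, 1, ω, ω + 1} : Finset F).card = 4 := by
    simp [Finset.card_insert_of_notMem, zero_ne_one, h0.symm, h1.symm, h2.symm, h3.symm]
  intro x
  have hu : ({0, 1, ω, ω + 1} : Finset F) = Finset.univ :=
    Finset.eq_univ_of_card _ (by rw [hcard, hF])
  have hx := Finset.mem_univ x
  rw [← hu] at hx
  simpa using hx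

theorem exists_phi (hF : Fintype.card F = 4) {ω : F} (hω : ω ^ 2 + ω + 1 = 0) :
    ∃ φ : F →+* Matrix (Fin 2) (Fin 2) (ZMod 2), Function.Injective φ ∧ φ ω = w2 := by
  classical
  haveI := charTwo hF
  have hall := four_cases hF hω
  have h0 : ω ≠ 0 := fun h => one_ne_zero (α := F) (by rw [h] at hω; linear_combination hω)
  have h1 : ω ≠ 1 := fun h => one_ne_zero (α := F) (by
    rw [h] at hω; linear_combination hω - (CharTwo.two_eq_zero : (2 : F) = 0))
  have h2 : ω + 1 ≠ 0 := fun h => h1 (by linear_combination h - (CharTwo.two_eq_zero : (2 : F) = 0))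
  have h3 : ω + 1 ≠ 1 := fun h => h0 (by linear_combination h)
  have h4 : ω + 1 ≠ ω := by simp
  let f : F → Matrix (Fin 2) (Fin 2) (ZMod 2) := fun x =>
    if x = 0 then 0 else if x = 1 then 1 else if x = ω then w2 else w2 + 1
  have f0 : f 0 = 0 := if_pos rfl
  have f1 : f 1 = 1 := by simp [f]
  have fw : f ω = w2 := by simp [f, h0, h1]
  have fw1 : f (ω + 1) = w2 + 1 := by simp [f, h2, h3, h4]
  have two : (2 : F) = 0 := CharTwo.two_eq_zero
  have m1 : ω * ω = ω + 1 := by linear_combination hω - (ω + 1) * two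
  have m2 : ω * (ω + 1) = 1 := by linear_combination hω - two
  have m3 : (ω + 1) * ω = 1 := by linear_combination hω - two
  have m4 : (ω + 1) * (ω + 1) = ω := by linear_combination hω
  have a0 : (1 : F) + 1 = 0 := by linear_combination two
  have a1 : 1 + ω = ω + 1 := add_comm _ _
  have a2 : 1 + (ω + 1) = ω := by linear_combination two
  have a3 : ω + ω = 0 := by linear_combination ω * two
  have a4 : ω + (ω + 1) = 1 := by linear_combination ω * two
  have a5 : ω + 1 + 1 = ω := by linear_combination two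
  have a6 : ω + 1 + ω = 1 := by linear_combination ω * two
  have a7 : ω + 1 + (ω + 1) = 0 := by linear_combination (ω + 1) * two
  let φ : F →+* Matrix (Fin 2) (Fin 2) (ZMod 2) :=
    { toFun := f
      map_one' := f1
      map_zero' := f0
      map_mul' := fun x y => by
        rcases hall x with rfl | rfl | rfl | rfl <;> rcases hall y with rfl | rfl | rfl | rfl <;>
          simp only [zero_mul, mul_zero, one_mul, mul_one, m1, m2, m3, m4, f0, f1, fw, fw1] <;> decide
      map_add' := fun x y => by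
        rcases hall x with rfl | rfl | rfl | rfl <;> rcases hall y with rfl | rfl | rfl | rfl <;>
          simp only [zero_add, add_zero, a0, a1, a2, a3, a4, a5, a6, a7, f0, f1, fw, fw1] <;> decide }
  refine ⟨φ, φ.injective, fw⟩

/-- The coordinates of a binary index. -/
def wIdx (i : Fin 6) : G2Six.W :=
  if h : i.val < 3 then Sum.inl ⟨i.val, h⟩ else Sum.inr ⟨i.val - 3, by omega⟩

/-- The twelve binary coordinates. -/
def idxEquiv : G2Six.W × Fin 2 ≃ Fin 12 where
  toFun p := ⟨2 * G2Six.cd p.1 + p.2.val, by have := G2Six.cd_lt p.1; omega⟩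
  invFun r := (wIdx ⟨r.val / 2, by omega⟩, ⟨r.val % 2, Nat.mod_lt _ (by norm_num)⟩)
  left_inv := by decide +kernel
  right_inv := by decide +kernel

theorem cd_wIdx : ∀ r : Fin 12, G2Six.cd (idxEquiv.symm r).1 = r.val / 2 ∧
    ((idxEquiv.symm r).2 : ℕ) = r.val % 2 := by decide +kernel

/-- Matrices over four elements as binary matrices of twice the size. -/
def blow (φ : F →+* Matrix (Fin 2) (Fin 2) (ZMod 2)) : Matrix G2Six.W G2Six.W F →+* Mat :=
  ((Matrix.reindexRingEquiv (R := ZMod 2) idxEquiv).toRingHom.comp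
    (Matrix.compRingEquiv G2Six.W (Fin 2) (ZMod 2)).toRingHom).comp φ.mapMatrix

theorem blow_apply (φ : F →+* Matrix (Fin 2) (Fin 2) (ZMod 2)) (M : Matrix G2Six.W G2Six.W F)
    (r c : Fin 12) : blow φ M r c =
      φ (M (idxEquiv.symm r).1 (idxEquiv.symm c).1) (idxEquiv.symm r).2 (idxEquiv.symm c).2 := rfl

theorem blow_injective {φ : F →+* Matrix (Fin 2) (Fin 2) (ZMod 2)} (h : Function.Injective φ) :
    Function.Injective (blow φ) :=
  fun M N e => by
    ext a b
    apply h
    ext i j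
    have := congrFun (congrFun e (idxEquiv (a, i))) (idxEquiv (b, j))
    simpa [blow_apply] using this

/-- Binary image of the value of a root element at a parameter with image `T`. -/
def yTarget (T : Matrix (Fin 2) (Fin 2) (ZMod 2)) (r : ℕ) (i j : Fin 12) : ZMod 2 :=
  (((G2Six.yk 0 r (i.val / 2) (j.val / 2) : Matrix (Fin 2) (Fin 2) (ZMod 2)) +
    T * (G2Six.yk 1 r (i.val / 2) (j.val / 2) : Matrix (Fin 2) (Fin 2) (ZMod 2))) +
    T ^ 2 * (G2Six.yk 2 r (i.val / 2) (j.val / 2) : Matrix (Fin 2) (Fin 2) (ZMod 2)))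
    ⟨i.val % 2, Nat.mod_lt _ (by norm_num)⟩ ⟨j.val % 2, Nat.mod_lt _ (by norm_num)⟩

theorem blow_Y [CharP F 2] (φ : F →+* Matrix (Fin 2) (Fin 2) (ZMod 2)) {r : ℕ} (t : F)
    (i j : Fin 12) : blow φ (G2Six.Y r t) i j = yTarget (φ t) r i j := by
  have hi : ((idxEquiv.symm i).2 : Fin 2) = ⟨i.val % 2, Nat.mod_lt _ (by norm_num)⟩ :=
    Fin.ext (cd_wIdx i).2
  have hj : ((idxEquiv.symm j).2 : Fin 2) = ⟨j.val % 2, Nat.mod_lt _ (by norm_num)⟩ :=
    Fin.ext (cd_wIdx j).2
  rw [blow_apply, hi, hj, yTarget]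
  congr 1
  simp [G2Six.Y, Finset.sum_range_succ, G2Six.cM6_apply, (cd_wIdx i).1, (cd_wIdx j).1]

end

end Cfsg.Agent.GTwoJTwo
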