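import Cfsg.Agent.Lib.J2.Packed

/-!
# Coset multiplication table
-/

set_option autoImplicit false
set_option maxRecDepth 10000

namespace Cfsg.Agent.GTwoJTwo

open Cfsg.Agent.JTwo (Tr)

/-- Part of the table `stepT0`. -/
def stepT0_1 : Tr := (.node (.node (.node (.node (.node (.node (.leaf 85665280) (.leaf 40)) (.node (.leaf 139637089) (.leaf 32350564))) (.node (.node (.leaf 18032227) (.leaf 31783012)) (.leaf 170919792))) (.node (.node (.node (.leaf 85665289) (.leaf 73928039)) (.leaf 84967205)) (.node (.node (.leaf 166766687) (.leaf 24623466)) (.leaf 206229647)))) (.node (.node (.node (.node (.leaf 152) (.leaf 215524469)) (.node (.leaf 39536702) (.leaf 122476889))) (.node (.node (.leaf 23456335) (.leaf 153597829)) (.leaf 34175358))) (.node (.node (.node (.leaf 196464689) (.leaf 189033068)) (.leaf 300219990)) (.node (.node (.leaf 304207164) (.leaf 224602304)) (.leaf 58341267))))) (.node (.node (.node (.node (.node (.leaf 300219925) (.leaf 293718728)) (.node (.leaf 206342797) (.leaf 146))) (.node (.node (.leaf 14795377) (.leaf 203479833)) (.leaf 308088072))) (.node (.node (.node (.leaf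 256) (.leaf 115214111)) (.leaf 49659119)) (.node (.node (.leaf 85665384) (.leaf 1628838)) (.leaf 57803342)))) (.node (.node (.node (.node (.leaf 128077449) (.leaf 142844767)) (.node (.leaf 16) (.leaf 198))) (.node (.node (.leaf 301919874) (.leaf 43450747)) (.leaf 20393804))) (.node (.node (.node (.leaf 301791759) (.leaf 115148589)) (.leaf 85665464)) (.node (.node (.leaf 127170930) (.leaf 13071619)) (.leaf 13272690))))))

/-- Part of the table `stepT0`. -/
def stepT0_2 : Tr := (.node (.node (.node (.node (.node (.node (.leaf 85665284) (.leaf 41)) (.node (.leaf 177757431) (.leaf 323487547))) (.node (.node (.leaf 85665348) (.leaf 232377497)) (.leaf 85665325))) (.node (.node (.node (.leaf 284289058) (.leaf 231339299)) (.leaf 8293042)) (.node (.node (.leaf 36540224) (.leaf 20661632)) (.leaf 146162929)))) (.node (.node (.node (.node (.leaf 85665300) (.leaf 324090772)) (.node (.leaf 97035863) (.leaf 324493588))) (.node (.node (.leaf 300220078) (.leaf 137016733)) (.leaf 197982767))) (.node (.node (.node (.leaf 300220067) (.leaf 157843238)) (.leaf 6939471)) (.node (.node (.leaf 300220063) (.leaf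 104569022)) (.leaf 57144697))))) (.node (.node (.node (.node (.node (.leaf 126) (.leaf 62513405)) (.node (.leaf 204715655) (.leaf 194110229))) (.node (.node (.leaf 315829286) (.leaf 20393688)) (.leaf 93138181))) (.node (.node (.node (.leaf 300220061) (.leaf 146692427)) (.leaf 287658603)) (.node (.node (.leaf 134934832) (.leaf 26257305)) (.leaf 6939371)))) (.node (.node (.node (.node (.leaf 85665308) (.leaf 191417949)) (.node (.leaf 85665436) (.leaf 328342942))) (.node (.node (.leaf 357) (.leaf 143884635)) (.leaf 174110035))) (.node (.node (.node (.leaf 85665340) (.leaf 306038896)) (.leaf 300219950)) (.node (.node (.leaf 305914189) (.leaf 327882589)) (.leaf 63313061))))))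

/-- Part of the table `stepT0`. -/
def stepT0_3 : Tr := (.node (.node (.node (.node (.node (.node (.leaf 85665282) (.leaf 242718459)) (.node (.leaf 316512856) (.leaf 112559329))) (.node (.node (.leaf 290278967) (.leaf 290279114)) (.leaf 132537122))) (.node (.node (.node (.leaf 146162724) (.leaf 120643266)) (.leaf 310843962)) (.node (.node (.leaf 85730119) (.leaf 290007306)) (.leaf 6816379)))) (.node (.node (.node (.node (.leaf 85665298) (.leaf 210186001)) (.node (.leaf 392) (.leaf 197701887))) (.node (.node (.leaf 346) (.leaf 159576705)) (.leaf 326407997))) (.node (.node (.node (.leaf 295) (.leaf 301791821)) (.leaf 66400932)) (.node (.node (.leaf 15245048) (.leaf 215500408)) (.leaf 91300021))))) (.node (.node (.node (.node (.node (.leaf 85665290) (.leaf 288122210)) (.node (.leaf 301529242) (.leaf 232656775))) (.node (.node (.leaf 312739045) (.leaf 14742782)) (.leaf 309350210))) (.node (.node (.node (.leaf 85665322) (.leaf 51)) (.leaf 308102979)) (.node (.node (.leaf 85665386) (.leaf 14525280)) (.leaf 35)))) (.node (.node (.node (.node (.leaf 184278673) (.leaf 244527382)) (.node (.leaf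 291718794) (.leaf 232148885))) (.node (.node (.leaf 291835030) (.leaf 82)) (.leaf 297250583))) (.node (.node (.node (.leaf 309514402) (.leaf 114616543)) (.leaf 1279831)) (.node (.node (.leaf 302353603) (.leaf 204084985)) (.leaf 103498329))))))

/-- Part of the table `stepT0`. -/
def stepT0_4 : Tr := (.node (.node (.node (.node (.node (.node (.leaf 85665286) (.leaf 220777663)) (.node (.leaf 275956803) (.leaf 4672667))) (.node (.node (.leaf 20393503) (.leaf 66362590)) (.leaf 408))) (.node (.node (.node (.leaf 293100108) (.leaf 264823604)) (.leaf 53689704)) (.node (.node (.leaf 196530893) (.leaf 293718825)) (.leaf 146162901)))) (.node (.node (.node (.node (.leaf 6939207) (.leaf 228890906)) (.node (.leaf 289411674) (.leaf 230073217))) (.node (.node (.leaf 300220080) (.leaf 115601015)) (.leaf 256284957))) (.node (.node (.node (.leaf 85665334) (.leaf 92879759)) (.leaf 8293183)) (.node (.node (.leaf 261481575) (.leaf 110)) (.leaf 169492687))))) (.node (.node (.node (.node (.node (.leaf 204715533) (.leaf 107890887)) (.node (.leaf 9988205) (.leaf 167992077))) (.node (.node (.leaf 62682856) (.leaf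 6939315)) (.leaf 293100361))) (.node (.node (.node (.leaf 300220092) (.leaf 254112475)) (.leaf 300219988)) (.node (.node (.leaf 374) (.leaf 30169845)) (.leaf 146692353)))) (.node (.node (.node (.node (.leaf 85665310) (.leaf 7788733)) (.node (.leaf 24818955) (.leaf 325287836))) (.node (.node (.leaf 66400821) (.leaf 269009791)) (.leaf 116247878))) (.node (.node (.node (.leaf 27921552) (.leaf 243201621)) (.leaf 60347764)) (.node (.node (.leaf 12) (.leaf 36064464)) (.leaf 107855690))))))

/-- Part of the table `stepT0`. -/
def stepT0_5 : Tr := (.node (.node (.node (.node (.node (.node (.leaf 85665281) (.leaf 124174062)) (.node (.leaf 215403858) (.leaf 126927254))) (.node (.node (.leaf 49830027) (.leaf 9026281)) (.leaf 263785547))) (.node (.node (.node (.leaf 85665313) (.leaf 13097841)) (.leaf 131425851)) (.node (.node (.leaf 146162909) (.leaf 268992128)) (.leaf 67841922)))) (.node (.node (.node (.node (.leaf 85665297) (.leaf 142647570)) (.node (.leaf 272184858) (.leaf 300220279))) (.node (.node (.leaf 150329517) (.leaf 284801923)) (.leaf 108489627))) (.node (.node (.node (.leaf 231339056)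 (.leaf 301791891)) (.leaf 24818885)) (.node (.node (.leaf 14795336) (.leaf 18793249)) (.leaf 284289252))))) (.node (.node (.node (.node (.node (.leaf 85665312) (.leaf 313010487)) (.node (.leaf 186278424) (.leaf 36241645))) (.node (.node (.leaf 122891589) (.leaf 315829454)) (.leaf 300220203))) (.node (.node (.node (.leaf 260) (.leaf 308088166)) (.leaf 217404473)) (.node (.node (.leaf 85665385) (.leaf 63576943)) (.leaf 35896641)))) (.node (.node (.node (.node (.leaf 85708933) (.leaf 264670536)) (.node (.leaf 231273284) (.leaf 18306412))) (.node (.node (.leaf 59183354) (.leaf 138440592)) (.leaf 300220079))) (.node (.node (.node (.leaf 169438377) (.leaf 415)) (.leaf 85665465)) (.node (.node (.leaf 40895829) (.leaf 24305396)) (.leaf 151390074))))))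

/-- Part of the table `stepT0`. -/
def stepT0_6 : Tr := (.node (.node (.node (.node (.node (.node (.leaf 85665285) (.leaf 68265164)) (.node (.leaf 71357977) (.leaf 177757520))) (.node (.node (.leaf 85665349) (.leaf 184434761)) (.leaf 24818865))) (.node (.node (.node (.leaf 13272803) (.leaf 72465568)) (.leaf 24171260)) (.node (.node (.leaf 166766957) (.leaf 92)) (.leaf 292792906)))) (.node (.node (.node (.node (.leaf 300219912) (.leaf 263468940)) (.node (.leaf 304704715) (.leaf 138257306))) (.node (.node (.leaf 284032318) (.leaf 115601017)) (.leaf 284289254))) (.node (.node (.node (.leaf 8292958) (.leaf 36903039)) (.leaf 88377586)) (.node (.node (.leaf 213767440) (.leaf 23312267)) (.leaf 12242286))))) (.node (.node (.node (.node (.node (.leaf 206342670) (.leaf 142388622)) (.node (.leaf 204715656) (.leaf 85324051))) (.node (.node (.leaf 304704818) (.leaf 302769276)) (.leaf 161715814))) (.node (.node (.node (.leaf 85665476) (.leaf 104893240)) (.leaf 240451153)) (.node (.node (.leaf 21772430) (.leaf 166766693)) (.leaf 32414601)))) (.node (.node (.node (.node (.leaf 85665309) (.leaf 173174486))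 (.node (.leaf 300219948) (.leaf 261587284))) (.node (.node (.leaf 139606300) (.leaf 327004028)) (.leaf 284289121))) (.node (.node (.node (.leaf 300220071) (.leaf 327761106)) (.leaf 102479646)) (.node (.node (.leaf 307701891) (.leaf 127622407)) (.leaf 117458188))))))

/-- Part of the table `stepT0`. -/
def stepT0_7 : Tr := (.node (.node (.node (.node (.node (.node (.leaf 85665283) (.leaf 117510520)) (.node (.leaf 293613693) (.leaf 285032785))) (.node (.node (.leaf 183766150) (.leaf 289927850)) (.leaf 301101178))) (.node (.node (.node (.leaf 234) (.leaf 196464932)) (.leaf 300219956)) (.node (.node (.leaf 47099968) (.leaf 270684055)) (.leaf 15244837)))) (.node (.node (.node (.node (.leaf 85665299) (.leaf 71103373)) (.node (.leaf 304704817) (.leaf 105681136))) (.node (.node (.leaf 263468715) (.leaf 232040668)) (.leaf 261123435))) (.node (.node (.node (.leaf 298) (.leaf 37180479)) (.leaf 6939470)) (.node (.node (.leaf 115927131) (.leaf 272755899)) (.leaf 284289255))))) (.node (.node (.node (.node (.node (.leaf 111) (.leaf 24818846)) (.node (.leaf 108513345) (.leaf 66950517))) (.node (.node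 (.leaf 120696513) (.leaf 124174124)) (.leaf 301791893))) (.node (.node (.node (.leaf 85665323) (.leaf 300220105)) (.leaf 194110035)) (.node (.node (.leaf 317813420) (.leaf 129938131)) (.leaf 6939372)))) (.node (.node (.node (.node (.leaf 85665307) (.leaf 66955927)) (.node (.leaf 28429190) (.leaf 22617297))) (.node (.node (.leaf 42735731) (.leaf 198410588)) (.leaf 161867054))) (.node (.node (.node (.leaf 197370017) (.leaf 322542980)) (.leaf 152816499)) (.node (.node (.leaf 9307874) (.leaf 9790296)) (.leaf 153344258))))))

/-- Part of the table `stepT0`. -/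
def stepT0_8 : Tr := (.node (.node (.node (.node (.node (.node (.leaf 85665287) (.leaf 174856061)) (.node (.leaf 206342796) (.leaf 203693962))) (.node (.node (.leaf 6939158) (.leaf 79386210)) (.leaf 42011918))) (.node (.node (.node (.leaf 85665495) (.leaf 50)) (.leaf 300219965)) (.node (.node (.leaf 254362230) (.leaf 92923680)) (.leaf 146162931)))) (.node (.node (.node (.node (.leaf 85665303) (.leaf 300942042)) (.node (.leaf 54081307) (.leaf 189332835))) (.node (.node (.leaf 85904532) (.leaf 64290490)) (.leaf 85665319))) (.node (.node (.node (.leaf 309349954) (.leaf 317856521)) (.leaf 85665463)) (.node (.node (.leaf 40895830) (.leaf 300220305)) (.leaf 153597572))))) (.node (.node (.node (.node (.node (.leaf 304704568) (.leaf 124560687)) (.node (.leaf 249746144) (.leaf 69720374))) (.node (.node (.leaf 44427856) (.leaf 6939316)) (.leaf 147111158))) (.node (.node (.node (.leaf 220933844) (.leaf 126977295)) (.leaf 300220121)) (.node (.node (.leaf 11) (.leaf 39041897)) (.leaf 58445992)))) (.node (.node (.node (.node (.leaf 20393542) (.leaf 26442024)) (.node (.leaf 300220020) (.leaf 313)))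 (.node (.node (.leaf 166766688) (.leaf 129526552)) (.leaf 22712122))) (.node (.node (.node (.leaf 28094259) (.leaf 66400950)) (.leaf 283305222)) (.node (.node (.leaf 18458421) (.leaf 277953886)) (.leaf 196173202))))))

/-- The table `stepT0`. -/
def stepT0 : Tr := (.node (.node (.node stepT0_1 stepT0_2) (.node stepT0_3 stepT0_4)) (.node (.node stepT0_5 stepT0_6) (.node stepT0_7 stepT0_8)))

/-- Part of the table `stepT1`. -/
def stepT1_1 : Tr := (.node (.node (.node (.node (.node (.node (.leaf 1) (.leaf 271013000)) (.node (.leaf 162830436) (.leaf 65938701))) (.node (.node (.leaf 15417442) (.leaf 261347681)) (.leaf 26))) (.node (.node (.node (.leaf 149257737) (.leaf 70672666)) (.leaf 46220033)) (.node (.node (.leaf 92073055) (.leaf 233236863)) (.leaf 50368604)))) (.node (.node (.node (.node (.leaf 120222858) (.leaf 249649474)) (.node (.leaf 122113598) (.leaf 229109593))) (.node (.node (.leaf 256003243) (.leaf 243018064)) (.leaf 65204507))) (.node (.node (.node (.leaf 91152034) (.leaf 65460967)) (.leaf 133710460)) (.node (.node (.leaf 11) (.leaf 103566481)) (.leaf 44483987))))) (.node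 (.node (.node (.node (.node (.leaf 65733190) (.leaf 275368579)) (.node (.leaf 231480064) (.leaf 145648520))) (.node (.node (.leaf 149257955) (.leaf 49512636)) (.leaf 177697405))) (.node (.node (.node (.leaf 220383373) (.leaf 325472861)) (.leaf 60731631)) (.node (.node (.leaf 183) (.leaf 149258088)) (.leaf 98287974)))) (.node (.node (.node (.node (.leaf 39108722) (.leaf 91474712)) (.node (.leaf 100175514) (.leaf 46175587))) (.node (.node (.leaf 45524270) (.leaf 81)) (.leaf 174))) (.node (.node (.node (.leaf 305) (.leaf 40629658)) (.leaf 105)) (.node (.node (.leaf 376) (.leaf 120)) (.leaf 38540425))))))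

/-- Part of the table `stepT1`. -/
def stepT1_2 : Tr := (.node (.node (.node (.node (.node (.node (.leaf 18) (.leaf 68265164)) (.node (.leaf 209541252) (.leaf 209541508))) (.node (.node (.leaf 65733148) (.leaf 39903113)) (.leaf 149257773))) (.node (.node (.node (.leaf 14585979) (.leaf 281831719)) (.leaf 66400946)) (.node (.node (.leaf 169789568) (.leaf 298169742)) (.leaf 328363158)))) (.node (.node (.node (.node (.leaf 7) (.leaf 70356244)) (.node (.leaf 123626202) (.leaf 149258132))) (.node (.node (.leaf 65733452) (.leaf 136227573)) (.leaf 275162214))) (.node (.node (.node (.leaf 299) (.leaf 83288874)) (.leaf 39108943)) (.node (.node (.leaf 375) (.leaf 22384477)) (.leaf 318771029))))) (.node (.node (.node (.node (.node (.leaf 203560486) (.leaf 80071506)) (.node (.leaf 212271693) (.leaf 81693458))) (.node (.node (.leaf 212046974) (.leaf 65733204)) (.leaf 93138180))) (.node (.node (.node (.leaf 45902458) (.leaf 149258028)) (.leaf 197310650)) (.node (.node (.leaf 224294643) (.leaf 328107889)) (.leaf 6939370)))) (.node (.node (.node (.node (.leaf 65733188) (.leaf 80368415)) (.node (.leaf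 43) (.leaf 216094483))) (.node (.node (.leaf 35006176) (.leaf 267387228)) (.leaf 249238090))) (.node (.node (.node (.leaf 117002806) (.leaf 306038895)) (.leaf 35772744)) (.node (.node (.leaf 165429936) (.leaf 39108798)) (.leaf 188852445))))))

/-- Part of the table `stepT1`. -/
def stepT1_3 : Tr := (.node (.node (.node (.node (.node (.node (.leaf 65733126) (.leaf 270981809)) (.node (.leaf 282195163) (.leaf 149337499))) (.node (.node (.leaf 288420082) (.leaf 263851280)) (.leaf 93729398))) (.node (.node (.node (.leaf 226) (.leaf 248934503)) (.leaf 91151920)) (.node (.node (.leaf 60687936) (.leaf 253135159)) (.leaf 34)))) (.node (.node (.node (.node (.leaf 4) (.leaf 81693580)) (.node (.leaf 145648274) (.leaf 262574313))) (.node (.node (.leaf 267386962) (.leaf 74647308)) (.leaf 161551935))) (.node (.node (.node (.leaf 177967907) (.leaf 149322887)) (.leaf 8293028)) (.node (.node (.leaf 39108632) (.leaf 268779267)) (.leaf 293886018))))) (.node (.node (.node (.node (.node (.leaf 23) (.leaf 299256073)) (.node (.leaf 198963216) (.leaf 254898549))) (.node (.node (.leaf 180558044) (.leaf 159451902))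 (.leaf 149257845))) (.node (.node (.node (.leaf 7668251) (.leaf 78417716)) (.leaf 15417526)) (.node (.node (.leaf 185) (.leaf 64078686)) (.leaf 6939372)))) (.node (.node (.node (.node (.leaf 192) (.leaf 80368416)) (.node (.leaf 100175512) (.leaf 43413816))) (.node (.node (.leaf 311031537) (.leaf 267387226)) (.leaf 149655700))) (.node (.node (.node (.leaf 101805105) (.leaf 149258042)) (.leaf 158754988)) (.node (.node (.leaf 7646764) (.leaf 149561046)) (.leaf 11402901))))))

/-- Part of the table `stepT1`. -/
def stepT1_4 : Tr := (.node (.node (.node (.node (.node (.node (.leaf 65733122) (.leaf 120332039)) (.node (.leaf 283959109) (.leaf 273689974))) (.node (.node (.leaf 65733128) (.leaf 39108797)) (.leaf 100354455))) (.node (.node (.node (.leaf 271727628) (.leaf 195827251)) (.leaf 196344486)) (.node (.node (.leaf 152315604) (.leaf 91909352)) (.leaf 68358019)))) (.node (.node (.node (.node (.leaf 39108679) (.leaf 318101351)) (.node (.leaf 323435748) (.leaf 265423035))) (.node (.node (.leaf 65733453) (.leaf 275984475)) (.leaf 145643386))) (.node (.node (.node (.leaf 117002812) (.leaf 261969737))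 (.leaf 60688042)) (.node (.node (.leaf 89858242) (.leaf 184058246)) (.leaf 71659069))))) (.node (.node (.node (.node (.node (.leaf 35677209) (.leaf 208070453)) (.node (.leaf 275461793) (.leaf 315124068))) (.node (.node (.leaf 274924841) (.leaf 39108787)) (.leaf 38123919))) (.node (.node (.node (.leaf 281) (.leaf 25992280)) (.leaf 216)) (.node (.node (.leaf 45496987) (.leaf 165046685)) (.leaf 557349)))) (.node (.node (.node (.node (.leaf 117002785) (.leaf 18000606)) (.node (.leaf 37122315) (.leaf 4930445))) (.node (.node (.leaf 8292917) (.leaf 24736106)) (.leaf 61269790))) (.node (.node (.node (.leaf 144589456) (.leaf 209541438)) (.leaf 39108988)) (.node (.node (.leaf 196500556) (.leaf 114541719)) (.leaf 149774154))))))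

/-- Part of the table `stepT1`. -/
def stepT1_5 : Tr := (.node (.node (.node (.node (.node (.node (.leaf 0) (.leaf 46219936)) (.node (.leaf 203560701) (.leaf 299358579))) (.node (.node (.leaf 251264569) (.leaf 297436415)) (.leaf 161800975))) (.node (.node (.node (.leaf 117002782) (.leaf 166850969)) (.leaf 270728846)) (.node (.node (.leaf 39108773) (.leaf 218771776)) (.leaf 6039761)))) (.node (.node (.node (.node (.leaf 3) (.leaf 231800085)) (.node (.leaf 47783792) (.leaf 159))) (.node (.node (.leaf 344) (.leaf 24321237)) (.leaf 62598369))) (.node (.node (.node (.leaf 114637370) (.leaf 56)) (.leaf 150348034)) (.node (.node (.leaf 149560869) (.leaf 328302444)) (.leaf 289170010))))) (.node (.node (.node (.node (.node (.leaf 149257760) (.leaf 299256074)) (.node (.leaf 7552248) (.leaf 18391876))) (.node (.node (.leaf 263291971) (.leaf 157164854)) (.leaf 163))) (.node (.node (.node (.leaf 261) (.leaf 178161742)) (.leaf 241934475)) (.node (.node (.leaf 184) (.leaf 91474793)) (.leaf 259091346)))) (.node (.node (.node (.node (.leaf 47037454) (.leaf 46)) (.node (.leaf 119464685) (.leaf 179156257)))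 (.node (.node (.leaf 17886411) (.leaf 118584208)) (.leaf 149257945))) (.node (.node (.node (.leaf 140864065) (.leaf 778041)) (.leaf 106)) (.node (.node (.leaf 377) (.leaf 121)) (.leaf 170008349))))))

/-- Part of the table `stepT1`. -/
def stepT1_6 : Tr := (.node (.node (.node (.node (.node (.node (.leaf 19) (.leaf 41)) (.node (.leaf 13) (.leaf 209541509))) (.node (.node (.leaf 65733149) (.leaf 130185350)) (.leaf 7582459))) (.node (.node (.node (.leaf 145643121) (.leaf 507630)) (.leaf 39108705)) (.node (.node (.leaf 91474533) (.leaf 146449039)) (.leaf 277481811)))) (.node (.node (.node (.node (.leaf 31) (.leaf 174654225)) (.node (.leaf 114383098) (.leaf 267264301))) (.node (.node (.leaf 149257813) (.leaf 289818356)) (.leaf 65030481))) (.node (.node (.node (.leaf 66400862) (.leaf 267226894)) (.leaf 39108663)) (.node (.node (.leaf 149257930) (.leaf 260253066)) (.leaf 275102036))))) (.node (.node (.node (.node (.node (.leaf 133) (.leaf 17358208)) (.node (.leaf 286097960) (.leaf 58991006))) (.node (.node (.leaf 178129548) (.leaf 65733206)) (.leaf 149639727))) (.node (.node (.node (.leaf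 149257924) (.leaf 194037141)) (.leaf 314280315)) (.node (.node (.leaf 115352635) (.leaf 91474797)) (.leaf 144181913)))) (.node (.node (.node (.node (.leaf 65733189) (.leaf 184641273)) (.node (.leaf 195) (.leaf 126785390))) (.node (.node (.leaf 324266792) (.leaf 40574836)) (.leaf 282195196))) (.node (.node (.node (.leaf 75597046) (.leaf 155433267)) (.leaf 39108934)) (.node (.node (.leaf 177697480) (.leaf 26148031)) (.leaf 271727745))))))

/-- Part of the table `stepT1`. -/
def stepT1_7 : Tr := (.node (.node (.node (.node (.node (.node (.leaf 17) (.leaf 119947122)) (.node (.leaf 157469448) (.leaf 86288102))) (.node (.node (.leaf 130851913) (.leaf 286794047)) (.leaf 157))) (.node (.node (.node (.leaf 235) (.leaf 237629490)) (.leaf 201)) (.node (.node (.leaf 242460487) (.leaf 54080408)) (.leaf 149257800)))) (.node (.node (.node (.node (.leaf 5) (.leaf 257286556)) (.node (.leaf 15) (.leaf 43306224))) (.node (.node (.leaf 174654031) (.leaf 177482469)) (.leaf 75540843))) (.node (.node (.node (.leaf 242788134) (.leaf 147037501)) (.leaf 39108942)) (.node (.node (.leaf 19547767) (.leaf 298112385))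 (.leaf 272511596))))) (.node (.node (.node (.node (.node (.leaf 112) (.leaf 37122206)) (.node (.leaf 168855721) (.leaf 154631047))) (.node (.node (.leaf 243283247) (.leaf 325933387)) (.leaf 18360921))) (.node (.node (.node (.leaf 156) (.leaf 52)) (.leaf 256003152)) (.node (.node (.leaf 329171799) (.leaf 90464979)) (.leaf 35)))) (.node (.node (.node (.node (.leaf 7668266) (.leaf 6985424)) (.node (.leaf 39940206) (.leaf 247969154))) (.node (.node (.leaf 258274134) (.leaf 267387227)) (.leaf 188852354))) (.node (.node (.node (.leaf 39497837) (.leaf 129117499)) (.leaf 268493718)) (.node (.node (.leaf 37939236) (.leaf 311902381)) (.leaf 13762757))))))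

/-- Part of the table `stepT1`. -/
def stepT1_8 : Tr := (.node (.node (.node (.node (.node (.node (.leaf 20) (.leaf 120332038)) (.node (.leaf 242964786) (.leaf 270862731))) (.node (.node (.leaf 39108630) (.leaf 243283043)) (.leaf 275654271))) (.node (.node (.node (.leaf 182860503) (.leaf 193504036)) (.leaf 207)) (.node (.node (.leaf 248934690) (.leaf 297976598)) (.leaf 67012912)))) (.node (.node (.node (.node (.leaf 10) (.leaf 36431959)) (.node (.leaf 40376702) (.leaf 72033990))) (.node (.node (.leaf 47843607) (.leaf 325928043)) (.leaf 182860327))) (.node (.node (.node (.leaf 39108789) (.leaf 207494498)) (.leaf 104)) (.node (.node (.leaf 19547763) (.leaf 116)) (.leaf 243017975))))) (.node (.node (.node (.node (.node (.leaf 147) (.leaf 215500993)) (.node (.leaf 262901605) (.leaf 40701646))) (.node (.node (.leaf 231799891) (.leaf 39108788)) (.leaf 167))) (.node (.node (.node (.leaf 200624845) (.leaf 242460235)) (.leaf 149257903)) (.node (.node (.leaf 304207164) (.leaf 91474799)) (.leaf 15876776)))) (.node (.node (.node (.node (.leaf 21) (.leaf 70672668)) (.node (.leaf 401) (.leaf 778143)))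 (.node (.node (.leaf 92073056) (.leaf 149258079)) (.leaf 167598303))) (.node (.node (.node (.leaf 142083794) (.leaf 289762115)) (.leaf 53639037)) (.node (.node (.leaf 131724487) (.leaf 137395040)) (.leaf 304526657))))))

/-- The table `stepT1`. -/
def stepT1 : Tr := (.node (.node (.node stepT1_1 stepT1_2) (.node stepT1_3 stepT1_4)) (.node (.node stepT1_5 stepT1_6) (.node stepT1_7 stepT1_8)))

/-- Part of the table `stepT2`. -/
def stepT2_1 : Tr := (.node (.node (.node (.node (.node (.node (.leaf 149257729) (.leaf 84841810)) (.node (.leaf 323742797) (.leaf 323868046))) (.node (.node (.leaf 149257898) (.leaf 7506567)) (.leaf 161923874))) (.node (.node (.node (.leaf 39108679) (.leaf 230486942)) (.leaf 149257775)) (.node (.node (.leaf 18089651) (.leaf 125683569)) (.leaf 39108686)))) (.node (.node (.node (.node (.leaf 153) (.leaf 178597662)) (.node (.leaf 35841263) (.leaf 102238571))) (.node (.node (.leaf 149257808) (.leaf 44874372)) (.leaf 209055526))) (.node (.node (.node (.leaf 305617607) (.leaf 287664432)) (.leaf 65989245)) (.node (.node (.leaf 65733234) (.leaf 149257922)) (.leaf 113144359)))))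 (.node (.node (.node (.node (.node (.leaf 149257749) (.leaf 249143117)) (.node (.leaf 36023564) (.leaf 48305466))) (.node (.node (.leaf 39108642) (.leaf 282485111)) (.leaf 165903996))) (.node (.node (.node (.leaf 49074817) (.leaf 50)) (.leaf 149257790)) (.node (.node (.leaf 297907816) (.leaf 188532043)) (.leaf 1475215)))) (.node (.node (.node (.node (.leaf 149257739) (.leaf 128250644)) (.node (.leaf 231273284) (.leaf 38995811))) (.node (.node (.leaf 149257905) (.leaf 68436310)) (.leaf 149257812))) (.node (.node (.node (.leaf 230192215) (.leaf 103999241)) (.leaf 297907896)) (.node (.node (.leaf 21130997) (.leaf 272243540)) (.leaf 274430268))))))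

/-- Part of the table `stepT2`. -/
def stepT2_2 : Tr := (.node (.node (.node (.node (.node (.node (.leaf 149257746) (.leaf 220777663)) (.node (.leaf 65268560) (.leaf 60072351))) (.node (.node (.leaf 39108636) (.leaf 232377496)) (.leaf 37122315))) (.node (.node (.node (.leaf 39457393) (.leaf 204087580)) (.leaf 149257781)) (.node (.node (.leaf 46637708) (.leaf 306021133)) (.leaf 36978379)))) (.node (.node (.node (.node (.leaf 149257748) (.leaf 262599960)) (.node (.leaf 15) (.leaf 320864607))) (.node (.node (.leaf 149257944) (.leaf 119464312)) (.leaf 130079525))) (.node (.node (.node (.leaf 149257891) (.leaf 46964606)) (.leaf 49606910)) (.node (.node (.leaf 149257916) (.leaf 236590460)) (.leaf 141016405))))) (.node (.node (.node (.node (.node (.leaf 149257753) (.leaf 37425800)) (.node (.leaf 46637668) (.leaf 149258124))) (.node (.node (.leaf 202072589) (.leaf 39108782)) (.leaf 772989))) (.node (.node (.node (.leaf 149257885) (.leaf 103669926)) (.leaf 149257900)) (.node (.node (.leaf 297907820) (.leaf 201450367)) (.leaf 39043718)))) (.node (.node (.node (.node (.leaf 39108676) (.leaf 236337444))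 (.node (.leaf 149257884) (.leaf 193689959))) (.node (.node (.leaf 242475305) (.leaf 214131049)) (.leaf 149257921))) (.node (.node (.node (.leaf 149257788) (.leaf 142391544)) (.leaf 149257844)) (.node (.node (.leaf 244249288) (.leaf 254257524)) (.leaf 156634178))))))

/-- Part of the table `stepT2`. -/
def stepT2_3 : Tr := (.node (.node (.node (.node (.node (.node (.leaf 39108614) (.leaf 16477998)) (.node (.leaf 50205893) (.leaf 53141915))) (.node (.node (.leaf 261863164) (.leaf 142391518)) (.leaf 149258096))) (.node (.node (.node (.leaf 39108680) (.leaf 153485504)) (.leaf 300344959)) (.node (.node (.leaf 149257910) (.leaf 121189269)) (.leaf 65733347)))) (.node (.node (.node (.node (.leaf 149257732) (.leaf 149258002)) (.node (.leaf 11650783) (.leaf 216814913))) (.node (.node (.leaf 214130789) (.leaf 89327360)) (.leaf 1475211))) (.node (.node (.node (.leaf 296) (.leaf 230192481)) (.leaf 149257822)) (.node (.node (.leaf 65733232) (.leaf 216007022)) (.leaf 37304029))))) (.node (.node (.node (.node (.node (.leaf 297907722) (.leaf 204317594)) (.node (.leaf 199351533) (.leaf 155))) (.node (.node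 (.leaf 131855) (.leaf 316204367)) (.leaf 39108934))) (.node (.node (.node (.leaf 37122075) (.leaf 288501911)) (.leaf 149257792)) (.node (.node (.leaf 297907818) (.leaf 46275361)) (.leaf 220933957)))) (.node (.node (.node (.node (.leaf 149257831) (.leaf 299825549)) (.node (.leaf 393) (.leaf 170068234))) (.node (.node (.leaf 39342842) (.leaf 84653933)) (.leaf 149655699))) (.node (.node (.node (.leaf 309) (.leaf 18453896)) (.leaf 297907898)) (.node (.node (.leaf 323867843) (.leaf 282330961)) (.leaf 5323866))))))

/-- Part of the table `stepT2`. -/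
def stepT2_4 : Tr := (.node (.node (.node (.node (.node (.node (.leaf 39108610) (.leaf 41)) (.node (.leaf 36745452) (.leaf 329990535))) (.node (.node (.leaf 39108639) (.leaf 39108810)) (.leaf 216726423))) (.node (.node (.node (.leaf 1475086) (.leaf 275329744)) (.leaf 45349676)) (.node (.node (.leaf 49074926) (.leaf 276525413)) (.leaf 204622621)))) (.node (.node (.node (.node (.leaf 149257737) (.leaf 128250643)) (.node (.leaf 48327257) (.leaf 260437691))) (.node (.node (.leaf 46906499) (.leaf 81043288)) (.leaf 235421909))) (.node (.node (.node (.leaf 287664182) (.leaf 59)) (.leaf 149257826)) (.node (.node (.leaf 203792017) (.leaf 198410635)) (.leaf 135838415))))) (.node (.node (.node (.node (.node (.leaf 11650598) (.leaf 301248561)) (.node (.leaf 11650766) (.leaf 323769216))) (.node (.node (.leaf 39108832) (.leaf 20393567)) (.leaf 1475214))) (.node (.node (.node (.leaf 149257887) (.leaf 53022978)) (.leaf 39108940)) (.node (.node (.leaf 297908085) (.leaf 216007026)) (.leaf 49074790)))) (.node (.node (.node (.node (.leaf 149257758) (.leaf 137536272)) (.node (.leaf 149257773) (.leaf 282080032)))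 (.node (.node (.leaf 149257906) (.leaf 310538649)) (.leaf 274430274))) (.node (.node (.node (.leaf 149257896) (.leaf 8987865)) (.leaf 26484061)) (.node (.node (.leaf 300569733) (.leaf 39242548)) (.leaf 49949876))))))

/-- Part of the table `stepT2`. -/
def stepT2_5 : Tr := (.node (.node (.node (.node (.node (.node (.leaf 149257728) (.leaf 49512653)) (.node (.leaf 49074728) (.leaf 544627))) (.node (.node (.leaf 319960381) (.leaf 264579986)) (.leaf 149257948))) (.node (.node (.node (.leaf 287664161) (.leaf 61379434)) (.leaf 318116751)) (.node (.node (.leaf 149257909) (.leaf 151551794)) (.leaf 231215313)))) (.node (.node (.node (.node (.leaf 149257731) (.leaf 149258001)) (.node (.leaf 249144438) (.leaf 149258009))) (.node (.node (.leaf 214130779) (.leaf 159632762)) (.leaf 208725217))) (.node (.node (.node (.leaf 305617678) (.leaf 7668503)) (.leaf 149257816)) (.node (.node (.leaf 36019236) (.leaf 255056736)) (.leaf 241512597))))) (.node (.node (.node (.node (.node (.leaf 149257750) (.leaf 38685496)) (.node (.leaf 261984367) (.leaf 154))) (.node (.node (.leaf 39108643) (.leaf 1475181)) (.leaf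 149258027))) (.node (.node (.node (.leaf 262) (.leaf 130507356)) (.leaf 149257791)) (.node (.node (.leaf 297907817) (.leaf 130755932)) (.leaf 23646463)))) (.node (.node (.node (.node (.leaf 149257740) (.leaf 149258129)) (.node (.leaf 16) (.leaf 287224158))) (.node (.node (.leaf 49309846) (.leaf 293638867)) (.leaf 33055038))) (.node (.node (.node (.leaf 307) (.leaf 214131003)) (.leaf 297907897)) (.node (.node (.leaf 299038585) (.leaf 299038329)) (.leaf 49075075))))))

/-- Part of the table `stepT2`. -/
def stepT2_6 : Tr := (.node (.node (.node (.node (.node (.node (.leaf 149257747) (.leaf 120332039)) (.node (.leaf 306927742) (.leaf 65268471))) (.node (.node (.leaf 39108637) (.leaf 197982954)) (.leaf 49111682))) (.node (.node (.node (.leaf 49074811) (.leaf 201239252)) (.leaf 149257783)) (.node (.node (.leaf 130755666) (.leaf 173138278)) (.leaf 252363055)))) (.node (.node (.node (.node (.leaf 149257736) (.leaf 85665557)) (.node (.leaf 256353009) (.leaf 157729634))) (.node (.node (.leaf 149257903) (.leaf 277416180)) (.leaf 243755222))) (.node (.node (.node (.leaf 149257892) (.leaf 58)) (.leaf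 149257825)) (.node (.node (.leaf 149257917) (.leaf 297907822)) (.leaf 20355192))))) (.node (.node (.node (.node (.node (.leaf 213327436) (.leaf 292026212)) (.node (.leaf 11650813) (.leaf 312819482))) (.node (.node (.leaf 323742848) (.leaf 136505096)) (.leaf 35772673))) (.node (.node (.node (.leaf 149257886) (.leaf 152087863)) (.leaf 154210419)) (.node (.node (.leaf 11650889) (.leaf 70535514)) (.leaf 261550218)))) (.node (.node (.node (.node (.leaf 39108677) (.leaf 222122214)) (.node (.leaf 149257772) (.leaf 149579011))) (.node (.node (.leaf 38889251) (.leaf 58409662)) (.leaf 37304050))) (.node (.node (.node (.leaf 149257895) (.leaf 330082881)) (.leaf 149257845)) (.node (.node (.leaf 56842928) (.leaf 879308)) (.leaf 1475213))))))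

/-- Part of the table `stepT2`. -/
def stepT2_7 : Tr := (.node (.node (.node (.node (.node (.node (.leaf 149257745) (.leaf 184367005)) (.node (.leaf 26832982) (.leaf 49074937))) (.node (.node (.leaf 240627435) (.leaf 291143779)) (.leaf 323768954))) (.node (.node (.node (.leaf 39108681) (.leaf 35892829)) (.leaf 149257780)) (.node (.node (.leaf 289516867) (.leaf 56982424)) (.leaf 65733346)))) (.node (.node (.node (.node (.leaf 149257733) (.leaf 262599958)) (.node (.leaf 123626202) (.leaf 17865943))) (.node (.node (.leaf 85665363) (.leaf 75)) (.leaf 311224665))) (.node (.node (.node (.leaf 48857371) (.leaf 57)) (.leaf 102238304)) (.node (.node (.leaf 285833901) (.leaf 373633)) (.leaf 329349875))))) (.node (.node (.node (.node (.node (.leaf 149257752) (.leaf 37122244)) (.node (.leaf 11650770) (.leaf 143884662))) (.node (.node (.leaf 339) (.leaf 266454376)) (.leaf 65286372))) (.node (.node (.node (.leaf 149257771) (.leaf 149257929)) (.leaf 149257899)) (.node (.node (.leaf 297907819) (.leaf 18089872)) (.leaf 183593027)))) (.node (.node (.node (.node (.leaf 37122090) (.leaf 48857139)) (.node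 (.leaf 394) (.leaf 13200258))) (.node (.node (.leaf 130755665) (.leaf 214131055)) (.leaf 46637819))) (.node (.node (.node (.leaf 310) (.leaf 130755897)) (.leaf 269542294)) (.node (.node (.leaf 49074725) (.leaf 38386295)) (.leaf 46637787))))))

/-- Part of the table `stepT2`. -/
def stepT2_8 : Tr := (.node (.node (.node (.node (.node (.node (.leaf 149257735) (.leaf 120332037)) (.node (.leaf 107851584) (.leaf 329990534))) (.node (.node (.leaf 39108640) (.leaf 15975743)) (.leaf 301248560))) (.node (.node (.node (.leaf 113144560) (.leaf 115214111)) (.leaf 149257789)) (.node (.node (.leaf 149257754) (.leaf 130545052)) (.leaf 299038439)))) (.node (.node (.node (.node (.leaf 297907735) (.leaf 7668529)) (.node (.leaf 305474346) (.leaf 163297478))) (.node (.node (.leaf 151551544) (.leaf 149258071)) (.leaf 53546899))) (.node (.node (.node (.leaf 149257893) (.leaf 249466157)) (.leaf 297907895)) (.node (.node (.leaf 38386555) (.leaf 163128136)) (.leaf 44874629))))) (.node (.node (.node (.node (.node (.leaf 148) (.leaf 449610)) (.node (.leaf 11650792) (.leaf 318116513))) (.node (.node (.leaf 149257807)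 (.leaf 311663946)) (.leaf 130164470))) (.node (.node (.node (.leaf 149257888) (.leaf 195479781)) (.leaf 149257813)) (.node (.node (.leaf 213816969) (.leaf 130755931)) (.leaf 35841168)))) (.node (.node (.node (.node (.leaf 39108678) (.leaf 26442023)) (.node (.leaf 149257774) (.leaf 66772356))) (.node (.node (.leaf 20393806) (.leaf 320864660)) (.leaf 1475218))) (.node (.node (.node (.leaf 149257897) (.leaf 8074055)) (.leaf 283305220)) (.node (.node (.leaf 294688930) (.leaf 204698988)) (.leaf 23646441))))))

/-- The table `stepT2`. -/
def stepT2 : Tr := (.node (.node (.node stepT2_1 stepT2_2) (.node stepT2_3 stepT2_4)) (.node (.node stepT2_5 stepT2_6) (.node stepT2_7 stepT2_8)))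

/-- Part of the table `stepT3`. -/
def stepT3_1 : Tr := (.node (.node (.node (.node (.node (.node (.leaf 2) (.leaf 196530893)) (.node (.leaf 37122146) (.leaf 128656256))) (.node (.node (.leaf 142348900) (.leaf 85050467)) (.leaf 161800975))) (.node (.node (.node (.leaf 9) (.leaf 128161027)) (.leaf 7668492)) (.node (.node (.leaf 90564192) (.leaf 300220205)) (.leaf 93)))) (.node (.node (.node (.node (.leaf 54832) (.leaf 49534706)) (.node (.leaf 175683646) (.leaf 149258128))) (.node (.node (.leaf 93710927) (.leaf 247)) (.leaf 63))) (.node (.node (.node (.leaf 79376) (.leaf 31691884)) (.leaf 130396934)) (.node (.node (.leaf 226) (.leaf 46339375)) (.leaf 76314352))))) (.node (.node (.node (.node (.node (.leaf 31) (.leaf 49004236)) (.node (.leaf 54831) (.leaf 259621599))) (.node (.node (.leaf 65733144) (.leaf 232850178)) (.leaf 325473029))) (.node (.node (.node (.leaf 102) (.leaf 130507356)) (.leaf 15062255)) (.node (.node (.leaf 10) (.leaf 36912428)) (.leaf 167941924)))) (.node (.node (.node (.node (.leaf 65733192) (.leaf 859412)) (.node (.leaf 213630001) (.leaf 39595363))) (.node (.node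 (.leaf 37122164) (.leaf 252108025)) (.leaf 300220120))) (.node (.node (.node (.leaf 203) (.leaf 56745322)) (.leaf 300417596)) (.node (.node (.leaf 283329814) (.leaf 97647975)) (.leaf 37))))))

/-- Part of the table `stepT3`. -/
def stepT3_2 : Tr := (.node (.node (.node (.node (.node (.node (.leaf 28) (.leaf 319381123)) (.node (.leaf 389) (.leaf 267812767))) (.node (.node (.leaf 65733138) (.leaf 246435086)) (.leaf 45))) (.node (.node (.node (.leaf 284289135) (.leaf 219645160)) (.leaf 24421554)) (.node (.node (.leaf 175683648) (.leaf 282683236)) (.leaf 328570455)))) (.node (.node (.node (.node (.leaf 85665310) (.leaf 778520)) (.node (.leaf 256353009) (.leaf 218834783))) (.node (.node (.leaf 300219988) (.leaf 181142940)) (.leaf 7453325))) (.node (.node (.node (.leaf 201) (.leaf 57)) (.leaf 191393460)) (.node (.node (.leaf 37122136) (.leaf 325833076)) (.leaf 239729493))))) (.node (.node (.node (.node (.node (.leaf 35) (.leaf 7668384)) (.node (.leaf 74254506) (.leaf 275586325))) (.node (.node (.leaf 305638124) (.leaf 300220236)) (.leaf 37360904))) (.node (.node (.node (.leaf 195) (.leaf 24421736))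 (.leaf 220279915)) (.node (.node (.leaf 10760496) (.leaf 13542242)) (.leaf 309641804)))) (.node (.node (.node (.node (.leaf 4) (.leaf 189928079)) (.node (.leaf 159451754) (.leaf 175218004))) (.node (.node (.leaf 242475304) (.leaf 105657705)) (.leaf 103))) (.node (.node (.node (.leaf 292830392) (.leaf 188976251)) (.leaf 37122225)) (.node (.node (.leaf 237381383) (.leaf 86117244)) (.leaf 50107614))))))

/-- Part of the table `stepT3`. -/
def stepT3_3 : Tr := (.node (.node (.node (.node (.node (.node (.leaf 0) (.leaf 280054600)) (.node (.leaf 282246815) (.leaf 53026715))) (.node (.node (.leaf 322) (.leaf 66)) (.leaf 93729509))) (.node (.node (.node (.leaf 11) (.leaf 79434)) (.leaf 28976266)) (.node (.node (.leaf 37122176) (.leaf 60011372)) (.leaf 112)))) (.node (.node (.node (.node (.leaf 65733188) (.leaf 190095121)) (.node (.leaf 13335354) (.leaf 300220306))) (.node (.node (.leaf 105657445) (.leaf 139199745)) (.leaf 196624667))) (.node (.node (.node (.leaf 297) (.leaf 85566783)) (.leaf 36912292)) (.node (.node (.leaf 227) (.leaf 187973914)) (.leaf 46705936))))) (.node (.node (.node (.node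 (.node (.leaf 104) (.leaf 210967961)) (.node (.leaf 25728162) (.leaf 54053193))) (.node (.node (.leaf 55074) (.leaf 194242890)) (.leaf 55))) (.node (.node (.node (.leaf 7668241) (.leaf 279313473)) (.leaf 94778508)) (.node (.node (.leaf 149773980) (.leaf 17888056)) (.leaf 126)))) (.node (.node (.node (.node (.leaf 193) (.leaf 223546226)) (.node (.leaf 46339130) (.leaf 300797278))) (.node (.node (.leaf 868570) (.leaf 133548909)) (.leaf 637530))) (.node (.node (.node (.leaf 39181466) (.leaf 60317330)) (.leaf 87224151)) (.node (.node (.leaf 7646877) (.leaf 86117243)) (.leaf 11402899))))))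

/-- Part of the table `stepT3`. -/
def stepT3_4 : Tr := (.node (.node (.node (.node (.node (.node (.leaf 65733121) (.leaf 204039344)) (.node (.leaf 13) (.leaf 142))) (.node (.node (.leaf 65733141) (.leaf 65733285)) (.leaf 159600535))) (.node (.node (.node (.leaf 271727851) (.leaf 174704297)) (.leaf 65018187)) (.node (.node (.leaf 40) (.leaf 293718823)) (.leaf 55111259)))) (.node (.node (.node (.node (.leaf 65733191) (.leaf 165144696)) (.node (.leaf 35676951) (.leaf 307100859))) (.node (.node (.leaf 323195071) (.leaf 163071875)) (.leaf 36841645))) (.node (.node (.node (.leaf 6405737) (.leaf 322246517)) (.leaf 200455757)) (.node (.node (.leaf 277481811) (.leaf 312891553)) (.leaf 71659175))))) (.node (.node (.node (.node (.node (.leaf 13335107) (.leaf 119834436)) (.node (.leaf 390) (.leaf 300220302))) (.node (.node (.leaf 55075) (.leaf 149258062)) (.leaf 134803335))) (.node (.node (.node (.leaf 197) (.leaf 169247607)) (.leaf 300220078)) (.node (.node (.leaf 75573819) (.leaf 151003533)) (.leaf 129)))) (.node (.node (.node (.node (.leaf 85665300) (.leaf 217992925)) (.node (.leaf 7668491)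 (.leaf 78268317))) (.node (.node (.leaf 36912181) (.leaf 300797338)) (.leaf 50107644))) (.node (.node (.node (.leaf 142348944) (.leaf 189278895)) (.leaf 319852222)) (.node (.node (.leaf 234) (.leaf 39242547)) (.leaf 76314366))))))

/-- Part of the table `stepT3`. -/
def stepT3_5 : Tr := (.node (.node (.node (.node (.node (.node (.leaf 65733126) (.leaf 162873170)) (.node (.leaf 238) (.leaf 148277619))) (.node (.node (.leaf 232066346) (.leaf 86117185)) (.leaf 26))) (.node (.node (.node (.leaf 42496519) (.leaf 152695049)) (.leaf 302273398)) (.node (.node (.leaf 65733309) (.leaf 143497543)) (.leaf 13084881)))) (.node (.node (.node (.node (.leaf 7668266) (.leaf 190095122)) (.node (.leaf 50107467) (.leaf 749787))) (.node (.node (.leaf 302190365) (.leaf 308577399)) (.leaf 65550049))) (.node (.node (.node (.leaf 231039128) (.leaf 18360921)) (.leaf 37122236)) (.node (.node (.leaf 323768969) (.leaf 206478647)) (.leaf 241512596))))) (.node (.node (.node (.node (.node (.leaf 32) (.leaf 189990689)) (.node (.leaf 323867761) (.leaf 46339381))) (.node (.node (.leaf 65733145) (.leaf 26534794)) (.leaf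 52))) (.node (.node (.node (.leaf 39726205) (.leaf 50)) (.leaf 209103142)) (.node (.node (.leaf 15415862) (.leaf 16680284)) (.leaf 76314345)))) (.node (.node (.node (.node (.leaf 65733193) (.leaf 7582459)) (.node (.leaf 294276807) (.leaf 202069770))) (.node (.node (.leaf 17886513) (.leaf 320864601)) (.leaf 85))) (.node (.node (.node (.leaf 308) (.leaf 110204219)) (.leaf 149773867)) (.node (.node (.leaf 86117241) (.leaf 86116985)) (.leaf 264912728))))))

/-- Part of the table `stepT3`. -/
def stepT3_6 : Tr := (.node (.node (.node (.node (.node (.node (.leaf 29) (.leaf 324266696)) (.node (.leaf 283959109) (.leaf 132))) (.node (.node (.leaf 65733139) (.leaf 130185349)) (.leaf 46))) (.node (.node (.node (.leaf 248) (.leaf 193399037)) (.leaf 65733446)) (.node (.node (.leaf 16680018) (.leaf 323180319)) (.leaf 89858242)))) (.node (.node (.node (.node (.leaf 65733190) (.leaf 220609420)) (.node (.leaf 15) (.leaf 50671487))) (.node (.node (.leaf 217) (.leaf 277752564)) (.leaf 32685683))) (.node (.node (.node (.leaf 24421470) (.leaf 39181705)) (.leaf 65733237)) (.node (.node (.leaf 65733301) (.leaf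 320371510)) (.leaf 840467))))) (.node (.node (.node (.node (.node (.leaf 134) (.leaf 323917581)) (.node (.leaf 115670740) (.leaf 191372142))) (.node (.node (.leaf 242490038) (.leaf 58079613)) (.leaf 161715968))) (.node (.node (.node (.leaf 196) (.leaf 300220256)) (.leaf 10896598)) (.node (.node (.leaf 28683931) (.leaf 261321562)) (.leaf 127)))) (.node (.node (.node (.node (.leaf 5) (.leaf 314888273)) (.node (.leaf 45902458) (.leaf 79153566))) (.node (.node (.leaf 224) (.leaf 300220253)) (.leaf 129248542))) (.node (.node (.node (.leaf 207) (.leaf 68706967)) (.leaf 65733217)) (.node (.node (.leaf 39726121) (.leaf 45621581)) (.leaf 272313637))))))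

/-- Part of the table `stepT3`. -/
def stepT3_7 : Tr := (.node (.node (.node (.node (.node (.node (.leaf 27) (.leaf 270701856)) (.node (.leaf 309807364) (.leaf 260431190))) (.node (.node (.leaf 60317198) (.leaf 309821063)) (.leaf 44))) (.node (.node (.node (.leaf 12) (.leaf 79438)) (.leaf 299)) (.node (.node (.leaf 71747904) (.leaf 56838040)) (.leaf 114)))) (.node (.node (.node (.node (.leaf 65733189) (.leaf 259317)) (.node (.leaf 114383098) (.leaf 149258131))) (.node (.node (.leaf 220609195) (.leaf 177482358)) (.leaf 76314323))) (.node (.node (.node (.leaf 130428043) (.leaf 46964606)) (.leaf 149257907)) (.node (.node (.leaf 110111445) (.leaf 135118721)) (.leaf 252831975))))) (.node (.node (.node (.node (.node (.leaf 34) (.leaf 7668382)) (.node (.leaf 233496115) (.leaf 45293455))) (.node (.node (.leaf 50107537) (.leaf 58247846)) (.leaf 56))) (.node (.node (.node (.leaf 159451833) (.leaf 163)) (.leaf 275586131)) (.node (.node (.leaf 132159660) (.leaf 90564459)) (.leaf 203560486)))) (.node (.node (.node (.node (.leaf 3) (.leaf 163361490)) (.node (.leaf 25695341) (.leaf 7544194))) (.node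 (.node (.leaf 107242214) (.leaf 105657711)) (.leaf 157073))) (.node (.node (.node (.leaf 87110766) (.leaf 51940665)) (.leaf 286326166)) (.node (.node (.leaf 192299836) (.leaf 86117242)) (.leaf 13762841))))))

/-- Part of the table `stepT3`. -/
def stepT3_8 : Tr := (.node (.node (.node (.node (.node (.node (.leaf 42496545) (.leaf 262552188)) (.node (.leaf 305647427) (.leaf 265104590))) (.node (.node (.leaf 65733142) (.leaf 250900321)) (.leaf 301210265))) (.node (.node (.node (.leaf 76314151) (.leaf 308088166)) (.leaf 75597046)) (.node (.node (.leaf 220) (.leaf 68310904)) (.leaf 129704691)))) (.node (.node (.node (.node (.leaf 183) (.leaf 35676822)) (.node (.leaf 90864957) (.leaf 162989254))) (.node (.node (.leaf 326265060) (.leaf 79741114)) (.leaf 261160151))) (.node (.node (.node (.leaf 202) (.leaf 281455985)) (.leaf 23)) (.node (.node (.leaf 319713105) (.leaf 200477998)) (.leaf 336))))) (.node (.node (.node (.node (.node (.leaf 149) (.leaf 215500992)) (.node (.leaf 160603932) (.leaf 38981515))) (.node (.node (.leaf 93710928) (.leaf 90564431)) (.leaf 61))) (.node (.node (.node (.leaf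 79496) (.leaf 39181680)) (.leaf 242828094)) (.node (.node (.leaf 146162724) (.leaf 16680283)) (.leaf 106826408)))) (.node (.node (.node (.node (.leaf 8) (.leaf 326399333)) (.node (.leaf 200912514) (.leaf 218807684))) (.node (.node (.leaf 149257823) (.leaf 234182548)) (.leaf 229347720))) (.node (.node (.node (.leaf 208) (.leaf 85566770)) (.leaf 327290966)) (.node (.node (.leaf 237) (.leaf 28551061)) (.leaf 76314367))))))

/-- The table `stepT3`. -/
def stepT3 : Tr := (.node (.node (.node stepT3_1 stepT3_2) (.node stepT3_3 stepT3_4)) (.node (.node stepT3_5 stepT3_6) (.node stepT3_7 stepT3_8)))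

/-- Part of the table `stepT4`. -/
def stepT4_1 : Tr := (.node (.node (.node (.node (.node (.node (.leaf 3) (.leaf 45318868)) (.node (.leaf 39043719) (.leaf 49151308))) (.node (.node (.leaf 319) (.leaf 261172813)) (.leaf 250376924))) (.node (.node (.node (.leaf 196) (.leaf 35676931)) (.leaf 65733249)) (.node (.node (.leaf 363) (.leaf 169227633)) (.leaf 50107688)))) (.node (.node (.node (.node (.leaf 79498) (.leaf 103669949)) (.node (.leaf 179732574) (.leaf 179))) (.node (.node (.leaf 318567698) (.leaf 55001)) (.leaf 189386110))) (.node (.node (.node (.leaf 26013858) (.leaf 24750699)) (.leaf 295310536)) (.node (.node (.leaf 149560869) (.leaf 48935763)) (.leaf 96532148))))) (.node (.node (.node (.node (.node (.leaf 44) (.leaf 105729110)) (.node (.leaf 38889062) (.leaf 170689702))) (.node (.node (.leaf 14795375) (.leaf 49501947)) (.leaf 287123120))) (.node (.node (.node (.leaf 35676719) (.leaf 50107616)) (.leaf 39622308)) (.node (.node (.leaf 66263657) (.leaf 300786322)) (.leaf 248022823)))) (.node (.node (.node (.node (.leaf 163439140) (.leaf 85471547)) (.node (.leaf 291820698) (.leaf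 163851129))) (.node (.node (.leaf 149257887) (.leaf 30016899)) (.leaf 315124068))) (.node (.node (.node (.leaf 35768410) (.leaf 281236233)) (.leaf 115380407)) (.node (.node (.leaf 115927318) (.leaf 177138535)) (.leaf 145643234))))))

/-- Part of the table `stepT4`. -/
def stepT4_2 : Tr := (.node (.node (.node (.node (.node (.node (.leaf 20509701) (.leaf 174856061)) (.node (.leaf 15116094) (.leaf 177676639))) (.node (.node (.leaf 39622213) (.leaf 291180937)) (.leaf 32))) (.node (.node (.node (.leaf 243434520) (.leaf 103280998)) (.leaf 20509864)) (.node (.node (.leaf 39747890) (.leaf 298169560)) (.leaf 328363155)))) (.node (.node (.node (.node (.leaf 156) (.leaf 221276473)) (.node (.leaf 48327257) (.leaf 40603039))) (.node (.node (.leaf 54045965) (.leaf 150579100)) (.leaf 117930752))) (.node (.node (.node (.leaf 20509757) (.leaf 136887078)) (.leaf 90454256)) (.node (.node (.leaf 323654786) (.leaf 123240850)) (.leaf 39211718))))) (.node (.node (.node (.node (.node (.leaf 309641804) (.leaf 50231022)) (.node (.leaf 212769633) (.leaf 171))) (.node (.node (.leaf 305637900) (.leaf 46452608))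 (.leaf 243434687))) (.node (.node (.node (.leaf 8) (.leaf 20510010)) (.leaf 231171180)) (.node (.node (.leaf 151539884) (.leaf 240234367)) (.leaf 35)))) (.node (.node (.node (.node (.leaf 20509725) (.leaf 281270117)) (.node (.leaf 20) (.leaf 223683924))) (.node (.node (.leaf 236240477) (.leaf 143884634)) (.leaf 277011648))) (.node (.node (.node (.leaf 315776023) (.leaf 261172963)) (.leaf 7668421)) (.node (.node (.leaf 238313597) (.leaf 586561)) (.leaf 156727))))))

/-- Part of the table `stepT4`. -/
def stepT4_3 : Tr := (.node (.node (.node (.node (.node (.node (.leaf 27) (.leaf 153840921)) (.node (.leaf 323419252) (.leaf 21752193))) (.node (.node (.leaf 286460581) (.leaf 141590854)) (.leaf 200494667))) (.node (.node (.node (.leaf 323768969) (.leaf 65733313)) (.leaf 28717104)) (.node (.node (.leaf 307961667) (.leaf 137274261)) (.leaf 149561080)))) (.node (.node (.node (.node (.leaf 20509715) (.leaf 318567504)) (.node (.leaf 296241000) (.leaf 259458932))) (.node (.node (.leaf 347) (.leaf 123584805)) (.leaf 138765629))) (.node (.node (.node (.leaf 37303886) (.leaf 48572516)) (.leaf 85139183))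 (.node (.node (.leaf 37403259) (.leaf 277160218)) (.leaf 50205793))))) (.node (.node (.node (.node (.node (.leaf 117294646) (.leaf 204205978)) (.node (.leaf 54800) (.leaf 120332170))) (.node (.node (.leaf 102995482) (.leaf 49852119)) (.leaf 39716062))) (.node (.node (.node (.leaf 50230790) (.leaf 293898803)) (.leaf 37324615)) (.node (.node (.leaf 300458014) (.leaf 70532385)) (.leaf 6939371)))) (.node (.node (.node (.node (.leaf 65751626) (.leaf 220870514)) (.node (.leaf 291820696) (.leaf 247316746))) (.node (.node (.leaf 37264440) (.leaf 198410588)) (.leaf 17074379))) (.node (.node (.node (.leaf 238895665) (.leaf 39622444)) (.leaf 29778163)) (.node (.node (.leaf 49151046) (.leaf 119)) (.leaf 11355223))))))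

/-- Part of the table `stepT4`. -/
def stepT4_4 : Tr := (.node (.node (.node (.node (.node (.node (.leaf 50230826) (.leaf 120332037)) (.node (.leaf 54857) (.leaf 55809926))) (.node (.node (.leaf 46452346) (.leaf 153158978)) (.leaf 49603828))) (.node (.node (.node (.leaf 233884286) (.leaf 135673140)) (.leaf 184303496)) (.node (.node (.leaf 35892872) (.leaf 14442788)) (.leaf 165903953)))) (.node (.node (.node (.node (.leaf 158) (.leaf 42735736)) (.node (.leaf 15) (.leaf 43485409))) (.node (.node (.leaf 19628808) (.leaf 196141817)) (.leaf 151389811))) (.node (.node (.node (.leaf 24750602) (.leaf 315776310)) (.leaf 65751651)) (.node (.node (.leaf 248715055) (.leaf 116776310)) (.leaf 103289131))))) (.node (.node (.node (.node (.node (.leaf 25972869) (.leaf 71886133)) (.node (.leaf 55809678) (.leaf 174))) (.node (.node (.leaf 37303858) (.leaf 4763481)) (.leaf 85663438))) (.node (.node (.node (.leaf 149257905) (.leaf 323728785)) (.leaf 398)) (.node (.node (.leaf 116776046) (.leaf 182656397)) (.leaf 50231052)))) (.node (.node (.node (.node (.leaf 288051818) (.leaf 58405493)) (.node (.leaf 22)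 (.leaf 84568989))) (.node (.node (.leaf 227866768) (.leaf 294474649)) (.leaf 50030794))) (.node (.node (.node (.leaf 39622197) (.leaf 47726212)) (.leaf 312845055)) (.node (.node (.leaf 184856614) (.leaf 124579536)) (.leaf 39))))))

/-- Part of the table `stepT4`. -/
def stepT4_5 : Tr := (.node (.node (.node (.node (.node (.node (.leaf 17) (.leaf 192035581)) (.node (.leaf 65733280) (.leaf 5465986))) (.node (.node (.leaf 96538251) (.leaf 634236)) (.leaf 65733410))) (.node (.node (.node (.leaf 159883961) (.leaf 78666602)) (.leaf 84167841)) (.node (.node (.leaf 49111794) (.leaf 136987788)) (.leaf 29431702)))) (.node (.node (.node (.node (.leaf 1) (.leaf 79)) (.node (.leaf 204182757) (.leaf 323751726))) (.node (.node (.leaf 244249318) (.leaf 282880891)) (.leaf 28717243))) (.node (.node (.node (.leaf 222356538) (.leaf 67538161)) (.leaf 149257774)) (.node (.node (.leaf 11) (.leaf 255427936)) (.leaf 48801585))))) (.node (.node (.node (.node (.node (.leaf 45) (.leaf 142474552)) (.node (.leaf 323867682) (.leaf 304513860))) (.node (.node (.leaf 79494) (.leaf 37504841)) (.leaf 20509903))) (.node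 (.node (.node (.leaf 263) (.leaf 36745507)) (.leaf 95133753)) (.node (.node (.leaf 115380328) (.leaf 6613869)) (.leaf 133908317)))) (.node (.node (.node (.node (.leaf 65751565) (.leaf 136048386)) (.node (.leaf 215127277) (.leaf 287155550))) (.node (.node (.leaf 49309844) (.leaf 3215694)) (.leaf 79696))) (.node (.node (.node (.leaf 73683625) (.leaf 240056596)) (.leaf 134486561)) (.node (.node (.leaf 15435107) (.leaf 241624472)) (.leaf 259409238))))))

/-- Part of the table `stepT4`. -/
def stepT4_6 : Tr := (.node (.node (.node (.node (.node (.node (.leaf 39622148) (.leaf 120332038)) (.node (.leaf 35304462) (.leaf 209846959))) (.node (.node (.leaf 20509764) (.leaf 67)) (.leaf 7668412))) (.node (.node (.node (.leaf 145643120) (.leaf 245530450)) (.leaf 290026562)) (.node (.node (.leaf 367) (.leaf 121416988)) (.leaf 241729169)))) (.node (.node (.node (.node (.leaf 157) (.leaf 83)) (.node (.leaf 35676951) (.leaf 171391330))) (.node (.node (.leaf 79607) (.leaf 184172951)) (.leaf 96734893))) (.node (.node (.node (.leaf 20509758) (.leaf 75666702)) (.leaf 163439325)) (.node (.node (.leaf 102368030)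 (.leaf 116776309)) (.leaf 34891027))))) (.node (.node (.node (.node (.node (.leaf 102995481) (.leaf 34110548)) (.node (.leaf 46580941) (.leaf 214528366))) (.node (.node (.leaf 276918080) (.leaf 320701059)) (.leaf 37433485))) (.node (.node (.node (.leaf 9) (.leaf 223700279)) (.leaf 90539221)) (.node (.node (.leaf 85165165) (.leaf 6613865)) (.leaf 262078105)))) (.node (.node (.node (.node (.leaf 39622172) (.leaf 244527195)) (.node (.leaf 21) (.leaf 100083614))) (.node (.node (.leaf 198793308) (.leaf 218271465)) (.leaf 243434677))) (.node (.node (.node (.leaf 39622196) (.leaf 142310098)) (.leaf 45349648)) (.node (.node (.leaf 135535740) (.leaf 127622404)) (.leaf 127679745))))))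

/-- Part of the table `stepT4`. -/
def stepT4_7 : Tr := (.node (.node (.node (.node (.node (.node (.leaf 0) (.leaf 35676960)) (.node (.leaf 322337101) (.leaf 54839128))) (.node (.node (.leaf 325) (.leaf 295025250)) (.leaf 31))) (.node (.node (.node (.leaf 236) (.leaf 39043881)) (.leaf 20509863)) (.node (.node (.leaf 102995638) (.leaf 50531961)) (.leaf 276918076)))) (.node (.node (.node (.node (.leaf 39622162) (.leaf 112798965)) (.node (.leaf 323435748) (.leaf 191256399))) (.node (.node (.leaf 277) (.leaf 39035248)) (.leaf 34462815))) (.node (.node (.node (.leaf 293899050) (.leaf 293211711)) (.leaf 400)) (.node (.node (.leaf 204084950) (.leaf 17628059)) (.leaf 32772794))))) (.node (.node (.node (.node (.node (.leaf 113) (.leaf 50230855)) (.node (.leaf 92172353) (.leaf 303832971))) (.node (.node (.leaf 137065666) (.leaf 175520479)) (.leaf 35714266))) (.node (.node (.node (.leaf 7) (.leaf 54142198)) (.leaf 396)) (.node (.node (.leaf 117294896) (.leaf 96)) (.leaf 6939370)))) (.node (.node (.node (.node (.leaf 2) (.leaf 256663)) (.node (.leaf 120331931) (.leaf 49826163))) (.node (.node (.leaf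 228890909) (.leaf 82)) (.leaf 13762935))) (.node (.node (.node (.leaf 315776059) (.leaf 74312984)) (.leaf 26013905)) (.node (.node (.leaf 46734962) (.leaf 131852625)) (.leaf 37475656))))))

/-- Part of the table `stepT4`. -/
def stepT4_8 : Tr := (.node (.node (.node (.node (.node (.node (.leaf 43) (.leaf 41)) (.node (.leaf 36745344) (.leaf 55809927))) (.node (.node (.leaf 50231051) (.leaf 106721962)) (.leaf 322674815))) (.node (.node (.node (.leaf 254) (.leaf 185006824)) (.leaf 39622307)) (.node (.node (.leaf 39726351) (.leaf 174923128)) (.leaf 174085975)))) (.node (.node (.node (.node (.leaf 315776060) (.leaf 35676821)) (.node (.leaf 256795) (.leaf 274647893))) (.node (.node (.leaf 58036474) (.leaf 192712935)) (.leaf 64746826))) (.node (.node (.node (.leaf 749820) (.leaf 248967469)) (.leaf 66263736)) (.node (.node (.leaf 378) (.leaf 7582427)) (.leaf 54869))))) (.node (.node (.node (.node (.node (.leaf 150) (.leaf 39726183)) (.node (.leaf 155548959) (.leaf 84168079))) (.node (.node (.leaf 273) (.leaf 191117715)) (.leaf 39622345))) (.node (.node (.node (.leaf 35676712) (.leaf 189319286))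 (.leaf 156003205)) (.node (.node (.leaf 14795336) (.leaf 101)) (.leaf 79181490)))) (.node (.node (.node (.node (.leaf 195) (.leaf 228460175)) (.node (.leaf 149257816) (.leaf 2319764))) (.node (.node (.leaf 29506259) (.leaf 225583492)) (.leaf 161484619))) (.node (.node (.node (.leaf 290807603) (.leaf 64)) (.leaf 163439308)) (.node (.node (.leaf 327843527) (.leaf 236023148)) (.leaf 286581950))))))

/-- The table `stepT4`. -/
def stepT4 : Tr := (.node (.node (.node stepT4_1 stepT4_2) (.node stepT4_3 stepT4_4)) (.node (.node stepT4_5 stepT4_6) (.node stepT4_7 stepT4_8)))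

/-- Part of the table `stepT5`. -/
def stepT5_1 : Tr := (.node (.node (.node (.node (.node (.node (.leaf 4) (.leaf 124174062)) (.node (.leaf 39242567) (.leaf 285472577))) (.node (.node (.leaf 320) (.leaf 64)) (.leaf 93729398))) (.node (.node (.node (.leaf 24421470) (.leaf 174213021)) (.leaf 200946829)) (.node (.node (.leaf 327461194) (.leaf 300797229)) (.leaf 293718823)))) (.node (.node (.node (.node (.leaf 154) (.leaf 53719106)) (.node (.leaf 37264580) (.leaf 20510099))) (.node (.node (.leaf 343) (.leaf 35933842)) (.leaf 85566747))) (.node (.node (.node (.leaf 49603642) (.leaf 15511948)) (.leaf 25983357)) (.node (.node (.leaf 39108632) (.leaf 103)) (.leaf 147888985))))) (.node (.node (.node (.node (.node (.leaf 52) (.leaf 41)) (.node (.leaf 18124581) (.leaf 53596037))) (.node (.node (.leaf 149257954) (.leaf 323038296)) (.leaf 308088068))) (.node (.node (.node (.leaf 257) (.leaf 293152488)) (.leaf 39622302)) (.node (.node (.leaf 39497758) (.leaf 36912345)) (.leaf 291526952)))) (.node (.node (.node (.node (.leaf 39108720) (.leaf 7637359)) (.node (.leaf 291718794) (.leaf 42390427))) (.node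 (.node (.leaf 323487048) (.leaf 184592726)) (.leaf 24421725))) (.node (.node (.node (.leaf 35676820) (.leaf 47557994)) (.leaf 117225657)) (.node (.node (.leaf 66699539) (.leaf 329160604)) (.leaf 13272687))))))

/-- Part of the table `stepT5`. -/
def stepT5_2 : Tr := (.node (.node (.node (.node (.node (.node (.leaf 0) (.leaf 293718728)) (.node (.leaf 274242271) (.leaf 224996717))) (.node (.node (.leaf 6) (.leaf 87957741)) (.leaf 35768464))) (.node (.node (.node (.leaf 49603621) (.leaf 105576540)) (.leaf 22)) (.node (.node (.leaf 39211619) (.leaf 151325929)) (.leaf 267523221)))) (.node (.node (.node (.node (.leaf 16700938) (.leaf 282554715)) (.node (.leaf 35676728) (.leaf 284592476))) (.node (.node (.leaf 40691902) (.leaf 70792551)) (.leaf 141978892))) (.node (.node (.node (.leaf 8) (.leaf 250351914)) (.leaf 300499790)) (.node (.node (.leaf 4453634) (.leaf 174124206)) (.leaf 94292155))))) (.node (.node (.node (.node (.node (.leaf 14795390) (.leaf 215158996)) (.node (.leaf 231846211) (.leaf 108088112))) (.node (.node (.leaf 6870566) (.leaf 322280316)) (.leaf 36386429))) (.node (.node (.node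 (.leaf 20509757) (.leaf 85)) (.leaf 249795155)) (.node (.node (.leaf 246130965) (.leaf 237744994)) (.leaf 7668459)))) (.node (.node (.node (.node (.leaf 2) (.leaf 145082153)) (.node (.leaf 108087862) (.leaf 322571640))) (.node (.node (.leaf 36778788) (.leaf 120073620)) (.leaf 46339375))) (.node (.node (.node (.leaf 39622187) (.leaf 60094601)) (.leaf 163032878)) (.node (.node (.leaf 267790527) (.leaf 330059084)) (.leaf 81296158))))))

/-- Part of the table `stepT5`. -/
def stepT5_3 : Tr := (.node (.node (.node (.node (.node (.node (.leaf 28) (.leaf 114385012)) (.node (.leaf 243434777) (.leaf 203725155))) (.node (.node (.leaf 8014608) (.leaf 39598834)) (.leaf 26))) (.node (.node (.node (.leaf 227) (.leaf 48935569)) (.leaf 892977)) (.node (.node (.leaf 45596513) (.leaf 276474220)) (.leaf 149257800)))) (.node (.node (.node (.node (.leaf 1) (.leaf 122795751)) (.node (.leaf 46545232) (.leaf 39622542))) (.node (.node (.leaf 30768953) (.leaf 139199590)) (.leaf 234339903))) (.node (.node (.node (.leaf 37442191) (.leaf 65733302)) (.leaf 60687943)) (.node (.node (.leaf 11) (.leaf 109384589)) (.leaf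 19016514))))) (.node (.node (.node (.node (.node (.leaf 20641300) (.leaf 3530137)) (.node (.leaf 301529240) (.leaf 100175754))) (.node (.node (.leaf 38850123) (.leaf 329132128)) (.leaf 149257909))) (.node (.node (.node (.leaf 36912197) (.leaf 206253876)) (.leaf 37598343)) (.node (.node (.leaf 6755945) (.leaf 9611064)) (.leaf 14795299)))) (.node (.node (.node (.node (.leaf 194) (.leaf 191420782)) (.node (.leaf 16) (.leaf 300220254))) (.node (.node (.leaf 39211609) (.leaf 30769055)) (.leaf 125905713))) (.node (.node (.node (.leaf 39211568) (.leaf 39750903)) (.leaf 20641359)) (.node (.node (.leaf 65716470) (.leaf 318413137)) (.leaf 5280406))))))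

/-- Part of the table `stepT5`. -/
def stepT5_4 : Tr := (.node (.node (.node (.node (.node (.node (.leaf 68) (.leaf 249143117)) (.node (.leaf 284948547) (.leaf 59204486))) (.node (.node (.leaf 65733419) (.leaf 39108705)) (.leaf 15612113))) (.node (.node (.node (.leaf 37019724) (.leaf 242313267)) (.leaf 84503215)) (.node (.node (.leaf 162873170) (.leaf 93)) (.leaf 258669341)))) (.node (.node (.node (.node (.leaf 164) (.leaf 310694645)) (.node (.leaf 48671994) (.leaf 91834197))) (.node (.node (.leaf 19628807) (.leaf 260110680)) (.leaf 39211733))) (.node (.node (.node (.leaf 15511708) (.leaf 183368502)) (.leaf 65733426)) (.node (.node (.leaf 89858240) (.leaf 111150966)) (.leaf 13980794))))) (.node (.node (.node (.node (.node (.leaf 39211533) (.leaf 233169535)) (.node (.leaf 59204238) (.leaf 20510098))) (.node (.node (.leaf 195495711) (.leaf 300807348)) (.leaf 315776206))) (.node (.node (.node (.leaf 39716059) (.leaf 148978876)) (.leaf 148832116)) (.node (.node (.leaf 111150702) (.leaf 134485274)) (.leaf 146692352)))) (.node (.node (.node (.node (.leaf 115352680) (.leaf 78698236)) (.node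 (.leaf 20509864) (.leaf 259))) (.node (.node (.leaf 36912160) (.leaf 300220314)) (.leaf 39211741))) (.node (.node (.node (.leaf 39622189) (.leaf 148812619)) (.leaf 4575316)) (.node (.node (.leaf 14795276) (.leaf 46637719)) (.leaf 245198943))))))

/-- Part of the table `stepT5`. -/
def stepT5_5 : Tr := (.node (.node (.node (.node (.node (.node (.leaf 18) (.leaf 40)) (.node (.leaf 46339277) (.leaf 121))) (.node (.node (.leaf 85235257) (.leaf 174148480)) (.leaf 93729509))) (.node (.node (.node (.leaf 108513463) (.leaf 307694857)) (.leaf 317771425)) (.node (.node (.leaf 39108934) (.leaf 58348642)) (.leaf 65171351)))) (.node (.node (.node (.node (.leaf 20509715) (.leaf 11123955)) (.node (.leaf 39035170) (.leaf 39108805))) (.node (.node (.leaf 270901339) (.leaf 304148346)) (.leaf 7948486))) (.node (.node (.node (.leaf 893090) (.leaf 229886170)) (.leaf 50231159)) (.node (.node (.leaf 37403259) (.leaf 153616695)) (.leaf 204362955))))) (.node (.node (.node (.node (.node (.leaf 53) (.leaf 292872993)) (.node (.leaf 59246908) (.leaf 153))) (.node (.node (.leaf 223567173) (.leaf 41954633)) (.leaf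 31))) (.node (.node (.node (.leaf 264) (.leaf 197924636)) (.leaf 79338123)) (.node (.node (.leaf 117225578) (.leaf 172915039)) (.leaf 256984932)))) (.node (.node (.node (.node (.leaf 49534597) (.leaf 163439234)) (.node (.leaf 393) (.leaf 106395914))) (.node (.node (.leaf 49603674) (.leaf 152380144)) (.leaf 24421736))) (.node (.node (.node (.leaf 85478977) (.leaf 33005650)) (.leaf 6756024)) (.node (.node (.leaf 385) (.leaf 299358579)) (.leaf 14084995))))))

/-- Part of the table `stepT5`. -/
def stepT5_6 : Tr := (.node (.node (.node (.node (.node (.node (.leaf 39622147) (.leaf 275368579)) (.node (.leaf 46705689) (.leaf 9030536))) (.node (.node (.leaf 24421418) (.leaf 188888137)) (.leaf 39109009))) (.node (.node (.node (.leaf 39211556) (.leaf 35092616)) (.leaf 39108797)) (.node (.node (.leaf 15302971) (.leaf 193039139)) (.leaf 89858241)))) (.node (.node (.node (.node (.leaf 163) (.leaf 161621100)) (.node (.leaf 242544356) (.leaf 103887743))) (.node (.node (.leaf 300) (.leaf 83899286)) (.leaf 49603798))) (.node (.node (.node (.leaf 9) (.leaf 232342727)) (.leaf 149257930)) (.node (.node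 (.leaf 39108663) (.leaf 111150965)) (.leaf 289167638))))) (.node (.node (.node (.node (.node (.leaf 49603598) (.leaf 103629055)) (.node (.leaf 243132576) (.leaf 15768434))) (.node (.node (.leaf 276918079) (.leaf 136505094)) (.leaf 39181441))) (.node (.node (.node (.leaf 20509758) (.leaf 300797280)) (.leaf 314280051)) (.node (.node (.leaf 316416109) (.leaf 234208644)) (.leaf 75955012)))) (.node (.node (.node (.node (.leaf 39622171) (.leaf 172885222)) (.node (.leaf 20509863) (.leaf 255260448))) (.node (.node (.leaf 358) (.leaf 36912344)) (.leaf 49603806))) (.node (.node (.node (.leaf 39622188) (.leaf 310897459)) (.leaf 39108773)) (.node (.node (.leaf 36386508) (.leaf 102657200)) (.leaf 95663663))))))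

/-- Part of the table `stepT5`. -/
def stepT5_7 : Tr := (.node (.node (.node (.node (.node (.node (.leaf 20509701) (.leaf 414)) (.node (.leaf 157469445) (.leaf 14084857))) (.node (.node (.leaf 189415046) (.leaf 239235724)) (.leaf 20509903))) (.node (.node (.node (.leaf 14795498) (.leaf 229673829)) (.leaf 21)) (.node (.node (.leaf 49603684) (.leaf 245842818)) (.leaf 34)))) (.node (.node (.node (.node (.leaf 39622161) (.leaf 43170936)) (.node (.leaf 282080023) (.leaf 39622544))) (.node (.node (.leaf 207743148) (.leaf 37264655)) (.leaf 8040999))) (.node (.node (.node (.leaf 145615654) (.leaf 306767165)) (.leaf 167219535)) (.node (.node (.leaf 311902381) (.leaf 298112377)) (.leaf 23360273))))) (.node (.node (.node (.node (.node (.leaf 114) (.leaf 528623)) (.node (.leaf 74033833) (.leaf 173058955))) (.node (.node (.leaf 37232202) (.leaf 195199806)) (.leaf 178284785))) (.node (.node (.node (.leaf 20509756) (.leaf 65733190)) (.leaf 16701035)) (.node (.node (.leaf 20641451) (.leaf 278246103)) (.leaf 7668460)))) (.node (.node (.node (.node (.leaf 20509725) (.leaf 85566672)) (.node (.leaf 100175515)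 (.leaf 115937688))) (.node (.node (.leaf 284987985) (.leaf 181259028)) (.leaf 50030638))) (.node (.node (.node (.leaf 183368251) (.leaf 2835557)) (.leaf 90185460)) (.node (.node (.leaf 46734961) (.leaf 19547767)) (.leaf 65204895))))))

/-- Part of the table `stepT5`. -/
def stepT5_8 : Tr := (.node (.node (.node (.node (.node (.node (.leaf 16700951) (.leaf 105729110)) (.node (.leaf 29935786) (.leaf 59204487))) (.node (.node (.leaf 15417522) (.leaf 46964352)) (.leaf 131282229))) (.node (.node (.node (.leaf 42171603) (.leaf 308088032)) (.leaf 39622301)) (.node (.node (.leaf 368) (.leaf 70792532)) (.leaf 262832402)))) (.node (.node (.node (.node (.leaf 20641287) (.leaf 230486675)) (.node (.leaf 46637950) (.leaf 28359393))) (.node (.node (.leaf 148904975) (.leaf 80)) (.leaf 245185899))) (.node (.node (.node (.leaf 39108725) (.leaf 148284785)) (.leaf 49829921)) (.node (.node (.leaf 19548027) (.leaf 50230961)) (.leaf 27732794))))) (.node (.node (.node (.node (.node (.leaf 122752087) (.leaf 35768659)) (.node (.leaf 46642738) (.leaf 317771663))) (.node (.node (.leaf 16701114) (.leaf 278115507))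 (.leaf 39622339))) (.node (.node (.node (.leaf 79609085) (.leaf 39181532)) (.leaf 84503206)) (.node (.node (.leaf 15245048) (.leaf 105538840)) (.leaf 808715)))) (.node (.node (.node (.node (.leaf 201) (.leaf 228497998)) (.node (.leaf 17909499) (.leaf 33005914))) (.node (.node (.leaf 191549182) (.leaf 161773417)) (.leaf 218118788))) (.node (.node (.node (.leaf 187737810) (.leaf 261172813)) (.leaf 150278268)) (.node (.node (.leaf 273725710) (.leaf 103085461)) (.leaf 18713357))))))

/-- The table `stepT5`. -/
def stepT5 : Tr := (.node (.node (.node stepT5_1 stepT5_2) (.node stepT5_3 stepT5_4)) (.node (.node stepT5_5 stepT5_6) (.node stepT5_7 stepT5_8)))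

end Cfsg.Agent.GTwoJTwo
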