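import Cfsg.Agent.Lib.J2.Packed

/-!
# Coset multiplication table
-/

set_option autoImplicit false
set_option maxRecDepth 10000

namespace Cfsg.Agent.GTwoJTwo

open Cfsg.Agent.JTwo (Tr)

/-- Part of the table `stepT6`. -/
def stepT6_1 : Tr := (.node (.node (.node (.node (.node (.node (.leaf 24987139) (.leaf 27088015)) (.node (.leaf 27343624) (.leaf 323007886))) (.node (.node (.leaf 301060356) (.leaf 230036605)) (.leaf 54167857))) (.node (.node (.node (.leaf 319946896) (.leaf 70672665)) (.leaf 328050983)) (.node (.node (.leaf 191210199) (.leaf 238457034)) (.leaf 202841128)))) (.node (.node (.node (.node (.leaf 132712003) (.leaf 3725662)) (.node (.leaf 323392032) (.leaf 66691252))) (.node (.node (.leaf 24049835) (.leaf 103901330)) (.leaf 325698421))) (.node (.node (.node (.leaf 148685326) (.leaf 188814444)) (.leaf 86512775)) (.node (.node (.leaf 19547767) (.leaf 35452051)) (.leaf 251556686))))) (.node (.node (.node (.node (.node (.leaf 20083270) (.leaf 46155392)) (.node (.leaf 326588261) (.leaf 152762245))) (.node (.node (.leaf 320581846) (.leaf 241448295)) (.leaf 298304865))) (.node (.node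 (.node (.leaf 182680288) (.leaf 200478932)) (.leaf 7992854)) (.node (.node (.leaf 107892408) (.leaf 18141359)) (.leaf 256342866)))) (.node (.node (.node (.node (.leaf 24049837) (.leaf 39495017)) (.node (.leaf 46844550) (.leaf 100390807))) (.node (.node (.leaf 69860085) (.leaf 252108024)) (.leaf 85309614))) (.node (.node (.node (.leaf 51589146) (.leaf 187053634)) (.leaf 15593064)) (.node (.node (.leaf 319165617) (.leaf 4045570)) (.leaf 264912728))))))

/-- Part of the table `stepT6`. -/
def stepT6_2 : Tr := (.node (.node (.node (.node (.node (.node (.leaf 50147859) (.leaf 289338432)) (.node (.leaf 129576159) (.leaf 190499181))) (.node (.node (.leaf 7992861) (.leaf 60375788)) (.leaf 17834037))) (.node (.node (.node (.leaf 32685798) (.leaf 229712641)) (.leaf 65850635)) (.node (.node (.leaf 181975683) (.leaf 34219277)) (.leaf 261355228)))) (.node (.node (.node (.node (.leaf 24987292) (.leaf 110673756)) (.node (.leaf 244335222) (.leaf 55716699))) (.node (.node (.leaf 20083532) (.leaf 176355630)) (.leaf 275956520))) (.node (.node (.node (.leaf 85309492) (.leaf 97353590)) (.leaf 66691472)) (.node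 (.node (.leaf 86310675) (.leaf 115585908)) (.leaf 289520469))))) (.node (.node (.node (.node (.node (.leaf 127) (.leaf 32414566)) (.node (.leaf 33807446) (.leaf 149265))) (.node (.node (.leaf 65850638) (.leaf 7088212)) (.leaf 111873122))) (.node (.node (.node (.leaf 149699779) (.leaf 303399230)) (.leaf 240979628)) (.node (.node (.leaf 146311984) (.leaf 296598717)) (.leaf 34751812)))) (.node (.node (.node (.node (.leaf 66360901) (.leaf 30084301)) (.node (.leaf 8167956) (.leaf 270934391))) (.node (.node (.leaf 89611405) (.leaf 118323476)) (.leaf 224064740))) (.node (.node (.node (.leaf 117088778) (.leaf 112926550)) (.leaf 86091542)) (.node (.node (.leaf 242296114) (.leaf 19548028)) (.leaf 273540873))))))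

/-- Part of the table `stepT6`. -/
def stepT6_3 : Tr := (.node (.node (.node (.node (.node (.node (.leaf 24987163) (.leaf 48862584)) (.node (.leaf 229527918) (.leaf 49860321))) (.node (.node (.leaf 187053880) (.leaf 270398314)) (.leaf 74220250))) (.node (.node (.node (.leaf 110111445) (.leaf 224322327)) (.leaf 242966041)) (.node (.node (.leaf 15148236) (.leaf 300324961)) (.leaf 144128337)))) (.node (.node (.node (.node (.leaf 50147845) (.leaf 29941525)) (.node (.leaf 48726864) (.leaf 197511423))) (.node (.node (.leaf 132712249) (.leaf 163604200)) (.leaf 36788041))) (.node (.node (.node (.leaf 304778533) (.leaf 221294204)) (.leaf 7083166)) (.node (.node (.leaf 379) (.leaf 187973829)) (.leaf 10956698))))) (.node (.node (.node (.node (.node (.leaf 7478844) (.leaf 5732573)) (.node (.leaf 48750153) (.leaf 48594715))) (.node (.node (.leaf 28718742) (.leaf 7993043)) (.leaf 138294112))) (.node (.node (.node (.leaf 39303686) (.leaf 162014086)) (.leaf 58252991)) (.node (.node (.leaf 20300318) (.leaf 148243266)) (.leaf 32414601)))) (.node (.node (.node (.node (.leaf 54167608) (.leaf 46)) (.node (.leaf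 96552261) (.leaf 47579378))) (.node (.node (.leaf 265426661) (.leaf 132712351)) (.leaf 100952258))) (.node (.node (.node (.leaf 57574533) (.leaf 85418743)) (.leaf 115585722)) (.node (.node (.leaf 323007645) (.leaf 86117091)) (.leaf 48944943))))))

/-- Part of the table `stepT6`. -/
def stepT6_4 : Tr := (.node (.node (.node (.node (.node (.node (.leaf 65850410) (.leaf 231785283)) (.node (.leaf 22738072) (.leaf 212652842))) (.node (.node (.leaf 7088136) (.leaf 255372657)) (.leaf 43101027))) (.node (.node (.node (.leaf 24987335) (.leaf 319129198)) (.leaf 152952025)) (.node (.node (.leaf 182680157) (.leaf 36241676)) (.leaf 110111268)))) (.node (.node (.node (.node (.leaf 36787880) (.leaf 69699772)) (.node (.leaf 33870922) (.leaf 190421910))) (.node (.node (.leaf 5536396) (.leaf 23830844)) (.leaf 325831240))) (.node (.node (.node (.leaf 892951) (.leaf 18189375)) (.leaf 60395901)) (.node (.node (.leaf 228626068) (.leaf 94243124)) (.leaf 71528143))))) (.node (.node (.node (.node (.node (.leaf 273611312) (.leaf 39303756)) (.node (.leaf 7478849) (.leaf 320667008))) (.node (.node (.leaf 119464577)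 (.leaf 128998640)) (.leaf 275220285))) (.node (.node (.node (.leaf 282) (.leaf 233206612)) (.leaf 85309656)) (.node (.node (.leaf 315090726) (.leaf 230954114)) (.leaf 143961891)))) (.node (.node (.node (.node (.leaf 64573034) (.leaf 165146009)) (.node (.leaf 39494834) (.leaf 78275985))) (.node (.node (.leaf 7083053) (.leaf 49758992)) (.leaf 178854177))) (.node (.node (.node (.leaf 7992841) (.leaf 299062572)) (.leaf 67866302)) (.node (.node (.leaf 18458421) (.leaf 287691147)) (.leaf 11809131))))))

/-- Part of the table `stepT6`. -/
def stepT6_5 : Tr := (.node (.node (.node (.node (.node (.node (.leaf 24987153) (.leaf 158732580)) (.node (.leaf 144181838) (.leaf 19548033))) (.node (.node (.leaf 117088910) (.leaf 59870441)) (.leaf 54167755))) (.node (.node (.node (.leaf 64014521) (.leaf 176857310)) (.leaf 148074041)) (.node (.node (.leaf 296535394) (.leaf 298899656)) (.leaf 46988674)))) (.node (.node (.node (.node (.leaf 8167937) (.leaf 149388)) (.node (.leaf 5115919) (.leaf 83947422))) (.node (.node (.leaf 234159753) (.leaf 281447650)) (.leaf 39319451))) (.node (.node (.node (.leaf 312150541)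 (.leaf 51589312)) (.leaf 300529784)) (.node (.node (.leaf 82938653) (.leaf 239169350)) (.leaf 323875667))))) (.node (.node (.node (.node (.node (.leaf 36787774) (.leaf 174874364)) (.node (.leaf 194369105) (.leaf 36241642))) (.node (.node (.leaf 27440778) (.leaf 7993042)) (.leaf 85309641))) (.node (.node (.node (.leaf 171246691) (.leaf 62314749)) (.leaf 299622971)) (.node (.node (.leaf 15593143) (.leaf 7083288)) (.leaf 2416449)))) (.node (.node (.node (.node (.leaf 205316770) (.leaf 80368416)) (.node (.leaf 119464683) (.leaf 160088350))) (.node (.node (.leaf 34209551) (.leaf 303880015)) (.leaf 250618534))) (.node (.node (.node (.leaf 270002849) (.leaf 230286418)) (.leaf 117173793)) (.node (.node (.leaf 19548025) (.leaf 19547769)) (.leaf 37))))))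

/-- Part of the table `stepT6`. -/
def stepT6_6 : Tr := (.node (.node (.node (.node (.node (.node (.leaf 15298066) (.leaf 215103303)) (.node (.leaf 59603002) (.leaf 145026440))) (.node (.node (.leaf 24193052) (.leaf 82054810)) (.leaf 223546226))) (.node (.node (.node (.leaf 249) (.leaf 304778290)) (.leaf 297381687)) (.node (.node (.leaf 36788027) (.leaf 323334280)) (.leaf 211021914)))) (.node (.node (.node (.node (.leaf 85309471) (.leaf 4941586)) (.node (.leaf 153587787) (.leaf 103887541))) (.node (.node (.leaf 306872651) (.leaf 309745908)) (.leaf 32685602))) (.node (.node (.node (.leaf 15379652) (.leaf 36903038)) (.leaf 103085461)) (.node (.node (.leaf 383) (.leaf 323392720)) (.leaf 84793432))))) (.node (.node (.node (.node (.node (.leaf 314393137) (.leaf 44645220)) (.node (.leaf 94110812) (.leaf 109571231))) (.node (.node (.leaf 64743245) (.leaf 15469645)) (.leaf 104685340))) (.node (.node (.node (.leaf 39494750) (.leaf 40710199)) (.leaf 18896408)) (.node (.node (.leaf 8744587) (.leaf 139119492)) (.leaf 35)))) (.node (.node (.node (.node (.leaf 36787780) (.leaf 85883505)) (.node (.leaf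 320666746) (.leaf 219))) (.node (.node (.leaf 202841190) (.leaf 632669)) (.leaf 25913610))) (.node (.node (.node (.leaf 632487) (.leaf 204143822)) (.leaf 294652268)) (.node (.node (.leaf 145041216) (.leaf 66692278)) (.leaf 63558441))))))

/-- Part of the table `stepT6`. -/
def stepT6_7 : Tr := (.node (.node (.node (.node (.node (.node (.leaf 8167936) (.leaf 179583227)) (.node (.leaf 228907108) (.leaf 123))) (.node (.node (.leaf 230286352) (.leaf 127657734)) (.leaf 149699628))) (.node (.node (.node (.leaf 237) (.leaf 187789038)) (.leaf 85309603)) (.node (.node (.leaf 119206441) (.leaf 59569862)) (.leaf 86117242)))) (.node (.node (.node (.node (.leaf 15298052) (.leaf 101390964)) (.node (.leaf 47428976) (.leaf 7993011))) (.node (.node (.leaf 263400527) (.leaf 324404465)) (.leaf 36788042))) (.node (.node (.node (.leaf 110673563) (.leaf 138464143)) (.leaf 36788115)) (.node (.node (.leaf 11) (.leaf 115585907)) (.leaf 32685799))))) (.node (.node (.node (.node (.node (.leaf 115) (.leaf 39303844)) (.node (.leaf 30627949) (.leaf 287386494))) (.node (.node (.leaf 229374101) (.leaf 304823893)) (.leaf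 51589313))) (.node (.node (.node (.leaf 8167943) (.leaf 85309739)) (.leaf 18896464)) (.node (.node (.leaf 115585643) (.leaf 24526590)) (.leaf 144181913)))) (.node (.node (.node (.node (.leaf 8167938) (.leaf 32083850)) (.node (.leaf 118323251) (.leaf 15785169))) (.node (.node (.leaf 42735727) (.leaf 2840980)) (.leaf 413))) (.node (.node (.node (.leaf 298969769) (.leaf 7992933)) (.leaf 289972411)) (.node (.node (.leaf 387) (.leaf 114)) (.leaf 169437443))))))

/-- Part of the table `stepT6`. -/
def stepT6_8 : Tr := (.node (.node (.node (.node (.node (.node (.leaf 24987179) (.leaf 289338687)) (.node (.leaf 101053616) (.leaf 297957015))) (.node (.node (.leaf 149288687) (.leaf 267957509)) (.leaf 8167974))) (.node (.node (.node (.leaf 229368415) (.leaf 323570848)) (.leaf 632381)) (.node (.node (.leaf 63525463) (.leaf 166914888)) (.leaf 110111475)))) (.node (.node (.node (.node (.leaf 892982) (.leaf 142540066)) (.node (.leaf 293791623) (.leaf 91048856))) (.node (.node (.leaf 24714855) (.leaf 303858519)) (.leaf 228834912))) (.node (.node (.node (.leaf 105985325) (.leaf 288270501)) (.leaf 107892329))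 (.node (.node (.leaf 19547760) (.leaf 267411868)) (.leaf 71681850))))) (.node (.node (.node (.node (.node (.leaf 114848401) (.leaf 48709209)) (.node (.leaf 112854272) (.leaf 232351027))) (.node (.node (.leaf 275588179) (.leaf 305813849)) (.leaf 93461750))) (.node (.node (.node (.leaf 287) (.leaf 18577146)) (.leaf 59859304)) (.node (.node (.leaf 115927131) (.leaf 259174751)) (.leaf 243768903)))) (.node (.node (.node (.node (.leaf 85309461) (.leaf 47)) (.node (.leaf 113856397) (.leaf 230286682))) (.node (.node (.leaf 278795303) (.leaf 251693423)) (.leaf 177392260))) (.node (.node (.node (.leaf 113391414) (.leaf 301060359)) (.leaf 54224554)) (.node (.node (.leaf 12) (.leaf 117)) (.leaf 129957266))))))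

/-- The table `stepT6`. -/
def stepT6 : Tr := (.node (.node (.node stepT6_1 stepT6_2) (.node stepT6_3 stepT6_4)) (.node (.node stepT6_5 stepT6_6) (.node stepT6_7 stepT6_8)))

/-- Part of the table `stepT7`. -/
def stepT7_1 : Tr := (.node (.node (.node (.node (.node (.node (.leaf 5) (.leaf 242718459)) (.node (.leaf 20897469) (.leaf 242380132))) (.node (.node (.leaf 560293) (.leaf 65725662)) (.leaf 10279803))) (.node (.node (.node (.leaf 36912181) (.leaf 20897564)) (.leaf 20897439)) (.node (.node (.leaf 90465022) (.leaf 86)) (.leaf 68310904)))) (.node (.node (.node (.node (.leaf 155) (.leaf 288531250)) (.node (.leaf 204887236) (.leaf 17905043))) (.node (.node (.leaf 191408723) (.leaf 18018009)) (.leaf 15611939))) (.node (.node (.node (.leaf 26013805) (.leaf 159638247)) (.leaf 37233002)) (.node (.node (.leaf 7253783) (.leaf 64042840)) (.leaf 202104665))))) (.node (.node (.node (.node (.node (.leaf 149023) (.leaf 145937772)) (.node (.leaf 27832517) (.leaf 48364392))) (.node (.node (.leaf 49449163) (.leaf 232850022)) (.leaf 409))) (.node (.node (.node (.leaf 258) (.leaf 262955286)) (.leaf 17904798))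 (.node (.node (.leaf 6365881) (.leaf 49852808)) (.leaf 211267485)))) (.node (.node (.node (.node (.leaf 7620664) (.leaf 17904955)) (.node (.leaf 28429190) (.leaf 38898374))) (.node (.node (.leaf 139927293) (.leaf 47272816)) (.leaf 149076))) (.node (.node (.node (.leaf 39591448) (.leaf 103999238)) (.leaf 50237473)) (.node (.node (.leaf 164768860) (.leaf 97647840)) (.leaf 11402899))))))

/-- Part of the table `stepT7`. -/
def stepT7_2 : Tr := (.node (.node (.node (.node (.node (.node (.leaf 20509713) (.leaf 313010487)) (.node (.leaf 7948606) (.leaf 286475615))) (.node (.node (.leaf 300796955) (.leaf 325300103)) (.leaf 188798096))) (.node (.node (.node (.leaf 241) (.leaf 215866270)) (.leaf 49879111)) (.node (.node (.leaf 35993414) (.leaf 165742464)) (.leaf 34)))) (.node (.node (.node (.node (.leaf 117002806) (.leaf 93019449)) (.node (.leaf 245493871) (.leaf 238581151))) (.node (.node (.leaf 149208) (.leaf 78)) (.leaf 195443900))) (.node (.node (.node (.leaf 300796980) (.leaf 48140613)) (.leaf 2933427)) (.node (.node (.leaf 67036965) (.leaf 107834228)) (.leaf 153697913))))) (.node (.node (.node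 (.node (.node (.leaf 7948351) (.leaf 254637698)) (.node (.leaf 73510602) (.leaf 275665173))) (.node (.node (.leaf 120185149) (.leaf 65204398)) (.leaf 62320994))) (.node (.node (.node (.leaf 149149) (.leaf 32995039)) (.leaf 76457132)) (.node (.node (.leaf 130561267) (.leaf 170258696)) (.leaf 65550999)))) (.node (.node (.node (.node (.leaf 49879082) (.leaf 24223008)) (.node (.leaf 315776023) (.leaf 175209763))) (.node (.node (.leaf 221536888) (.leaf 82)) (.leaf 32119509))) (.node (.node (.node (.leaf 7) (.leaf 92385498)) (.leaf 263994068)) (.node (.node (.leaf 164769118) (.leaf 25344380)) (.leaf 48983651))))))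

/-- Part of the table `stepT7`. -/
def stepT7_3 : Tr := (.node (.node (.node (.node (.node (.node (.leaf 29) (.leaf 40)) (.node (.leaf 243460364) (.leaf 254218651))) (.node (.node (.leaf 323) (.leaf 309821063)) (.leaf 215678806))) (.node (.node (.node (.leaf 228) (.leaf 308482167)) (.leaf 39622203)) (.node (.node (.leaf 941665) (.leaf 49542860)) (.leaf 328363158)))) (.node (.node (.node (.node (.leaf 20509699) (.leaf 47576337)) (.node (.leaf 123749542) (.leaf 329698025))) (.node (.node (.leaf 348) (.leaf 190224091)) (.leaf 38))) (.node (.node (.node (.leaf 310415123) (.leaf 306683664)) (.leaf 22)) (.node (.node (.leaf 18153777) (.leaf 61914469)) (.leaf 39662911))))) (.node (.node (.node (.node (.node (.leaf 315776043) (.leaf 299256069)) (.node (.leaf 92825710) (.leaf 153))) (.node (.node (.leaf 337) (.leaf 264617055)) (.leaf 95890060))) (.node (.node (.node (.leaf 18066460) (.leaf 68546182)) (.leaf 560183)) (.node (.node (.leaf 42721975) (.leaf 64700592)) (.leaf 78880638)))) (.node (.node (.node (.node (.leaf 59141805) (.leaf 24223007)) (.node (.leaf 283567990) (.leaf 44629255))) (.node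 (.node (.leaf 293526139) (.leaf 143884635)) (.leaf 71698748))) (.node (.node (.node (.leaf 324092577) (.leaf 264334667)) (.leaf 107834042)) (.node (.node (.leaf 7723203) (.leaf 282734863)) (.leaf 37))))))

/-- Part of the table `stepT7`. -/
def stepT7_4 : Tr := (.node (.node (.node (.node (.node (.node (.leaf 69) (.leaf 38685496)) (.node (.leaf 79171882) (.leaf 4672664))) (.node (.node (.leaf 65204245) (.leaf 10706532)) (.leaf 38898584))) (.node (.node (.node (.leaf 210) (.leaf 218536009)) (.leaf 230468242)) (.node (.node (.leaf 280054600) (.leaf 296302958)) (.leaf 225187667)))) (.node (.node (.node (.node (.leaf 178) (.leaf 144590632)) (.node (.leaf 323435746) (.leaf 99152278))) (.node (.node (.leaf 352) (.leaf 223353026)) (.leaf 84001985))) (.node (.node (.node (.leaf 117002772) (.leaf 65965695)) (.leaf 941749)) (.node (.node (.leaf 291119195) (.leaf 177513626)) (.leaf 135567421))))) (.node (.node (.node (.node (.node (.leaf 139) (.leaf 18066638)) (.node (.leaf 217461297) (.leaf 2024717))) (.node (.node (.leaf 340) (.leaf 105506127)) (.leaf 49879310))) (.node (.node (.node (.leaf 24222767)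 (.leaf 74033793)) (.leaf 6985548)) (.node (.node (.leaf 92825738) (.leaf 300727142)) (.leaf 7112567)))) (.node (.node (.node (.node (.leaf 192167017) (.leaf 48428385)) (.node (.leaf 17904808) (.leaf 158546212))) (.node (.node (.leaf 9) (.leaf 221536892)) (.leaf 115798848))) (.node (.node (.node (.leaf 17904685) (.leaf 15612036)) (.leaf 66353854)) (.node (.node (.leaf 173445427) (.leaf 101516010)) (.leaf 75540576))))))

/-- Part of the table `stepT7`. -/
def stepT7_5 : Tr := (.node (.node (.node (.node (.node (.node (.leaf 19) (.leaf 304323473)) (.node (.leaf 79338286) (.leaf 25344385))) (.node (.node (.leaf 209074701) (.leaf 297290495)) (.leaf 71781590))) (.node (.node (.node (.leaf 65790648) (.leaf 94808701)) (.leaf 326268986)) (.node (.node (.leaf 665186) (.leaf 13207838)) (.leaf 44116689)))) (.node (.node (.node (.node (.leaf 39622148) (.leaf 29246738)) (.node (.leaf 139294801) (.leaf 296492801))) (.node (.node (.leaf 252447889) (.leaf 74)) (.leaf 44116705))) (.node (.node (.node (.leaf 198725262) (.leaf 24970866)) (.leaf 164863117)) (.node (.node (.leaf 328363157) (.leaf 233521795))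 (.leaf 36))))) (.node (.node (.node (.node (.node (.leaf 94) (.leaf 41)) (.node (.leaf 44088335) (.leaf 151810955))) (.node (.node (.leaf 148548390) (.leaf 300797127)) (.leaf 300797129))) (.node (.node (.node (.leaf 265) (.leaf 310988021)) (.leaf 15611929)) (.node (.node (.leaf 149687838) (.leaf 101)) (.leaf 320360850)))) (.node (.node (.node (.node (.leaf 7948457) (.leaf 166132941)) (.node (.leaf 394) (.leaf 200))) (.node (.node (.leaf 27832547) (.leaf 192588528)) (.leaf 50152784))) (.node (.node (.node (.leaf 39497861) (.leaf 96066324)) (.leaf 42721896)) (.node (.node (.leaf 149616884) (.leaf 158811989)) (.leaf 48944943))))))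

/-- Part of the table `stepT7`. -/
def stepT7_6 : Tr := (.node (.node (.node (.node (.node (.node (.leaf 0) (.leaf 299256074)) (.node (.leaf 115352633) (.leaf 242153135))) (.node (.node (.leaf 6) (.leaf 105326388)) (.leaf 25034888))) (.node (.node (.node (.leaf 250) (.leaf 112593524)) (.leaf 100416)) (.node (.node (.leaf 361) (.leaf 5300082)) (.leaf 252155779)))) (.node (.node (.node (.node (.leaf 6985286) (.leaf 197726604)) (.node (.leaf 323435633) (.leaf 155776893))) (.node (.node (.leaf 50152695) (.leaf 159850361)) (.leaf 34431196))) (.node (.node (.node (.leaf 24421408) (.leaf 162633615)) (.leaf 665270)) (.node (.node (.leaf 211187789) (.leaf 129717485)) (.leaf 286982953))))) (.node (.node (.node (.node (.node (.leaf 209074753) (.leaf 33985934)) (.node (.leaf 205408433) (.leaf 277192999))) (.node (.node (.leaf 245493877) (.leaf 326649215)) (.leaf 204265753))) (.node (.node (.node (.leaf 17904702) (.leaf 88773311)) (.leaf 59141658)) (.node (.node (.leaf 28717104) (.leaf 106672495)) (.leaf 225134453)))) (.node (.node (.node (.node (.leaf 2) (.leaf 83005515)) (.node (.leaf 149036) (.leaf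 235119336))) (.node (.node (.leaf 359) (.leaf 149341)) (.leaf 49071943))) (.node (.node (.node (.leaf 170096374) (.leaf 245478476)) (.leaf 24222848)) (.node (.node (.leaf 93796641) (.leaf 199758741)) (.leaf 221899864))))))

/-- Part of the table `stepT7`. -/
def stepT7_7 : Tr := (.node (.node (.node (.node (.node (.node (.leaf 39622162) (.leaf 88100495)) (.node (.leaf 245375857) (.leaf 187813093))) (.node (.node (.leaf 96066099) (.leaf 66)) (.leaf 26246266))) (.node (.node (.node (.leaf 7948496) (.leaf 248524700)) (.leaf 300797091)) (.node (.node (.leaf 107646204) (.leaf 270886295)) (.leaf 25034841)))) (.node (.node (.node (.node (.leaf 1) (.leaf 310414898)) (.node (.leaf 114383096) (.leaf 17905040))) (.node (.node (.leaf 146111056) (.leaf 165930214)) (.leaf 39))) (.node (.node (.node (.leaf 93019203) (.leaf 122475134)) (.leaf 49536692)) (.node (.node (.leaf 261355111) (.leaf 107834227)) (.leaf 272495212))))) (.node (.node (.node (.node (.node (.leaf 328570455) (.leaf 66260207)) (.node (.leaf 14) (.leaf 151810953))) (.node (.node (.leaf 69907741) (.leaf 267154234)) (.leaf 66424904))) (.node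 (.node (.node (.leaf 315776010) (.leaf 300797227)) (.leaf 85299279)) (.node (.node (.leaf 107833963) (.leaf 18030807)) (.leaf 65286427)))) (.node (.node (.node (.node (.leaf 300796996) (.leaf 36978411)) (.node (.leaf 16) (.leaf 251102082))) (.node (.node (.leaf 293526134) (.leaf 198410586)) (.leaf 255599442))) (.node (.node (.node (.leaf 20509858) (.leaf 17904920)) (.leaf 122926779)) (.node (.node (.leaf 291119194) (.leaf 1151168)) (.leaf 153344256))))))

/-- Part of the table `stepT7`. -/
def stepT7_8 : Tr := (.node (.node (.node (.node (.node (.node (.leaf 60) (.leaf 105528730)) (.node (.leaf 305647426) (.leaf 326929220))) (.node (.node (.leaf 18066596) (.leaf 14765277)) (.leaf 300797257))) (.node (.node (.node (.leaf 211) (.leaf 156918157)) (.leaf 149017807)) (.node (.node (.leaf 224064627) (.leaf 93)) (.leaf 148249904)))) (.node (.node (.node (.node (.leaf 315776156) (.leaf 49888368)) (.node (.leaf 37465836) (.leaf 163328355))) (.node (.node (.leaf 326264843) (.leaf 222598999)) (.leaf 34507115))) (.node (.node (.node (.leaf 100522) (.leaf 317856516)) (.leaf 6365802)) (.node (.node (.leaf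 319522082) (.leaf 66970862)) (.leaf 18017877))))) (.node (.node (.node (.node (.node (.leaf 41510537) (.leaf 240138106)) (.node (.leaf 85990147) (.leaf 191322421))) (.node (.node (.leaf 85299371) (.leaf 18201934)) (.leaf 149017767))) (.node (.node (.node (.leaf 20897326) (.leaf 18577145)) (.leaf 253533061)) (.node (.node (.leaf 211187860) (.leaf 106672493)) (.leaf 7527179)))) (.node (.node (.node (.node (.leaf 149000) (.leaf 20897562)) (.node (.leaf 24222880) (.leaf 250715028))) (.node (.node (.leaf 283321162) (.leaf 312809348)) (.leaf 35308332))) (.node (.node (.node (.leaf 15611916) (.leaf 11347186)) (.leaf 78778669)) (.node (.node (.leaf 32682294) (.leaf 327612237)) (.leaf 290939201))))))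

/-- The table `stepT7`. -/
def stepT7 : Tr := (.node (.node (.node stepT7_1 stepT7_2) (.node stepT7_3 stepT7_4)) (.node (.node stepT7_5 stepT7_6) (.node stepT7_7 stepT7_8)))

/-- Part of the table `stepT8`. -/
def stepT8_1 : Tr := (.node (.node (.node (.node (.node (.node (.leaf 37122050) (.leaf 153176632)) (.node (.leaf 12) (.leaf 315437377))) (.node (.node (.leaf 65204459) (.leaf 196261964)) (.leaf 161801001))) (.node (.node (.node (.leaf 37122057) (.leaf 66424951)) (.leaf 230486678)) (.node (.node (.leaf 101951823) (.leaf 91972981)) (.leaf 37122151)))) (.node (.node (.node (.node (.leaf 37122089) (.leaf 51)) (.node (.leaf 37122287) (.leaf 85299603))) (.node (.node (.leaf 13506834) (.leaf 173458821)) (.leaf 7453406))) (.node (.node (.node (.leaf 48327293) (.leaf 41770156)) (.leaf 20341959)) (.node (.node (.leaf 375) (.leaf 37122406)) (.leaf 50456921))))) (.node (.node (.node (.node (.node (.leaf 37122079) (.leaf 35772474)) (.node (.leaf 242964785) (.leaf 49539386))) (.node (.node (.leaf 17904817) (.leaf 48538226)) (.leaf 8149154))) (.node (.node (.node (.leaf 37122063) (.leaf 449610))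 (.leaf 66310206)) (.node (.node (.leaf 15415862) (.leaf 24819048)) (.leaf 196510353)))) (.node (.node (.node (.node (.leaf 188) (.leaf 48327269)) (.node (.leaf 37122308) (.leaf 15840641))) (.node (.node (.leaf 37122082) (.leaf 294732700)) (.leaf 58440894))) (.node (.node (.node (.leaf 213318912) (.leaf 182595983)) (.leaf 23)) (.node (.node (.leaf 13708006) (.leaf 56709507)) (.leaf 13762841))))))

/-- Part of the table `stepT8`. -/
def stepT8_2 : Tr := (.node (.node (.node (.node (.node (.node (.leaf 37122052) (.leaf 37122200)) (.node (.leaf 242383607) (.leaf 291388252))) (.node (.node (.leaf 37122116) (.leaf 300673727)) (.leaf 7668382))) (.node (.node (.node (.leaf 46219906) (.leaf 222335051)) (.leaf 37122212)) (.node (.node (.leaf 311268902) (.leaf 129797865)) (.leaf 4453633)))) (.node (.node (.node (.node (.leaf 49879196) (.leaf 18066514)) (.node (.leaf 323742849) (.leaf 257355610))) (.node (.node (.leaf 349) (.leaf 223410937)) (.leaf 261399290))) (.node (.node (.node (.leaf 37122100) (.leaf 35864778)) (.leaf 191029343)) (.node (.node (.leaf 11) (.leaf 127176524)) (.leaf 314427089)))))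 (.node (.node (.node (.node (.node (.leaf 128) (.leaf 279)) (.node (.leaf 14) (.leaf 18066603))) (.node (.node (.leaf 233572672) (.leaf 147948404)) (.leaf 323728538))) (.node (.node (.node (.leaf 48327290) (.leaf 37122348)) (.leaf 108260144)) (.node (.node (.leaf 117104235) (.leaf 232417947)) (.leaf 49534563)))) (.node (.node (.node (.node (.leaf 37122076) (.leaf 174627155)) (.node (.leaf 18066452) (.leaf 290944856))) (.node (.node (.leaf 242624290) (.leaf 292046212)) (.leaf 37122141))) (.node (.node (.node (.leaf 292830391) (.leaf 291180945)) (.leaf 24)) (.node (.node (.leaf 8860799) (.leaf 261469870)) (.leaf 13335103))))))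

/-- Part of the table `stepT8`. -/
def stepT8_3 : Tr := (.node (.node (.node (.node (.node (.node (.leaf 37122048) (.leaf 114385123)) (.node (.leaf 46219812) (.leaf 121))) (.node (.node (.leaf 306092713) (.leaf 179472678)) (.leaf 8398181))) (.node (.node (.node (.leaf 37122136) (.leaf 222335068)) (.leaf 10988744)) (.node (.node (.leaf 37122083) (.leaf 74118765)) (.leaf 200477998)))) (.node (.node (.node (.node (.leaf 37122066) (.leaf 5969488)) (.node (.leaf 311269087) (.leaf 17905038))) (.node (.node (.leaf 49879316) (.leaf 73868887)) (.leaf 247239389))) (.node (.node (.node (.leaf 271) (.leaf 149322885)) (.leaf 24818866)) (.node (.node (.leaf 48538440) (.leaf 169059541)) (.leaf 142839435))))) (.node (.node (.node (.node (.node (.leaf 105) (.leaf 186776718)) (.node (.leaf 262753541) (.leaf 215407487))) (.node (.node (.leaf 131880) (.leaf 300268723)) (.leaf 35864884))) (.node (.node (.node (.leaf 3) (.leaf 215524469)) (.leaf 221148739)) (.node (.node (.leaf 18305566) (.leaf 101951883)) (.leaf 66722119)))) (.node (.node (.node (.node (.leaf 17904718) (.leaf 85665395)) (.node (.leaf 323751628)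 (.leaf 36751566))) (.node (.node (.leaf 242624293) (.leaf 120258964)) (.leaf 18305789))) (.node (.node (.node (.leaf 49512712) (.leaf 20256136)) (.leaf 135097575)) (.node (.node (.leaf 49309740) (.leaf 223772573)) (.leaf 255664852))))))

/-- Part of the table `stepT8`. -/
def stepT8_4 : Tr := (.node (.node (.node (.node (.node (.node (.leaf 17904641) (.leaf 37122201)) (.node (.leaf 305647427) (.leaf 220907417))) (.node (.node (.leaf 17904661) (.leaf 35677054)) (.leaf 252851094))) (.node (.node (.node (.leaf 292117092) (.leaf 239506242)) (.leaf 37122214)) (.node (.node (.leaf 37122197) (.leaf 37122416)) (.leaf 5399672)))) (.node (.node (.node (.node (.leaf 17904711) (.leaf 48327259)) (.node (.leaf 282079904) (.leaf 214541510))) (.node (.node (.leaf 49459982) (.leaf 46328679)) (.leaf 318194542))) (.node (.node (.node (.leaf 6405736) (.leaf 249466157)) (.leaf 17904713)) (.node (.node (.leaf 133030543) (.leaf 120824097)) (.leaf 191494863))))) (.node (.node (.node (.node (.node (.leaf 140) (.leaf 22739542)) (.node (.leaf 216025866) (.leaf 17905042))) (.node (.node (.leaf 17904666) (.leaf 74339582))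 (.leaf 42580890))) (.node (.node (.node (.leaf 48327305) (.leaf 169247458)) (.leaf 265976700)) (.node (.node (.leaf 305491313) (.leaf 306469590)) (.leaf 61484785)))) (.node (.node (.node (.node (.leaf 22803050) (.leaf 27836699)) (.node (.leaf 7668420) (.leaf 81952635))) (.node (.node (.leaf 24818782) (.leaf 316600199)) (.leaf 115670736))) (.node (.node (.node (.leaf 66310312) (.leaf 107661999)) (.leaf 28017880)) (.node (.node (.leaf 139637089) (.leaf 35676998)) (.leaf 78766414))))))

/-- Part of the table `stepT8`. -/
def stepT8_5 : Tr := (.node (.node (.node (.node (.node (.node (.leaf 17904646) (.leaf 114385124)) (.node (.leaf 323742868) (.leaf 39688088))) (.node (.node (.leaf 300673717) (.leaf 292129664)) (.leaf 17856803))) (.node (.node (.node (.leaf 16049849) (.leaf 247810934)) (.leaf 8766729)) (.node (.node (.leaf 113118525) (.leaf 268992126)) (.leaf 27471701)))) (.node (.node (.node (.node (.leaf 7668251) (.leaf 18066511)) (.node (.leaf 134440168) (.leaf 304513852))) (.node (.node (.leaf 49879315) (.leaf 311311107)) (.leaf 290838260))) (.node (.node (.node (.leaf 34623107) (.leaf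 149322888)) (.leaf 17904712)) (.node (.node (.leaf 37122245) (.leaf 305491054)) (.leaf 38860014))))) (.node (.node (.node (.node (.node (.leaf 37122080) (.leaf 50878625)) (.node (.leaf 49309742) (.leaf 323917693))) (.node (.node (.leaf 17904822) (.leaf 218687893)) (.leaf 37122249))) (.node (.node (.node (.leaf 37122064) (.leaf 215500992)) (.leaf 307789890)) (.node (.node (.leaf 10) (.leaf 72809375)) (.leaf 254906724)))) (.node (.node (.node (.node (.leaf 45132877) (.leaf 7582456)) (.node (.leaf 37122310) (.leaf 127829894))) (.node (.node (.leaf 46705711) (.leaf 64457456)) (.leaf 37122133))) (.node (.node (.node (.leaf 35864631) (.leaf 91345775)) (.leaf 36843041)) (.node (.node (.leaf 386) (.leaf 149337499)) (.leaf 284374356))))))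

/-- Part of the table `stepT8`. -/
def stepT8_6 : Tr := (.node (.node (.node (.node (.node (.node (.leaf 66310163) (.leaf 275043466)) (.node (.leaf 242964786) (.leaf 242383696))) (.node (.node (.leaf 60578333) (.leaf 197396799)) (.leaf 37122161))) (.node (.node (.node (.leaf 251) (.leaf 222335066)) (.leaf 163032883)) (.node (.node (.leaf 49309976) (.leaf 23602370)) (.leaf 304196895)))) (.node (.node (.node (.node (.leaf 17904710) (.leaf 8168019)) (.node (.leaf 37122150) (.leaf 213636425))) (.node (.node (.leaf 37122265) (.leaf 23690977)) (.leaf 169696626))) (.node (.node (.node (.leaf 37122101) (.leaf 218106701)) (.leaf 294876225)) (.node (.node (.leaf 213767466) (.leaf 77637472)) (.leaf 39169309))))) (.node (.node (.node (.node (.node (.leaf 135) (.leaf 58424575)) (.node (.leaf 212271763) (.leaf 18066605))) (.node (.node (.leaf 114627097) (.leaf 143435573)) (.leaf 48538315))) (.node (.node (.node (.leaf 267) (.leaf 152087862)) (.leaf 49879437)) (.node (.node (.leaf 74119010) (.leaf 12663647)) (.leaf 290842375)))) (.node (.node (.node (.node (.leaf 60578373) (.leaf 18679029)) (.node (.leaf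 7668419) (.leaf 182147962))) (.node (.node (.leaf 37122268) (.leaf 84)) (.leaf 198844114))) (.node (.node (.node (.leaf 66310311) (.leaf 5102177)) (.leaf 7569559)) (.node (.node (.leaf 49309744) (.leaf 323917705)) (.leaf 22803162))))))

/-- Part of the table `stepT8`. -/
def stepT8_7 : Tr := (.node (.node (.node (.node (.node (.node (.leaf 42) (.leaf 299343185)) (.node (.leaf 65066545) (.leaf 65213816))) (.node (.node (.leaf 171301546) (.leaf 309821062)) (.leaf 7668381))) (.node (.node (.node (.leaf 37122146) (.leaf 18003649)) (.leaf 37122211)) (.node (.node (.leaf 46705900) (.leaf 220985203)) (.leaf 4453634)))) (.node (.node (.node (.node (.leaf 66310149) (.leaf 18066513)) (.node (.leaf 178129549) (.leaf 85299600))) (.node (.node (.leaf 24987413) (.leaf 265212188)) (.leaf 39020583))) (.node (.node (.node (.leaf 272) (.leaf 148978853)) (.leaf 297626442)) (.node (.node (.leaf 85665562) (.leaf 133940579)) (.leaf 69477719))))) (.node (.node (.node (.node (.node (.leaf 116) (.leaf 45)) (.node (.leaf 260835570) (.leaf 105224554))) (.node (.node (.leaf 242624292) (.leaf 37122379)) (.leaf 48538317)))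 (.node (.node (.node (.leaf 18066439) (.leaf 37122347)) (.leaf 49879436)) (.node (.node (.leaf 19783788) (.leaf 111002839)) (.leaf 6985280)))) (.node (.node (.node (.node (.leaf 7668241) (.leaf 29656350)) (.node (.leaf 245814124) (.leaf 247969145))) (.node (.node (.leaf 49309974) (.leaf 162163003)) (.leaf 50107515))) (.node (.node (.node (.leaf 311) (.leaf 188878683)) (.leaf 407)) (.node (.node (.leaf 50107611) (.leaf 96795038)) (.leaf 37))))))

/-- Part of the table `stepT8`. -/
def stepT8_8 : Tr := (.node (.node (.node (.node (.node (.node (.leaf 49879083) (.leaf 288835821)) (.node (.leaf 13) (.leaf 300181854))) (.node (.node (.leaf 17904662) (.leaf 16692458)) (.leaf 108029104))) (.node (.node (.node (.leaf 54824147) (.leaf 124560687)) (.leaf 66310205)) (.node (.node (.leaf 37122272) (.leaf 14392662)) (.leaf 148789434)))) (.node (.node (.node (.node (.leaf 184) (.leaf 268)) (.node (.leaf 14443709) (.leaf 187))) (.node (.node (.leaf 81361234) (.leaf 95225075)) (.leaf 20754795))) (.node (.node (.node (.leaf 35864633) (.leaf 59)) (.leaf 300417596)) (.node (.node (.leaf 49449248) (.leaf 112))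 (.leaf 173458564))))) (.node (.node (.node (.node (.node (.leaf 37122088) (.leaf 50)) (.node (.leaf 208785014) (.leaf 155781432))) (.node (.node (.leaf 49879313) (.leaf 105224288)) (.leaf 179829494))) (.node (.node (.node (.leaf 49534553) (.leaf 126977319)) (.leaf 114417982)) (.node (.node (.leaf 300220063) (.leaf 72397113)) (.leaf 37122192)))) (.node (.node (.node (.node (.leaf 37122056) (.leaf 311867109)) (.node (.leaf 300220015) (.leaf 100868969))) (.node (.node (.leaf 149401780) (.leaf 43079021)) (.leaf 292117138))) (.node (.node (.node (.leaf 60317436) (.leaf 197396805)) (.leaf 294876484)) (.node (.node (.leaf 8845948) (.leaf 189624714)) (.leaf 114308365))))))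

/-- The table `stepT8`. -/
def stepT8 : Tr := (.node (.node (.node stepT8_1 stepT8_2) (.node stepT8_3 stepT8_4)) (.node (.node stepT8_5 stepT8_6) (.node stepT8_7 stepT8_8)))

/-- Part of the table `stepT9`. -/
def stepT9_1 : Tr := (.node (.node (.node (.node (.node (.node (.leaf 6) (.leaf 271012997)) (.node (.leaf 323742868) (.leaf 81113420))) (.node (.node (.leaf 261879386) (.leaf 85566743)) (.leaf 65733381))) (.node (.node (.node (.leaf 65733142) (.leaf 258173037)) (.leaf 65733356)) (.node (.node (.leaf 20275051) (.leaf 25188054)) (.leaf 39108761)))) (.node (.node (.node (.node (.leaf 78) (.leaf 215524463)) (.node (.leaf 253756990) (.leaf 18066611))) (.node (.node (.leaf 224477927) (.leaf 236294276)) (.leaf 65204505))) (.node (.node (.node (.leaf 291) (.leaf 135117483)) (.leaf 65757916)) (.node (.node (.leaf 149257930) (.leaf 35864780)) (.leaf 75802878))))) (.node (.node (.node (.node (.node (.leaf 70) (.leaf 323487023)) (.node (.leaf 13) (.leaf 45160671))) (.node (.node (.leaf 97) (.leaf 46397822)) (.leaf 50231055))) (.node (.node (.node (.leaf 242489881) (.leaf 304359551)) (.leaf 37198063))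 (.node (.node (.leaf 149773980) (.leaf 20393832)) (.leaf 57803416)))) (.node (.node (.node (.node (.leaf 189) (.leaf 36992859)) (.node (.leaf 62682856) (.leaf 42521499))) (.node (.node (.leaf 314426945) (.leaf 209401242)) (.leaf 222798692))) (.node (.node (.node (.leaf 306) (.leaf 17834065)) (.leaf 36843041)) (.node (.node (.leaf 127170934) (.leaf 318415238)) (.leaf 50107614))))))

/-- Part of the table `stepT9`. -/
def stepT9_2 : Tr := (.node (.node (.node (.node (.node (.node (.leaf 39108612) (.leaf 174109841)) (.node (.leaf 236294480) (.leaf 69392237))) (.node (.node (.leaf 39108676) (.leaf 290838159)) (.leaf 50231051))) (.node (.node (.node (.leaf 242) (.leaf 49)) (.leaf 39108772)) (.node (.node (.leaf 50172122) (.leaf 225155288)) (.leaf 20377927)))) (.node (.node (.node (.node (.leaf 183319606) (.leaf 105951087)) (.node (.leaf 323742848) (.leaf 91729257))) (.node (.node (.leaf 44355853) (.leaf 232656775)) (.leaf 20393539))) (.node (.node (.node (.leaf 39108660) (.leaf 148979063)) (.leaf 90592295)) (.node (.node (.leaf 213767466) (.leaf 59680065)) (.leaf 212781974))))) (.node (.node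 (.node (.node (.node (.leaf 129) (.leaf 307926092)) (.node (.leaf 212271763) (.leaf 284578476))) (.node (.node (.leaf 310454540) (.leaf 95943040)) (.leaf 35864944))) (.node (.node (.node (.leaf 65733277) (.leaf 39108908)) (.leaf 284578700)) (.node (.node (.leaf 247211091) (.leaf 253642577)) (.leaf 65733280)))) (.node (.node (.node (.node (.leaf 39108636) (.leaf 140209934)) (.node (.leaf 159451752) (.leaf 206))) (.node (.node (.leaf 222118125) (.leaf 51177823)) (.leaf 60876976))) (.node (.node (.node (.leaf 17833991) (.leaf 20393794)) (.leaf 7569559)) (.node (.node (.leaf 237140554) (.leaf 229036434)) (.leaf 37))))))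

/-- Part of the table `stepT9`. -/
def stepT9_3 : Tr := (.node (.node (.node (.node (.node (.node (.leaf 65733121) (.leaf 280411955)) (.node (.leaf 279257739) (.leaf 204006243))) (.node (.node (.leaf 290838139) (.leaf 20393788)) (.leaf 163173757))) (.node (.node (.node (.leaf 65733301) (.leaf 263)) (.leaf 55861810)) (.node (.node (.leaf 306837233) (.leaf 69985911)) (.leaf 149257783)))) (.node (.node (.node (.node (.leaf 39108626) (.leaf 116521658)) (.node (.leaf 115670842) (.leaf 218838908))) (.node (.node (.leaf 15379769) (.leaf 159576702)) (.leaf 196624581))) (.node (.node (.node (.leaf 65353890) (.leaf 56)) (.leaf 20393650)) (.node (.node (.leaf 326) (.leaf 110)) (.leaf 36))))) (.node (.node (.node (.node (.node (.leaf 106) (.leaf 301280598)) (.node (.leaf 35994921) (.leaf 137016733))) (.node (.node (.leaf 237140604) (.leaf 287676819)) (.leaf 149257840))) (.node (.node (.node (.leaf 50230811) (.leaf 215524468)) (.leaf 65725690)) (.node (.node (.leaf 10) (.leaf 300991261)) (.leaf 146692353)))) (.node (.node (.node (.node (.leaf 65733161) (.leaf 209941051)) (.node (.leaf 39108966) (.leaf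 211684696))) (.node (.node (.leaf 253756992) (.leaf 15379871)) (.leaf 12824676))) (.node (.node (.node (.leaf 205582631) (.leaf 7453330)) (.leaf 3963666)) (.node (.node (.leaf 49151171) (.leaf 5366143)) (.leaf 115798698))))))

/-- Part of the table `stepT9`. -/
def stepT9_4 : Tr := (.node (.node (.node (.node (.node (.node (.leaf 0) (.leaf 39108711)) (.node (.leaf 54831) (.leaf 298413944))) (.node (.node (.leaf 8) (.leaf 114)) (.leaf 205397201))) (.node (.node (.node (.leaf 253) (.leaf 218233233)) (.leaf 39108774)) (.node (.node (.leaf 35676745) (.leaf 39108762)) (.leaf 15899425)))) (.node (.node (.node (.node (.leaf 65733152) (.leaf 130355873)) (.node (.leaf 35892835) (.leaf 162639092))) (.node (.node (.leaf 202202451) (.leaf 298916106)) (.leaf 32268640))) (.node (.node (.node (.leaf 135117332) (.leaf 48477069)) (.leaf 200455829)) (.node (.node (.leaf 275075263) (.leaf 215500408)) (.leaf 74104487))))) (.node (.node (.node (.node (.node (.leaf 141) (.leaf 283864348)) (.node (.leaf 77927783) (.leaf 39494830))) (.node (.node (.leaf 16) (.leaf 67864921)) (.leaf 412))) (.node (.node (.node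 (.leaf 283) (.leaf 46637625)) (.leaf 7083406)) (.node (.node (.leaf 370) (.leaf 202487669)) (.leaf 35)))) (.node (.node (.node (.node (.leaf 22803049) (.leaf 138287753)) (.node (.leaf 65733165) (.leaf 209569097))) (.node (.node (.leaf 20393566) (.leaf 14063353)) (.leaf 50107640))) (.node (.node (.node (.leaf 261879440) (.leaf 47004245)) (.leaf 126004457)) (.node (.node (.leaf 215403858) (.leaf 38896968)) (.leaf 75802864))))))

/-- Part of the table `stepT9`. -/
def stepT9_5 : Tr := (.node (.node (.node (.node (.node (.node (.leaf 65733122) (.leaf 124174058)) (.node (.leaf 12) (.leaf 13995897))) (.node (.node (.leaf 290838104) (.leaf 39289204)) (.leaf 149515389))) (.node (.node (.node (.leaf 16049848) (.leaf 66134246)) (.leaf 239813910)) (.node (.node (.leaf 72) (.leaf 87)) (.leaf 16050071)))) (.node (.node (.node (.node (.leaf 65733123) (.leaf 169442135)) (.node (.leaf 232040708) (.leaf 238640934))) (.node (.node (.leaf 15379768) (.leaf 136620908)) (.leaf 142482118))) (.node (.node (.node (.leaf 292) (.leaf 149322887)) (.leaf 246543677)) (.node (.node (.leaf 49111773) (.leaf 168645333))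 (.leaf 316478050))))) (.node (.node (.node (.node (.node (.leaf 71) (.leaf 156880475)) (.node (.leaf 163732766) (.leaf 223213413))) (.node (.node (.leaf 35676774) (.leaf 172158878)) (.leaf 39108809))) (.node (.node (.node (.leaf 65733146) (.leaf 37139082)) (.leaf 65422555)) (.node (.node (.leaf 18305566) (.leaf 101535124)) (.leaf 148751550)))) (.node (.node (.node (.node (.leaf 200455720) (.leaf 6985424)) (.node (.leaf 39108832) (.leaf 153184131))) (.node (.node (.leaf 291840323) (.leaf 61203790)) (.leaf 65733295))) (.node (.node (.node (.leaf 46637870) (.leaf 17834066)) (.leaf 23)) (.node (.node (.leaf 50450291) (.leaf 59769217)) (.leaf 32167262))))))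

/-- Part of the table `stepT9`. -/
def stepT9_6 : Tr := (.node (.node (.node (.node (.node (.node (.leaf 20393501) (.leaf 65733312)) (.node (.leaf 231480064) (.leaf 236294391))) (.node (.node (.leaf 300219923) (.leaf 39289037)) (.leaf 163361490))) (.node (.node (.node (.leaf 252) (.leaf 507627)) (.leaf 65733347)) (.node (.node (.leaf 54824251) (.leaf 192969609)) (.leaf 328042317)))) (.node (.node (.node (.node (.leaf 65733151) (.leaf 216684651)) (.node (.leaf 242490038) (.leaf 103887739))) (.node (.node (.leaf 56039742) (.leaf 197357243)) (.leaf 258242929))) (.node (.node (.node (.leaf 39108661) (.leaf 57006367)) (.leaf 65733154)) (.node (.node (.leaf 11) (.leaf 245597550)) (.leaf 32079243))))) (.node (.node (.node (.node (.node (.leaf 136) (.leaf 10770004)) (.node (.leaf 14) (.leaf 8602934))) (.node (.node (.leaf 15) (.leaf 321947365)) (.leaf 59680069))) (.node (.node (.node (.leaf 65733278) (.leaf 1133741)) (.leaf 106846509)) (.node (.node (.leaf 257482528) (.leaf 86463364)) (.leaf 265498204)))) (.node (.node (.node (.node (.leaf 20393477) (.leaf 295987050)) (.node (.leaf 65733164) (.leaf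 261587338))) (.node (.node (.leaf 319418055) (.leaf 178061055)) (.leaf 50205809))) (.node (.node (.node (.leaf 20393679) (.leaf 197621425)) (.leaf 24)) (.node (.node (.leaf 238883009) (.leaf 243389122)) (.leaf 38))))))

/-- Part of the table `stepT9`. -/
def stepT9_7 : Tr := (.node (.node (.node (.node (.node (.node (.leaf 65733137) (.leaf 214329499)) (.node (.leaf 35676747) (.leaf 278992281))) (.node (.node (.leaf 20393684) (.leaf 295015001)) (.leaf 46452346))) (.node (.node (.node (.leaf 238) (.leaf 48)) (.leaf 39108771)) (.node (.node (.leaf 38889110) (.leaf 212489602)) (.leaf 65733285)))) (.node (.node (.node (.node (.leaf 300219973) (.leaf 298155407)) (.node (.leaf 178129548) (.leaf 295127882))) (.node (.node (.leaf 271996012) (.leaf 227956310)) (.leaf 22206559))) (.node (.node (.node (.leaf 136597663) (.leaf 272652034)) (.leaf 49879440)) (.node (.node (.leaf 297381687) (.leaf 115927673)) (.leaf 75924047))))) (.node (.node (.node (.node (.node (.leaf 117) (.leaf 50230980)) (.node (.leaf 232992898) (.leaf 103398133))) (.node (.node (.leaf 35676803) (.leaf 39108939)) (.leaf 85566783)))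 (.node (.node (.node (.leaf 159451831) (.leaf 39108907)) (.leaf 183319856)) (.node (.node (.leaf 248893717) (.leaf 105382496)) (.leaf 557349)))) (.node (.node (.node (.node (.leaf 50230826) (.leaf 46)) (.node (.leaf 143800067) (.leaf 104234904))) (.node (.node (.leaf 149038857) (.leaf 118195480)) (.leaf 9198249))) (.node (.node (.node (.leaf 191626522) (.leaf 39020645)) (.leaf 188344149)) (.node (.node (.leaf 314426946) (.leaf 103085461)) (.leaf 13335103))))))

/-- Part of the table `stepT9`. -/
def stepT9_8 : Tr := (.node (.node (.node (.node (.node (.node (.leaf 15379516) (.leaf 290)) (.node (.leaf 242964785) (.leaf 203693908))) (.node (.node (.leaf 9) (.leaf 114600676)) (.leaf 319352413))) (.node (.node (.node (.leaf 85669044) (.leaf 153246266)) (.leaf 87439606)) (.node (.node (.leaf 39108870) (.leaf 84066958)) (.leaf 120886864)))) (.node (.node (.node (.node (.leaf 185) (.leaf 85566784)) (.node (.leaf 14443708) (.leaf 36843233))) (.node (.node (.leaf 353) (.leaf 281930513)) (.leaf 51959119))) (.node (.node (.node (.leaf 149257954) (.leaf 288270451)) (.leaf 149773867)) (.node (.node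 (.leaf 92147554) (.leaf 163032884)) (.leaf 236294533))))) (.node (.node (.node (.node (.node (.leaf 77) (.leaf 50230984)) (.node (.leaf 314427204) (.leaf 290625299))) (.node (.node (.leaf 88495859) (.leaf 6355671)) (.leaf 20393533))) (.node (.node (.node (.leaf 79494) (.leaf 323038472)) (.leaf 65733337)) (.node (.node (.leaf 213767440) (.leaf 6348052)) (.leaf 52134056)))) (.node (.node (.node (.node (.leaf 65733141) (.leaf 15430453)) (.node (.leaf 201016371) (.leaf 17834330))) (.node (.node (.leaf 43364563) (.leaf 19431260)) (.leaf 35279752))) (.node (.node (.node (.leaf 60317435) (.leaf 85566667)) (.leaf 148258422)) (.node (.node (.leaf 290914600) (.leaf 5366138)) (.leaf 239412573))))))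

/-- The table `stepT9`. -/
def stepT9 : Tr := (.node (.node (.node stepT9_1 stepT9_2) (.node stepT9_3 stepT9_4)) (.node (.node stepT9_5 stepT9_6) (.node stepT9_7 stepT9_8)))

/-- Part of the table `stepT10`. -/
def stepT10_1 : Tr := (.node (.node (.node (.node (.node (.node (.leaf 182860288) (.leaf 145834673)) (.node (.leaf 131311741) (.leaf 168048023))) (.node (.node (.leaf 134584361) (.leaf 134584584)) (.leaf 93729394))) (.node (.node (.node (.leaf 30283360) (.leaf 299433053)) (.leaf 153718431)) (.node (.node (.leaf 14826528) (.leaf 279045237)) (.leaf 302172018)))) (.node (.node (.node (.node (.leaf 303723658) (.leaf 34623338)) (.node (.leaf 149856983) (.leaf 158))) (.node (.node (.leaf 191703583) (.leaf 137104185)) (.leaf 120004247))) (.node (.node (.node (.leaf 182860336) (.leaf 329261735)) (.leaf 206146354)) (.node (.node (.leaf 89858242) (.leaf 2714872)) (.leaf 31316207))))) (.node (.node (.node (.node (.node (.leaf 83) (.leaf 138811200)) (.node (.leaf 209224962) (.leaf 312516954))) (.node (.node (.leaf 116102927) (.leaf 182986445)) (.leaf 268765284))) (.node (.node (.node (.leaf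 148067525) (.leaf 24183066)) (.leaf 403)) (.node (.node (.leaf 182860471) (.leaf 252861787)) (.leaf 142333294)))) (.node (.node (.node (.node (.leaf 74589722) (.leaf 246780501)) (.node (.leaf 111150746) (.leaf 19219342))) (.node (.node (.leaf 225603713) (.leaf 326226067)) (.leaf 322615417))) (.node (.node (.node (.leaf 87440045) (.leaf 326225986)) (.leaf 293397097)) (.node (.node (.leaf 209074831) (.leaf 262842725)) (.leaf 53394800))))))

/-- Part of the table `stepT10`. -/
def stepT10_2 : Tr := (.node (.node (.node (.node (.node (.node (.leaf 182860292) (.leaf 194290787)) (.node (.leaf 313213316) (.leaf 313213060))) (.node (.node (.leaf 182986268) (.leaf 64251117)) (.leaf 30283627))) (.node (.node (.node (.leaf 192436810) (.leaf 247678878)) (.leaf 167219535)) (.node (.node (.leaf 128403656) (.leaf 318652771)) (.leaf 252155779)))) (.node (.node (.node (.node (.leaf 182860308) (.leaf 90708185)) (.node (.leaf 244335219) (.leaf 175))) (.node (.node (.leaf 57854708) (.leaf 99466025)) (.leaf 307253294))) (.node (.node (.node (.leaf 207743148) (.leaf 48335658)) (.leaf 2933426)) (.node (.node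 (.leaf 21565733) (.leaf 236444531)) (.leaf 111732820))))) (.node (.node (.node (.node (.node (.leaf 313213054) (.leaf 196242651)) (.node (.leaf 244664141) (.leaf 275586205))) (.node (.node (.leaf 182986278) (.leaf 183818069)) (.leaf 192437063))) (.node (.node (.node (.leaf 277) (.leaf 30257007)) (.leaf 249795124)) (.node (.node (.leaf 247211069) (.leaf 14826718)) (.leaf 47242275)))) (.node (.node (.node (.node (.leaf 192436804) (.leaf 294453095)) (.node (.leaf 182860444) (.leaf 146649891))) (.node (.node (.leaf 151121155) (.leaf 292474022)) (.leaf 229773947))) (.node (.node (.node (.leaf 182860348) (.leaf 11595554)) (.leaf 153893423)) (.node (.node (.leaf 51579527) (.leaf 126927254)) (.leaf 317326135))))))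

/-- Part of the table `stepT10`. -/
def stepT10_3 : Tr := (.node (.node (.node (.node (.node (.node (.leaf 192436742) (.leaf 146434696)) (.node (.leaf 245679442) (.leaf 299636457))) (.node (.node (.leaf 326226232) (.leaf 250651486)) (.leaf 93729392))) (.node (.node (.node (.leaf 229) (.leaf 103009084)) (.leaf 182860450)) (.node (.node (.leaf 42866437) (.leaf 81211101)) (.leaf 277481811)))) (.node (.node (.node (.node (.leaf 182860306) (.leaf 324822211)) (.node (.leaf 312516690) (.leaf 238073755))) (.node (.node (.leaf 312516754) (.leaf 162308226)) (.leaf 216214845))) (.node (.node (.node (.leaf 274727187) (.leaf 233961136)) (.leaf 49536692)) (.node (.node (.leaf 89858240) (.leaf 316391136)) (.leaf 260603290))))) (.node (.node (.node (.node (.node (.leaf 182860298) (.leaf 174859873)) (.node (.leaf 303723536) (.leaf 7344011))) (.node (.node (.leaf 182986276) (.leaf 264617054)) (.leaf 198931327))) (.node (.node (.node (.leaf 64482331) (.leaf 1721140)) (.leaf 231754431)) (.node (.node (.leaf 287664313) (.leaf 65066768)) (.leaf 313213163)))) (.node (.node (.node (.node (.leaf 71989272) (.leaf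 15806760)) (.node (.leaf 111150744) (.leaf 158542578))) (.node (.node (.leaf 57854677) (.leaf 312517000)) (.leaf 322615415))) (.node (.node (.node (.leaf 182860346) (.leaf 43019877)) (.leaf 329930027)) (.node (.node (.leaf 283746065) (.leaf 199076555)) (.leaf 290753821))))))

/-- Part of the table `stepT10`. -/
def stepT10_4 : Tr := (.node (.node (.node (.node (.node (.node (.leaf 182986242) (.leaf 228248387)) (.node (.leaf 283596101) (.leaf 237208438))) (.node (.node (.leaf 183817807) (.leaf 81092505)) (.leaf 117260045))) (.node (.node (.node (.leaf 192436812) (.leaf 182860339)) (.leaf 302165340)) (.node (.node (.leaf 148067609) (.leaf 53707165)) (.leaf 228758678)))) (.node (.node (.node (.node (.leaf 179) (.leaf 243306271)) (.node (.leaf 243701990) (.leaf 230073212))) (.node (.node (.leaf 24149581) (.leaf 173784855)) (.leaf 111732825))) (.node (.node (.node (.leaf 182860342) (.leaf 144506767)) (.leaf 186876285)) (.node (.node (.leaf 11) (.leaf 164135302)) (.leaf 15181555))))) (.node (.node (.node (.node (.node (.leaf 182860302) (.leaf 64482503)) (.node (.leaf 182860430) (.leaf 39995800)))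 (.node (.node (.leaf 325529845) (.leaf 71)) (.leaf 192437065))) (.node (.node (.node (.leaf 306995924) (.leaf 307380989)) (.leaf 322615673)) (.node (.node (.leaf 144720027) (.leaf 175224552)) (.leaf 23646071)))) (.node (.node (.node (.node (.leaf 8029729) (.leaf 83154289)) (.node (.leaf 400) (.leaf 159011108))) (.node (.node (.leaf 283321162) (.leaf 135068482)) (.leaf 30283628))) (.node (.node (.node (.leaf 30101031) (.leaf 202551135)) (.leaf 74589883)) (.node (.node (.leaf 313212940) (.leaf 25029915)) (.leaf 245198901))))))

/-- Part of the table `stepT10`. -/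
def stepT10_5 : Tr := (.node (.node (.node (.node (.node (.node (.leaf 182860289) (.leaf 15088529)) (.node (.leaf 271199832) (.leaf 327882589))) (.node (.node (.leaf 182860353) (.leaf 134584545)) (.leaf 93729507))) (.node (.node (.node (.leaf 8029726) (.leaf 165558461)) (.leaf 182860449)) (.node (.node (.leaf 143031050) (.leaf 217524867)) (.leaf 138811201)))) (.node (.node (.node (.node (.leaf 182860305) (.leaf 208600186)) (.node (.leaf 209074825) (.leaf 41347329))) (.node (.node (.leaf 326225935) (.leaf 182986481)) (.leaf 34431231))) (.node (.node (.node (.leaf 182860337) (.leaf 284187515)) (.leaf 159181568)) (.node (.node (.leaf 248715055) (.leaf 75541790)) (.leaf 192437073))))) (.node (.node (.node (.node (.node (.leaf 95) (.leaf 138435749)) (.node (.leaf 209074833) (.leaf 111150745))) (.node (.node (.leaf 263385667) (.leaf 182986446)) (.leaf 188925783))) (.node (.node (.node (.leaf 138810944) (.leaf 73618772)) (.leaf 328397993)) (.node (.node (.leaf 293397176) (.leaf 121894219)) (.leaf 314009986)))) (.node (.node (.node (.node (.leaf 328397849) (.leaf 280707174)) (.node (.leaf 111150985)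 (.leaf 99471174))) (.node (.node (.leaf 57854678) (.leaf 142874379)) (.leaf 101453076))) (.node (.node (.node (.leaf 182860345) (.leaf 248569680)) (.leaf 287664234)) (.node (.node (.leaf 329031384) (.leaf 329031342)) (.leaf 5762197))))))

/-- Part of the table `stepT10`. -/
def stepT10_6 : Tr := (.node (.node (.node (.node (.node (.node (.leaf 182860293) (.leaf 26242146)) (.node (.leaf 182860421) (.leaf 59812767))) (.node (.node (.leaf 182986269) (.leaf 249367686)) (.leaf 280707112))) (.node (.node (.node (.leaf 192436811) (.leaf 48554100)) (.leaf 192693513)) (.node (.node (.leaf 108948282) (.leaf 141063032)) (.leaf 34)))) (.node (.node (.node (.node (.leaf 220609195) (.leaf 44)) (.node (.leaf 22961401) (.leaf 92987061))) (.node (.node (.leaf 251964184) (.leaf 271861068)) (.leaf 111732826))) (.node (.node (.node (.leaf 191549182) (.leaf 288054911)) (.leaf 92987285)) (.node (.node (.leaf 182942560) (.leaf 166108039)) (.leaf 321287758))))) (.node (.node (.node (.node (.node (.leaf 182860301) (.leaf 64482502)) (.node (.leaf 11032827) (.leaf 316026663))) (.node (.node (.leaf 67347030) (.leaf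 120708748)) (.leaf 192437064))) (.node (.node (.node (.leaf 29506259) (.leaf 148704311)) (.leaf 101215800)) (.node (.node (.leaf 182860397) (.leaf 14826719)) (.leaf 35096388)))) (.node (.node (.node (.node (.leaf 192436805) (.leaf 300859642)) (.node (.leaf 220609420) (.leaf 57339750))) (.node (.node (.leaf 308653856) (.leaf 327004033)) (.leaf 100365154))) (.node (.node (.node (.leaf 271996012) (.leaf 188493522)) (.leaf 193411873)) (.node (.node (.leaf 166875776) (.leaf 151672502)) (.leaf 314178350))))))

/-- Part of the table `stepT10`. -/
def stepT10_7 : Tr := (.node (.node (.node (.node (.node (.node (.leaf 182860291) (.leaf 122806876)) (.node (.leaf 262891873) (.leaf 187813092))) (.node (.node (.leaf 249402953) (.leaf 135869702)) (.leaf 327813394))) (.node (.node (.node (.leaf 47242476) (.leaf 261177244)) (.leaf 269135979)) (.node (.node (.leaf 247150852) (.leaf 318652772)) (.leaf 89858241)))) (.node (.node (.node (.node (.leaf 182860307) (.leaf 274726962)) (.node (.leaf 326226264) (.leaf 168))) (.node (.node (.leaf 8) (.leaf 177482466)) (.leaf 34462765))) (.node (.node (.node (.leaf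 182860582) (.leaf 288269887)) (.leaf 22)) (.node (.node (.leaf 228626068) (.leaf 236444532)) (.leaf 15181558))))) (.node (.node (.node (.node (.node (.leaf 118) (.leaf 150344537)) (.node (.leaf 182860427) (.leaf 62704010))) (.node (.node (.leaf 182986277) (.leaf 233371497)) (.leaf 259038586))) (.node (.node (.node (.leaf 182860331) (.leaf 322178746)) (.leaf 275586069)) (.node (.node (.leaf 272373923) (.leaf 14826692)) (.leaf 313213162)))) (.node (.node (.node (.node (.leaf 117259818) (.leaf 52315006)) (.node (.leaf 227631214) (.leaf 225271698))) (.node (.node (.leaf 94180439) (.leaf 157103976)) (.leaf 226730252))) (.node (.node (.node (.leaf 182860347) (.leaf 160550135)) (.leaf 71989438)) (.node (.node (.leaf 176586460) (.leaf 248531249)) (.leaf 42890381))))))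

/-- Part of the table `stepT10`. -/
def stepT10_8 : Tr := (.node (.node (.node (.node (.node (.node (.leaf 182860295) (.leaf 138811199)) (.node (.leaf 3667580) (.leaf 140149109))) (.node (.node (.leaf 334) (.leaf 182986444)) (.leaf 117260046))) (.node (.node (.node (.leaf 22629438) (.leaf 293648269)) (.leaf 321475888)) (.node (.node (.leaf 254362223) (.leaf 295300892)) (.leaf 329349327)))) (.node (.node (.node (.node (.leaf 182860311) (.leaf 236365142)) (.node (.leaf 134514896) (.leaf 233351040))) (.node (.node (.leaf 94180443) (.leaf 191703753)) (.leaf 189199504))) (.node (.node (.node (.leaf 138510637) (.leaf 293737212)) (.leaf 182860392)) (.node (.node (.leaf 329031386) (.leaf 21017838)) (.leaf 169131835))))) (.node (.node (.node (.node (.node (.leaf 326226001) (.leaf 112788040)) (.node (.leaf 209074808) (.leaf 254626614))) (.node (.node (.leaf 271860806) (.leaf 278115492)) (.leaf 329897191))) (.node (.node (.node (.leaf 135856828) (.leaf 189319281)) (.leaf 404)) (.node (.node (.leaf 261481575) (.leaf 104300844)) (.leaf 31316208)))) (.node (.node (.node (.node (.leaf 188925520) (.leaf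 174932246)) (.node (.leaf 275209888) (.leaf 16821125))) (.node (.node (.leaf 9) (.leaf 137080638)) (.leaf 30283629))) (.node (.node (.node (.leaf 288124211) (.leaf 134584583)) (.leaf 156722858)) (.node (.node (.leaf 307935541) (.leaf 254192842)) (.leaf 32119505))))))

/-- The table `stepT10`. -/
def stepT10 : Tr := (.node (.node (.node stepT10_1 stepT10_2) (.node stepT10_3 stepT10_4)) (.node (.node stepT10_5 stepT10_6) (.node stepT10_7 stepT10_8)))

/-- Part of the table `stepT11`. -/
def stepT11_1 : Tr := (.node (.node (.node (.node (.node (.node (.leaf 7) (.leaf 117510520)) (.node (.leaf 88663326) (.leaf 122))) (.node (.node (.leaf 52747361) (.leaf 19084614)) (.leaf 213764401))) (.node (.node (.node (.leaf 29743113) (.leaf 47)) (.leaf 4290957)) (.node (.node (.leaf 53343) (.leaf 221536892)) (.leaf 109982971)))) (.node (.node (.node (.node (.leaf 82605194) (.leaf 258930316)) (.node (.leaf 129453630) (.leaf 167598480))) (.node (.node (.leaf 80295033) (.leaf 51073337)) (.leaf 82381008))) (.node (.node (.node (.leaf 152558641) (.leaf 8607643)) (.leaf 212240767)) (.node (.node (.leaf 19547763)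 (.leaf 4608659)) (.leaf 82381040))))) (.node (.node (.node (.node (.node (.leaf 84) (.leaf 3530137)) (.node (.leaf 190643832) (.leaf 80295258))) (.node (.node (.leaf 320581881) (.leaf 127352616)) (.leaf 269266284))) (.node (.node (.node (.leaf 259) (.leaf 144094536)) (.leaf 90564264)) (.node (.node (.leaf 39497756) (.leaf 260167003)) (.leaf 51627096)))) (.node (.node (.node (.node (.leaf 145893037) (.leaf 262964030)) (.node (.leaf 173058714) (.leaf 310073228))) (.node (.node (.leaf 111420136) (.leaf 248362232)) (.leaf 31))) (.node (.node (.node (.leaf 180617754) (.leaf 46795526)) (.leaf 293144133)) (.node (.node (.leaf 256719496) (.leaf 13071616)) (.leaf 150270808))))))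

/-- Part of the table `stepT11`. -/
def stepT11_2 : Tr := (.node (.node (.node (.node (.node (.node (.leaf 16700951) (.leaf 288122210)) (.node (.leaf 323487547) (.leaf 177757431))) (.node (.node (.leaf 16132791) (.leaf 270737220)) (.leaf 29743149))) (.node (.node (.node (.leaf 213) (.leaf 141352337)) (.leaf 167598244)) (.node (.node (.leaf 102442718) (.leaf 298169539)) (.leaf 225187667)))) (.node (.node (.node (.node (.leaf 1) (.leaf 57230041)) (.node (.leaf 321639618) (.leaf 320864431))) (.node (.node (.leaf 8) (.leaf 24916236)) (.leaf 178577255))) (.node (.node (.node (.leaf 40691902) (.leaf 211823914)) (.leaf 167598260)) (.node (.node (.leaf 283626546) (.leaf 174124195)) (.leaf 111732819))))) (.node (.node (.node (.node (.node (.leaf 245910604) (.leaf 54056276)) (.node (.leaf 249143568) (.leaf 310073240))) (.node (.node (.leaf 270575116) (.leaf 70)) (.leaf 186447159))) (.node (.node (.node (.leaf 54045965) (.leaf 161773417)) (.leaf 116599995)) (.node (.node (.leaf 320311505) (.leaf 179173576)) (.leaf 82381036)))) (.node (.node (.node (.node (.leaf 115352680) (.leaf 46)) (.node (.leaf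 17) (.leaf 216193774))) (.node (.node (.leaf 286962373) (.leaf 97862310)) (.leaf 32119537))) (.node (.node (.node (.leaf 5) (.leaf 19322971)) (.leaf 98118749)) (.node (.node (.leaf 164769120) (.leaf 229119787)) (.leaf 253371719))))))

/-- Part of the table `stepT11`. -/
def stepT11_3 : Tr := (.node (.node (.node (.node (.node (.node (.leaf 30) (.leaf 88100495)) (.node (.leaf 55001678) (.leaf 66991847))) (.node (.node (.leaf 58518339) (.leaf 269680205)) (.leaf 328931476))) (.node (.node (.node (.leaf 230) (.leaf 73774679)) (.leaf 198473274)) (.node (.node (.leaf 103892133) (.leaf 290007300)) (.leaf 68358019)))) (.node (.node (.node (.node (.leaf 16700938) (.leaf 328070499)) (.node (.leaf 80294994) (.leaf 167))) (.node (.node (.leaf 80295058) (.leaf 159881461)) (.leaf 44157747))) (.node (.node (.node (.leaf 219047028) (.leaf 210924746)) (.leaf 167598258)) (.node (.node (.leaf 19548027) (.leaf 328808077)) (.leaf 33035583))))) (.node (.node (.node (.node (.node (.leaf 20641298) (.leaf 41)) (.node (.leaf 82605072) (.leaf 186109322))) (.node (.node (.leaf 184562266) (.leaf 49852158)) (.leaf 118942514)))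 (.node (.node (.node (.leaf 42757305) (.leaf 141158196)) (.leaf 67460663)) (.node (.node (.leaf 300458011) (.leaf 114330445)) (.leaf 82381034)))) (.node (.node (.node (.node (.leaf 213764152) (.leaf 30084301)) (.node (.leaf 173058712) (.leaf 247316743))) (.node (.node (.leaf 202954314) (.leaf 80295304)) (.leaf 322615414))) (.node (.node (.node (.leaf 263617698) (.leaf 43079021)) (.leaf 250940310)) (.node (.node (.leaf 384) (.leaf 113)) (.leaf 84001985))))))

/-- Part of the table `stepT11`. -/
def stepT11_4 : Tr := (.node (.node (.node (.node (.node (.node (.leaf 159881249) (.leaf 59890488)) (.node (.leaf 33182533) (.leaf 151001974))) (.node (.node (.leaf 332) (.leaf 6177088)) (.leaf 256332053))) (.node (.node (.node (.leaf 268676734) (.leaf 321642547)) (.leaf 87994716)) (.node (.node (.leaf 15617302) (.leaf 31730990)) (.leaf 34)))) (.node (.node (.node (.node (.leaf 167598102) (.leaf 27056230)) (.node (.leaf 243701989) (.leaf 256233146))) (.node (.node (.leaf 350) (.leaf 115601007)) (.leaf 37))) (.node (.node (.node (.leaf 117002771) (.leaf 235854542)) (.leaf 44453557)) (.node (.node (.leaf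 329031386) (.leaf 278491014)) (.leaf 310138177))))) (.node (.node (.node (.node (.node (.leaf 67675149) (.leaf 249717887)) (.node (.leaf 222372461) (.leaf 157))) (.node (.node (.leaf 117511298) (.leaf 278251854)) (.leaf 142859574))) (.node (.node (.node (.leaf 284) (.leaf 43748198)) (.leaf 21)) (.node (.node (.leaf 227631259) (.leaf 29491329)) (.leaf 139855772)))) (.node (.node (.node (.node (.leaf 2) (.leaf 76774016)) (.node (.leaf 167598238) (.leaf 257))) (.node (.node (.leaf 43141173) (.leaf 86)) (.leaf 29743204))) (.node (.node (.node (.leaf 226265744) (.leaf 174382872)) (.leaf 4575284)) (.node (.node (.leaf 185383974) (.leaf 210036094)) (.leaf 64746826))))))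

/-- Part of the table `stepT11`. -/
def stepT11_5 : Tr := (.node (.node (.node (.node (.node (.node (.leaf 20) (.leaf 414)) (.node (.leaf 34459502) (.leaf 80295255))) (.node (.node (.leaf 326226059) (.leaf 287640822)) (.leaf 71781626))) (.node (.node (.node (.leaf 192140806) (.leaf 93019267)) (.leaf 198473275)) (.node (.node (.leaf 112533056) (.leaf 25583293)) (.leaf 82381043)))) (.node (.node (.node (.node (.leaf 156) (.leaf 184172951)) (.node (.leaf 222372367) (.leaf 186536228))) (.node (.node (.leaf 236294281) (.leaf 57448571)) (.leaf 322707564))) (.node (.node (.node (.leaf 152558640) (.leaf 180617920)) (.leaf 41685861)) (.node (.node (.leaf 378) (.leaf 128216189)) (.leaf 34431196))))) (.node (.node (.node (.node (.node (.leaf 102442528) (.leaf 299256069)) (.node (.leaf 236294225) (.leaf 186109321))) (.node (.node (.leaf 23111235) (.leaf 19350927)) (.leaf 24421725))) (.node (.node (.node (.leaf 266) (.leaf 160729819)) (.leaf 50762809)) (.node (.node (.leaf 149687837) (.leaf 172914988)) (.leaf 259091151)))) (.node (.node (.node (.node (.leaf 288730245) (.leaf 80368415)) (.node (.leaf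 186109081) (.leaf 106395912))) (.node (.node (.leaf 202954315) (.leaf 270737241)) (.leaf 111071508))) (.node (.node (.node (.leaf 11117225) (.leaf 52000080)) (.leaf 20398634)) (.node (.node (.leaf 80294992) (.leaf 286679723)) (.leaf 325831240))))))

/-- Part of the table `stepT11`. -/
def stepT11_6 : Tr := (.node (.node (.node (.node (.node (.node (.leaf 60) (.leaf 299256073)) (.node (.leaf 296236057) (.leaf 268201375))) (.node (.node (.leaf 292661944) (.leaf 51550854)) (.leaf 315072092))) (.node (.node (.node (.leaf 214) (.leaf 275)) (.leaf 53108834)) (.node (.node (.leaf 102442719) (.leaf 4632241)) (.leaf 228758678)))) (.node (.node (.node (.node (.leaf 174) (.leaf 238930118)) (.node (.leaf 106461967) (.leaf 142529405))) (.node (.node (.leaf 351) (.leaf 79)) (.leaf 36))) (.node (.node (.node (.leaf 105310814) (.leaf 82951367)) (.leaf 5911222)) (.node (.node (.leaf 220460679) (.leaf 307393397)) (.leaf 192141138))))) (.node (.node (.node (.node (.node (.leaf 67675150) (.leaf 34110508)) (.node (.leaf 321922418) (.leaf 4290720))) (.node (.node (.leaf 170118978) (.leaf 15250282)) (.leaf 104685338)))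 (.node (.node (.node (.leaf 102442692) (.leaf 327605951)) (.leaf 145892888)) (.node (.node (.leaf 222372494) (.leaf 12663610)) (.leaf 82381037)))) (.node (.node (.node (.node (.leaf 192167017) (.leaf 172885219)) (.node (.leaf 398) (.leaf 37177085))) (.node (.node (.leaf 91118268) (.leaf 36912329)) (.leaf 29743203))) (.node (.node (.node (.leaf 174180095) (.leaf 63)) (.leaf 4517729)) (.node (.node (.leaf 261417329) (.leaf 251254677)) (.leaf 35100061))))))

/-- Part of the table `stepT11`. -/
def stepT11_7 : Tr := (.node (.node (.node (.node (.node (.node (.leaf 43) (.leaf 40)) (.node (.leaf 96066337) (.leaf 86288098))) (.node (.node (.leaf 51758665) (.leaf 58518082)) (.leaf 315124068))) (.node (.node (.node (.leaf 82380835) (.leaf 64462711)) (.leaf 148832116)) (.node (.node (.leaf 102442717) (.leaf 323053330)) (.leaf 258669341)))) (.node (.node (.node (.node (.leaf 117002806) (.leaf 293)) (.node (.leaf 47966576) (.leaf 90564499))) (.node (.node (.leaf 57854708) (.leaf 165930212)) (.leaf 34507115))) (.node (.node (.node (.leaf 321642790) (.leaf 48890578)) (.leaf 167598259)) (.node (.node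 (.leaf 19547760) (.leaf 107)) (.leaf 82381025))))) (.node (.node (.node (.node (.node (.leaf 119) (.leaf 98258187)) (.node (.leaf 326225985) (.leaf 186109323))) (.node (.node (.leaf 184562265) (.leaf 40259439)) (.leaf 195587375))) (.node (.node (.node (.leaf 3) (.leaf 235174780)) (.leaf 293510521)) (.node (.node (.leaf 371) (.leaf 18030803)) (.leaf 82381035)))) (.node (.node (.node (.node (.leaf 288051818) (.leaf 171541787)) (.node (.leaf 144719982) (.leaf 8280880))) (.node (.node (.leaf 50233148) (.leaf 179773800)) (.leaf 136564521))) (.node (.node (.node (.leaf 263617697) (.leaf 322542724)) (.leaf 103637164)) (.node (.node (.leaf 51710801) (.leaf 19547762)) (.leaf 34035424))))))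

/-- Part of the table `stepT11`. -/
def stepT11_8 : Tr := (.node (.node (.node (.node (.node (.node (.leaf 0) (.leaf 204205978)) (.node (.leaf 200965237) (.leaf 227043207))) (.node (.node (.leaf 278251591) (.leaf 185224444)) (.leaf 92913973))) (.node (.node (.node (.leaf 215) (.leaf 160849567)) (.leaf 402)) (.node (.node (.leaf 264434967) (.leaf 243074772)) (.leaf 38687106)))) (.node (.node (.node (.node (.leaf 20641284) (.leaf 228129895)) (.node (.leaf 270737047) (.leaf 274647825))) (.node (.node (.leaf 92481826) (.leaf 80295297)) (.leaf 39))) (.node (.node (.node (.leaf 62726314) (.leaf 226791628)) (.leaf 18358852)) (.node (.node (.leaf 11) (.leaf 31163171)) (.leaf 153597828))))) (.node (.node (.node (.node (.node (.leaf 222372497) (.leaf 22483093)) (.node (.leaf 85990146) (.leaf 111372105))) (.node (.node (.leaf 341) (.leaf 278251855)) (.leaf 262574313))) (.node (.node (.node (.leaf 288) (.leaf 281503435)) (.leaf 320864660)) (.node (.node (.leaf 40895830) (.leaf 117156683)) (.leaf 82381039)))) (.node (.node (.node (.node (.leaf 216) (.leaf 70672665)) (.node (.leaf 243066151) (.leaf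 154188165))) (.node (.node (.leaf 53344) (.leaf 85)) (.leaf 29743205))) (.node (.node (.node (.leaf 317) (.leaf 102610162)) (.leaf 327981357)) (.node (.node (.leaf 203909902) (.leaf 137565360)) (.leaf 129109053))))))

/-- The table `stepT11`. -/
def stepT11 : Tr := (.node (.node (.node stepT11_1 stepT11_2) (.node stepT11_3 stepT11_4)) (.node (.node stepT11_5 stepT11_6) (.node stepT11_7 stepT11_8)))

end Cfsg.Agent.GTwoJTwo
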