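import Cfsg.Agent.Lib.J2.Packed

/-!
# Coset multiplication table
-/

set_option autoImplicit false
set_option maxRecDepth 10000

namespace Cfsg.Agent.GTwoJTwo

open Cfsg.Agent.JTwo (Tr)

/-- Part of the table `stepT12`. -/
def stepT12_1 : Tr := (.node (.node (.node (.node (.node (.node (.leaf 8) (.leaf 124174130)) (.node (.leaf 46219816) (.leaf 283178859))) (.node (.node (.leaf 261879437) (.leaf 65204384)) (.leaf 250376967))) (.node (.node (.node (.leaf 217) (.leaf 5857539)) (.leaf 6985536)) (.node (.node (.leaf 258141004) (.leaf 793440)) (.leaf 54832)))) (.node (.node (.node (.node (.leaf 93) (.leaf 119834322)) (.node (.leaf 35676818) (.leaf 182860686))) (.node (.node (.leaf 299231823) (.leaf 54980)) (.leaf 304882498))) (.node (.node (.node (.leaf 79584) (.leaf 120815920)) (.leaf 68028954)) (.node (.node (.leaf 37122423) (.leaf 49004236)) (.leaf 48857321))))) (.node (.node (.node (.node (.node (.leaf 0) (.leaf 46339375)) (.node (.leaf 291840323) (.leaf 65242280))) (.node (.node (.leaf 17904828) (.leaf 323038322)) (.leaf 37139018))) (.node (.node (.node (.leaf 46219904) (.leaf 149136034))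 (.leaf 50100616)) (.node (.node (.leaf 146059368) (.leaf 94)) (.leaf 6107697)))) (.node (.node (.node (.node (.leaf 177) (.leaf 59182324)) (.node (.leaf 127836964) (.leaf 187162527))) (.node (.node (.leaf 11) (.leaf 43444099)) (.leaf 192437070))) (.node (.node (.node (.leaf 18360965) (.leaf 82242313)) (.leaf 266496572)) (.node (.node (.leaf 77505781) (.leaf 7716764)) (.leaf 157073))))))

/-- Part of the table `stepT12`. -/
def stepT12_2 : Tr := (.node (.node (.node (.node (.node (.node (.leaf 52) (.leaf 174109771)) (.node (.leaf 242624267) (.leaf 31945571))) (.node (.node (.leaf 65733419) (.leaf 74700572)) (.leaf 79696))) (.node (.node (.node (.leaf 39457326) (.leaf 184230552)) (.leaf 84503206)) (.node (.node (.leaf 13335252) (.leaf 270737241)) (.leaf 18153706)))) (.node (.node (.node (.node (.leaf 320864276) (.leaf 109079893)) (.node (.leaf 145399321) (.leaf 272497017))) (.node (.node (.leaf 182860383) (.leaf 291820903)) (.leaf 60317284))) (.node (.node (.node (.leaf 4) (.leaf 39242442)) (.leaf 51050845)) (.node (.node (.leaf 37122082) (.leaf 313700687)) (.leaf 113400088))))) (.node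 (.node (.node (.node (.node (.leaf 35676687) (.leaf 49534563)) (.node (.leaf 242624293) (.leaf 320864652))) (.node (.node (.leaf 146339990) (.leaf 184090720)) (.leaf 37361008))) (.node (.node (.node (.leaf 3) (.leaf 53)) (.leaf 320864428)) (.node (.node (.leaf 146059372) (.leaf 329253218)) (.leaf 279)))) (.node (.node (.node (.node (.leaf 201) (.leaf 88269124)) (.node (.leaf 320864412) (.leaf 23306104))) (.node (.node (.leaf 236294282) (.leaf 150870387)) (.leaf 41))) (.node (.node (.node (.leaf 123038392) (.leaf 294660377)) (.leaf 17904712)) (.node (.node (.leaf 238313743) (.leaf 204646730)) (.leaf 9198249))))))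

/-- Part of the table `stepT12`. -/
def stepT12_3 : Tr := (.node (.node (.node (.node (.node (.node (.leaf 31) (.leaf 46930147)) (.node (.leaf 35676809) (.leaf 8560493))) (.node (.node (.leaf 304882239) (.leaf 304882384)) (.leaf 201016701))) (.node (.node (.node (.leaf 37122164) (.leaf 248934661)) (.leaf 262382376)) (.node (.node (.leaf 35676774) (.leaf 329253228)) (.leaf 45524270)))) (.node (.node (.node (.node (.leaf 163) (.leaf 118150929)) (.node (.leaf 35676816) (.leaf 182860691))) (.node (.node (.leaf 225183969) (.leaf 145916769)) (.leaf 246435088))) (.node (.node (.node (.leaf 124446335) (.leaf 146692352)) (.leaf 261173067)) (.node (.node (.leaf 323487048) (.leaf 146059634)) (.leaf 39457563))))) (.node (.node (.node (.node (.node (.leaf 146059274) (.leaf 133522270)) (.node (.leaf 236294236) (.leaf 161969481))) (.node (.node (.leaf 35994824) (.leaf 254148988)) (.leaf 46964532))) (.node (.node (.node (.leaf 48327290) (.leaf 119103157)) (.leaf 122284797)) (.node (.node (.leaf 146059370) (.leaf 143885089)) (.leaf 24970980)))) (.node (.node (.node (.node (.leaf 68029104) (.leaf 85665562))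 (.node (.leaf 358) (.leaf 62443417))) (.node (.node (.leaf 14) (.leaf 13664155)) (.leaf 105238595))) (.node (.node (.node (.leaf 232063783) (.leaf 62)) (.leaf 299438935)) (.node (.node (.leaf 49309738) (.leaf 171845499)) (.leaf 92988454))))))

/-- Part of the table `stepT12`. -/
def stepT12_4 : Tr := (.node (.node (.node (.node (.node (.node (.leaf 70) (.leaf 149257921)) (.node (.leaf 17886513) (.leaf 265104590))) (.node (.node (.leaf 6) (.leaf 46220158)) (.leaf 233333051))) (.node (.node (.node (.leaf 96227066) (.leaf 58424542)) (.leaf 84503204)) (.node (.node (.leaf 35676770) (.leaf 154)) (.leaf 117112093)))) (.node (.node (.node (.node (.leaf 175) (.leaf 321642771)) (.node (.leaf 213630540) (.leaf 200432987))) (.node (.node (.leaf 182860406) (.leaf 280005881)) (.leaf 262504150))) (.node (.node (.node (.leaf 120815670) (.leaf 323917622)) (.leaf 65733358)) (.node (.node (.leaf 182860374) (.leaf 35025803)) (.leaf 173351493))))) (.node (.node (.node (.node (.node (.leaf 90) (.leaf 307926159)) (.node (.leaf 391) (.leaf 182860688))) (.node (.node (.leaf 319418055) (.leaf 182986456)) (.leaf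 134803334))) (.node (.node (.node (.leaf 36019236) (.leaf 25992418)) (.leaf 182860467)) (.node (.node (.leaf 146059374) (.leaf 146059630)) (.leaf 65733302)))) (.node (.node (.node (.node (.leaf 262503966) (.leaf 140313227)) (.node (.leaf 156003205) (.leaf 135042973))) (.node (.node (.leaf 360) (.leaf 122196746)) (.leaf 114308390))) (.node (.node (.node (.leaf 314) (.leaf 47004231)) (.leaf 312845054)) (.node (.node (.leaf 128043095) (.leaf 46220102)) (.leaf 286581950))))))

/-- Part of the table `stepT12`. -/
def stepT12_5 : Tr := (.node (.node (.node (.node (.node (.node (.leaf 21) (.leaf 323751751)) (.node (.leaf 35676749) (.leaf 134132585))) (.node (.node (.leaf 290838133) (.leaf 173277399)) (.leaf 149257990))) (.node (.node (.node (.leaf 194733063) (.leaf 250926442)) (.leaf 399)) (.node (.node (.leaf 39726231) (.leaf 145761106)) (.leaf 194733138)))) (.node (.node (.node (.node (.leaf 157) (.leaf 118150930)) (.node (.leaf 35676803) (.leaf 749816))) (.node (.node (.leaf 270736987) (.leaf 215542391)) (.leaf 151363173))) (.node (.node (.node (.leaf 103950568) (.leaf 18360966)) (.leaf 24))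 (.node (.node (.leaf 149257887) (.leaf 146059633)) (.leaf 316478025))))) (.node (.node (.node (.node (.node (.leaf 85) (.leaf 90693432)) (.node (.leaf 35676802) (.leaf 276525413))) (.node (.node (.leaf 306837233) (.leaf 238671754)) (.leaf 28))) (.node (.node (.node (.leaf 220) (.leaf 124446445)) (.leaf 65422588)) (.node (.node (.leaf 146059369) (.leaf 178693505)) (.leaf 48857328)))) (.node (.node (.node (.node (.leaf 163454612) (.leaf 307309372)) (.node (.leaf 38889251) (.leaf 116742554))) (.node (.node (.leaf 13) (.leaf 270737252)) (.leaf 32))) (.node (.node (.node (.leaf 39242295) (.leaf 123038615)) (.leaf 139017259)) (.node (.node (.leaf 63761247) (.leaf 232629652)) (.leaf 123194710))))))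

/-- Part of the table `stepT12`. -/
def stepT12_6 : Tr := (.node (.node (.node (.node (.node (.node (.leaf 61) (.leaf 248934690)) (.node (.leaf 17886264) (.leaf 209846942))) (.node (.node (.leaf 180826358) (.leaf 291271371)) (.leaf 66310255))) (.node (.node (.node (.leaf 219) (.leaf 222335116)) (.leaf 229822771)) (.node (.node (.leaf 275798225) (.leaf 173138313)) (.leaf 192437069)))) (.node (.node (.node (.node (.leaf 1) (.leaf 182860565)) (.node (.leaf 35676707) (.leaf 77164415))) (.node (.node (.leaf 9) (.leaf 22039828)) (.leaf 262504149))) (.node (.node (.node (.leaf 300) (.leaf 29469471)) (.leaf 140291370)) (.node (.node (.leaf 314426945) (.leaf 146059637)) (.leaf 84055160))))) (.node (.node (.node (.node (.node (.leaf 89) (.leaf 313069779)) (.node (.leaf 253756992) (.leaf 320864653))) (.node (.node (.leaf 35676801) (.leaf 182986469)) (.leaf 131847487))) (.node (.node (.node (.leaf 79607) (.leaf 251968813)) (.leaf 320864429)) (.node (.node (.leaf 170336411) (.leaf 105284482)) (.leaf 142323497)))) (.node (.node (.node (.node (.leaf 207) (.leaf 6050022)) (.node (.leaf 17) (.leaf 264820638)))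 (.node (.node (.leaf 16) (.leaf 64752308)) (.leaf 54835))) (.node (.node (.node (.leaf 5) (.leaf 197621437)) (.leaf 246543677)) (.node (.node (.leaf 39726183) (.leaf 136597698)) (.leaf 211387050))))))

/-- Part of the table `stepT12`. -/
def stepT12_7 : Tr := (.node (.node (.node (.node (.node (.node (.leaf 44) (.leaf 103184160)) (.node (.leaf 35676817) (.leaf 16583000))) (.node (.node (.leaf 60446938) (.leaf 295015048)) (.leaf 27))) (.node (.node (.node (.leaf 35676821) (.leaf 35892889)) (.leaf 18)) (.node (.node (.leaf 46705932) (.leaf 67468164)) (.leaf 10607874)))) (.node (.node (.node (.node (.leaf 167) (.leaf 321642774)) (.node (.leaf 35676907) (.leaf 182860690))) (.node (.node (.leaf 182860371) (.leaf 145399487)) (.leaf 300162829))) (.node (.node (.node (.leaf 79581) (.leaf 242566821)) (.leaf 182860462)) (.node (.node (.leaf 85665395) (.leaf 225319260)) (.leaf 95673063))))) (.node (.node (.node (.node (.node (.leaf 88) (.leaf 222335108)) (.node (.leaf 203866398) (.leaf 30024054))) (.node (.node (.leaf 232040708) (.leaf 276917938)) (.leaf 289278277))) (.node (.node (.node (.leaf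 184385721) (.leaf 65733188)) (.leaf 320864427)) (.node (.node (.leaf 146059371) (.leaf 259263360)) (.leaf 35676819)))) (.node (.node (.node (.node (.leaf 195) (.leaf 36019442)) (.node (.leaf 127152237) (.leaf 13664090))) (.node (.node (.leaf 270736977) (.leaf 226824598)) (.leaf 37))) (.node (.node (.node (.leaf 323917371) (.leaf 249409734)) (.leaf 272351087)) (.node (.node (.leaf 50107643) (.leaf 172100474)) (.leaf 50107515))))))

/-- Part of the table `stepT12`. -/
def stepT12_8 : Tr := (.node (.node (.node (.node (.node (.node (.leaf 225183777) (.leaf 277011648)) (.node (.leaf 46705711) (.leaf 142))) (.node (.node (.leaf 56039742) (.leaf 323728641)) (.leaf 319352398))) (.node (.node (.node (.leaf 255) (.leaf 277000250)) (.leaf 19)) (.node (.node (.leaf 39726205) (.leaf 291820884)) (.leaf 95673075)))) (.node (.node (.node (.node (.leaf 146059447) (.leaf 236)) (.node (.leaf 39726177) (.leaf 266496825))) (.node (.node (.leaf 222622334) (.leaf 292602042)) (.leaf 129415489))) (.node (.node (.node (.leaf 46964281) (.leaf 323917623)) (.leaf 146059287)) (.node (.node (.leaf 217717073) (.leaf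 37122160)) (.leaf 54829))))) (.node (.node (.node (.node (.node (.leaf 35676684) (.leaf 135535740)) (.node (.leaf 310454542) (.leaf 161))) (.node (.node (.leaf 299231824) (.leaf 304727924)) (.leaf 29))) (.node (.node (.node (.leaf 49534599) (.leaf 39181576)) (.leaf 22)) (.node (.node (.leaf 66310341) (.leaf 134030011)) (.leaf 1129695)))) (.node (.node (.node (.node (.leaf 2) (.leaf 65099573)) (.node (.leaf 149257841) (.leaf 187992984))) (.node (.node (.leaf 182860372) (.leaf 106607737)) (.leaf 1129711))) (.node (.node (.node (.leaf 304882242) (.leaf 189117133)) (.leaf 163454803)) (.node (.node (.leaf 142323250) (.leaf 96936853)) (.leaf 39))))))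

/-- The table `stepT12`. -/
def stepT12 : Tr := (.node (.node (.node stepT12_1 stepT12_2) (.node stepT12_3 stepT12_4)) (.node (.node stepT12_5 stepT12_6) (.node stepT12_7 stepT12_8)))

/-- Part of the table `stepT13`. -/
def stepT13_1 : Tr := (.node (.node (.node (.node (.node (.node (.leaf 9) (.leaf 304704568)) (.node (.leaf 37122083) (.leaf 143135595))) (.node (.node (.leaf 223456323) (.leaf 85050502)) (.leaf 252188322))) (.node (.node (.node (.leaf 2) (.leaf 183084291)) (.leaf 37122353)) (.node (.node (.leaf 322536780) (.leaf 128110961)) (.leaf 41)))) (.node (.node (.node (.node (.leaf 103) (.leaf 39147657)) (.node (.leaf 175683613) (.leaf 220609422))) (.node (.node (.leaf 224151585) (.leaf 54979)) (.leaf 7453435))) (.node (.node (.node (.leaf 79580) (.leaf 54)) (.leaf 65294115)) (.node (.node (.leaf 65733322) (.leaf 154)) (.leaf 35676927))))) (.node (.node (.node (.node (.node (.leaf 85) (.leaf 293718823)) (.node (.leaf 38889110) (.leaf 65242279))) (.node (.node (.leaf 117) (.leaf 287614)) (.leaf 297))) (.node (.node (.node (.leaf 149) (.leaf 50107655)) (.leaf 19)) (.node (.node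 (.leaf 132159660) (.leaf 36912329)) (.leaf 20630614)))) (.node (.node (.node (.node (.leaf 181) (.leaf 321642772)) (.node (.leaf 174110035) (.leaf 323917720))) (.node (.node (.leaf 39726231) (.leaf 262504280)) (.leaf 194110047))) (.node (.node (.node (.leaf 301792000) (.leaf 169700129)) (.leaf 135097575)) (.node (.node (.leaf 283680019) (.leaf 241579896)) (.leaf 50107644))))))

/-- Part of the table `stepT13`. -/
def stepT13_2 : Tr := (.node (.node (.node (.node (.node (.node (.leaf 53) (.leaf 139606300)) (.node (.leaf 329252986) (.leaf 255679364))) (.node (.node (.leaf 15417522) (.leaf 7453259)) (.leaf 27))) (.node (.node (.node (.leaf 221) (.leaf 95243967)) (.leaf 18)) (.node (.node (.leaf 14) (.leaf 32566995)) (.leaf 267523329)))) (.node (.node (.node (.node (.leaf 171) (.leaf 321642776)) (.node (.leaf 49074926) (.leaf 167598484))) (.node (.node (.leaf 271861070) (.leaf 324010324)) (.leaf 60317274))) (.node (.node (.node (.leaf 300) (.leaf 169247607)) (.leaf 80993470)) (.node (.node (.leaf 113118525) (.leaf 50781007)) (.leaf 296749909))))) (.node (.node (.node (.node (.node (.leaf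 98) (.leaf 49534553)) (.node (.leaf 311268902) (.leaf 156))) (.node (.node (.leaf 102890307) (.leaf 320958560)) (.leaf 37360998))) (.node (.node (.node (.leaf 79607) (.leaf 52)) (.leaf 220279912)) (.node (.node (.leaf 117104233) (.leaf 146059618)) (.leaf 49534599)))) (.node (.node (.node (.node (.leaf 24421470) (.leaf 191418116)) (.node (.leaf 396) (.leaf 323917724))) (.node (.node (.leaf 39726204) (.leaf 323587420)) (.leaf 54832))) (.node (.node (.node (.leaf 204259059) (.leaf 66)) (.leaf 294876225)) (.node (.node (.leaf 39726172) (.leaf 67385674)) (.leaf 50107640))))))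

/-- Part of the table `stepT13`. -/
def stepT13_3 : Tr := (.node (.node (.node (.node (.node (.node (.leaf 32) (.leaf 16478003)) (.node (.leaf 329081042) (.leaf 329253250))) (.node (.node (.leaf 316) (.leaf 188976251)) (.leaf 149258121))) (.node (.node (.node (.leaf 65733309) (.leaf 174559871)) (.leaf 156667072)) (.node (.node (.leaf 12) (.leaf 146059628)) (.leaf 65733175)))) (.node (.node (.node (.node (.leaf 164) (.leaf 116521657)) (.node (.leaf 13335247) (.leaf 248796563))) (.node (.node (.leaf 270736997) (.leaf 81380951)) (.leaf 327669890))) (.node (.node (.node (.leaf 325473029) (.leaf 7550085)) (.leaf 60687940)) (.node (.node (.leaf 39108934) (.leaf 245597550)) (.leaf 50205809))))) (.node (.node (.node (.node (.node (.leaf 107) (.leaf 267387146)) (.node (.leaf 37014799) (.leaf 162263881))) (.node (.node (.leaf 131847405) (.leaf 15958396)) (.leaf 65733232))) (.node (.node (.node (.leaf 267) (.leaf 119103153)) (.leaf 60688107)) (.node (.node (.leaf 248893717) (.leaf 199280905)) (.leaf 85730119)))) (.node (.node (.node (.node (.leaf 149257881) (.leaf 113856397)) (.node (.leaf 368)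 (.leaf 802714))) (.node (.node (.leaf 13335252) (.leaf 320864602)) (.leaf 12824717))) (.node (.node (.node (.leaf 303) (.leaf 61)) (.leaf 23)) (.node (.node (.leaf 329252996) (.leaf 52923771)) (.leaf 112000293))))))

/-- Part of the table `stepT13`. -/
def stepT13_4 : Tr := (.node (.node (.node (.node (.node (.node (.leaf 71) (.leaf 39108686)) (.node (.leaf 71747904) (.leaf 329253254))) (.node (.node (.leaf 56039742) (.leaf 39108722)) (.leaf 72812951))) (.node (.node (.node (.leaf 292117132) (.leaf 58424539)) (.leaf 84503203)) (.node (.node (.leaf 15) (.leaf 49004236)) (.leaf 42257489)))) (.node (.node (.node (.node (.leaf 1) (.leaf 79605)) (.node (.leaf 35892872) (.leaf 145617595))) (.node (.node (.leaf 49286376) (.leaf 205353302)) (.leaf 290279637))) (.node (.node (.node (.leaf 304) (.leaf 257000507)) (.leaf 25)) (.node (.node (.leaf 207798833) (.leaf 170264975)) (.leaf 110836959))))) (.node (.node (.node (.node (.node (.leaf 100) (.leaf 231986833)) (.node (.leaf 329253006) (.leaf 275586448))) (.node (.node (.leaf 39108870) (.leaf 183817812)) (.leaf 323917518))) (.node (.node (.node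 (.leaf 35841075) (.leaf 57)) (.leaf 275586227)) (.node (.node (.leaf 373) (.leaf 202487666)) (.leaf 49074836)))) (.node (.node (.node (.node (.leaf 194110035) (.leaf 20483695)) (.node (.leaf 17) (.leaf 33176477))) (.node (.node (.leaf 36912156) (.leaf 80545118)) (.leaf 37))) (.node (.node (.node (.leaf 5) (.leaf 47004230)) (.leaf 80993460)) (.node (.node (.leaf 264936289) (.leaf 84296)) (.leaf 172792669))))))

/-- Part of the table `stepT13`. -/
def stepT13_5 : Tr := (.node (.node (.node (.node (.node (.node (.leaf 22) (.leaf 242544356)) (.node (.leaf 306837233) (.leaf 329253249))) (.node (.node (.leaf 300673724) (.leaf 29208791)) (.leaf 283776711))) (.node (.node (.node (.leaf 230745168) (.leaf 250137912)) (.leaf 28481931)) (.node (.node (.leaf 11) (.leaf 259031166)) (.leaf 167059153)))) (.node (.node (.node (.node (.leaf 158) (.leaf 43)) (.node (.leaf 134328078) (.leaf 300797097))) (.node (.node (.leaf 21240038) (.leaf 98430583)) (.leaf 179337441))) (.node (.node (.node (.leaf 179496054) (.leaf 37122208)) (.leaf 140291370)) (.node (.node (.leaf 49111794) (.leaf 254949216)) (.leaf 316478081)))))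 (.node (.node (.node (.node (.node (.leaf 0) (.leaf 278657898)) (.node (.leaf 37014800) (.leaf 149257922))) (.node (.node (.leaf 35676749) (.leaf 149755786)) (.leaf 24421736))) (.node (.node (.node (.leaf 224) (.leaf 200)) (.leaf 300797329)) (.node (.node (.leaf 19783788) (.leaf 118489449)) (.leaf 39726119)))) (.node (.node (.node (.node (.leaf 182) (.leaf 300796991)) (.node (.leaf 149257754) (.leaf 325933465))) (.node (.node (.leaf 46705932) (.leaf 200893709)) (.leaf 31))) (.node (.node (.node (.leaf 302) (.leaf 270737211)) (.leaf 3963666)) (.node (.node (.leaf 329252985) (.leaf 137727865)) (.leaf 145648377))))))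

/-- Part of the table `stepT13`. -/
def stepT13_6 : Tr := (.node (.node (.node (.node (.node (.node (.leaf 62) (.leaf 324266546)) (.node (.leaf 58332978) (.leaf 209846941))) (.node (.node (.leaf 24773359) (.leaf 223456575)) (.leaf 166373003))) (.node (.node (.node (.leaf 222) (.leaf 103503610)) (.leaf 149257955)) (.node (.node (.leaf 270736978) (.leaf 221855101)) (.leaf 252363061)))) (.node (.node (.node (.node (.leaf 175) (.leaf 216684650)) (.node (.leaf 40) (.leaf 155807615))) (.node (.node (.leaf 8) (.leaf 289864436)) (.leaf 290279638))) (.node (.node (.node (.leaf 4) (.leaf 195479781)) (.leaf 24)) (.node (.node (.leaf 72) (.leaf 110)) (.leaf 55062))))) (.node (.node (.node (.node (.node (.leaf 99) (.leaf 192638297)) (.node (.leaf 50172122) (.leaf 109571354))) (.node (.node (.leaf 35676745) (.leaf 292468511)) (.leaf 323038411))) (.node (.node (.node (.leaf 3) (.leaf 31026487)) (.leaf 18896499)) (.node (.node (.leaf 232132251) (.leaf 329253229)) (.leaf 189117002)))) (.node (.node (.node (.node (.leaf 142348944) (.leaf 24306779)) (.node (.leaf 156003205) (.leaf 25912734))) (.node (.node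 (.leaf 39726205) (.leaf 268920574)) (.leaf 36))) (.node (.node (.node (.leaf 314) (.leaf 5102196)) (.leaf 65733154)) (.node (.node (.leaf 39726173) (.leaf 218397029)) (.leaf 29605011))))))

/-- Part of the table `stepT13`. -/
def stepT13_7 : Tr := (.node (.node (.node (.node (.node (.node (.leaf 45) (.leaf 157874464)) (.node (.leaf 48857231) (.leaf 145648515))) (.node (.node (.leaf 223456320) (.leaf 20839500)) (.leaf 79696))) (.node (.node (.node (.leaf 37122176) (.leaf 17418416)) (.leaf 84503206)) (.node (.node (.leaf 13) (.leaf 329253219)) (.leaf 149257893)))) (.node (.node (.node (.node (.leaf 168) (.leaf 266382456)) (.node (.leaf 103889149) (.leaf 153016722))) (.node (.node (.leaf 263468574) (.leaf 232040600)) (.leaf 1241444))) (.node (.node (.node (.leaf 35841070) (.leaf 53022978)) (.leaf 220609198)) (.node (.node (.leaf 24049837) (.leaf 321125235)) (.leaf 206383676))))) (.node (.node (.node (.node (.node (.leaf 97) (.leaf 42)) (.node (.leaf 155969221) (.leaf 115117217))) (.node (.node (.leaf 115670852) (.leaf 282080043)) (.leaf 323486925))) (.node (.node (.node (.leaf 273) (.leaf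 230486859)) (.leaf 20)) (.node (.node (.leaf 10) (.leaf 122576768)) (.leaf 15417514)))) (.node (.node (.node (.node (.leaf 196) (.leaf 65733279)) (.node (.leaf 267126893) (.leaf 802715))) (.node (.node (.leaf 37681437) (.leaf 270737263)) (.leaf 114308390))) (.node (.node (.node (.leaf 257000758) (.leaf 270737209)) (.leaf 256470934)) (.node (.node (.leaf 192299842) (.leaf 113017722)) (.leaf 115670736))))))

/-- Part of the table `stepT13`. -/
def stepT13_8 : Tr := (.node (.node (.node (.node (.node (.node (.leaf 79) (.leaf 50107688)) (.node (.leaf 46705900) (.leaf 329253255))) (.node (.node (.leaf 6) (.leaf 79386346)) (.leaf 281661633))) (.node (.node (.node (.leaf 39726313) (.leaf 308088072)) (.leaf 50100616)) (.node (.node (.leaf 16) (.leaf 324010343)) (.leaf 148789432)))) (.node (.node (.node (.node (.leaf 186) (.leaf 47)) (.node (.leaf 39726168) (.leaf 72138438))) (.node (.node (.leaf 69088082) (.leaf 79741111)) (.leaf 22931265))) (.node (.node (.node (.leaf 65733346) (.leaf 24514861)) (.leaf 87224151)) (.node (.node (.leaf 98465105) (.leaf 200478004)) (.leaf 54828))))) (.node (.node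 (.node (.node (.node (.leaf 102) (.leaf 39147658)) (.node (.leaf 48857219) (.leaf 285065590))) (.node (.node (.leaf 7) (.leaf 38486900)) (.leaf 60317330))) (.node (.node (.node (.leaf 279) (.leaf 58)) (.leaf 21)) (.node (.node (.leaf 29830942) (.leaf 270737243)) (.leaf 46840901)))) (.node (.node (.node (.node (.leaf 217) (.leaf 291063629)) (.node (.leaf 65733403) (.leaf 232871839))) (.node (.node (.leaf 263468760) (.leaf 182860639)) (.leaf 110836982))) (.node (.node (.node (.leaf 300797209) (.leaf 223456581)) (.leaf 84445988)) (.node (.node (.leaf 188806434) (.leaf 169653141)) (.leaf 35676912))))))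

/-- The table `stepT13`. -/
def stepT13 : Tr := (.node (.node (.node stepT13_1 stepT13_2) (.node stepT13_3 stepT13_4)) (.node (.node stepT13_5 stepT13_6) (.node stepT13_7 stepT13_8)))

/-- Part of the table `stepT14`. -/
def stepT14_1 : Tr := (.node (.node (.node (.node (.node (.node (.leaf 49459715) (.leaf 200097395)) (.node (.leaf 224090234) (.leaf 96066334))) (.node (.node (.leaf 321) (.leaf 329749661)) (.leaf 272756625))) (.node (.node (.node (.leaf 29674505) (.leaf 113069643)) (.leaf 66195480)) (.node (.node (.leaf 419423) (.leaf 149208)) (.leaf 29674599)))) (.node (.node (.node (.node (.leaf 49459763) (.leaf 274528085)) (.node (.leaf 37660199) (.leaf 97898899))) (.node (.node (.leaf 232835207) (.leaf 253757276)) (.leaf 7594019))) (.node (.node (.node (.leaf 318632974) (.leaf 37122359)) (.leaf 21)) (.node (.node (.leaf 376) (.leaf 256151415)) (.leaf 21949273))))) (.node (.node (.node (.node (.node (.leaf 86) (.leaf 264135564)) (.node (.leaf 190643831) (.leaf 50487983))) (.node (.node (.leaf 193060127) (.leaf 276258682)) (.leaf 116830997))) (.node (.node (.node (.leaf 84055131) (.leaf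 55134833)) (.leaf 85525662)) (.node (.node (.leaf 117002856) (.leaf 72459167)) (.leaf 32687334)))) (.node (.node (.node (.node (.leaf 28635296) (.leaf 118800981)) (.node (.leaf 49460010) (.leaf 233256857))) (.node (.node (.leaf 77505570) (.leaf 295107996)) (.leaf 149344))) (.node (.node (.node (.leaf 127560487) (.leaf 40629411)) (.leaf 292929641)) (.node (.node (.leaf 11) (.leaf 112)) (.leaf 50136302))))))

/-- Part of the table `stepT14`. -/
def stepT14_2 : Tr := (.node (.node (.node (.node (.node (.node (.leaf 54) (.leaf 67841922)) (.node (.leaf 134750455) (.leaf 321790779))) (.node (.node (.leaf 192853572) (.leaf 266467189)) (.leaf 85789035))) (.node (.node (.node (.leaf 269174402) (.leaf 104720689)) (.leaf 167219534)) (.node (.node (.leaf 135067692) (.leaf 318153405)) (.leaf 33616797)))) (.node (.node (.node (.node (.leaf 49459868) (.leaf 22739538)) (.node (.leaf 174161585) (.leaf 239862106))) (.node (.node (.leaf 350) (.leaf 327299313)) (.leaf 110836986))) (.node (.node (.node (.leaf 301) (.leaf 49519258)) (.leaf 22)) (.node (.node (.leaf 204155025) (.leaf 24261894)) (.leaf 159030594)))))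 (.node (.node (.node (.node (.node (.leaf 188653094) (.leaf 306776284)) (.node (.leaf 225675343) (.leaf 186063112))) (.node (.node (.leaf 270925438) (.leaf 15250282)) (.leaf 411))) (.node (.node (.node (.leaf 225493092) (.leaf 318567724)) (.leaf 290951223)) (.node (.node (.leaf 149616905) (.leaf 25005766)) (.leaf 225493143)))) (.node (.node (.node (.node (.leaf 42496540) (.leaf 172885219)) (.node (.leaf 22739476) (.leaf 296185688))) (.node (.node (.leaf 323053346) (.leaf 261879632)) (.leaf 312345356))) (.node (.node (.node (.leaf 117002770) (.leaf 105212675)) (.leaf 67247318)) (.node (.node (.leaf 165429791) (.leaf 15325565)) (.leaf 52487847))))))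

/-- Part of the table `stepT14`. -/
def stepT14_3 : Tr := (.node (.node (.node (.node (.node (.node (.leaf 33) (.leaf 92988634)) (.node (.leaf 188653092) (.leaf 112559364))) (.node (.node (.leaf 266466923) (.leaf 182471412)) (.leaf 6070117))) (.node (.node (.node (.leaf 84055128) (.leaf 328070236)) (.leaf 299098137)) (.node (.node (.leaf 310494975) (.leaf 77505767)) (.leaf 77979438)))) (.node (.node (.node (.node (.leaf 117002812) (.leaf 282370179)) (.node (.leaf 310494937) (.leaf 35300679))) (.node (.node (.leaf 49459988) (.leaf 74)) (.leaf 271489341))) (.node (.node (.node (.leaf 22739471) (.leaf 159297707)) (.leaf 49536691)) (.node (.node (.leaf 13071617) (.leaf 215500399)) (.leaf 101011287))))) (.node (.node (.node (.node (.node (.leaf 14933509) (.leaf 82381043)) (.node (.leaf 238162726) (.leaf 312878985))) (.node (.node (.leaf 338) (.leaf 192853834)) (.leaf 199689593))) (.node (.node (.node (.leaf 149580985) (.leaf 22739608)) (.leaf 72435899)) (.node (.node (.leaf 38850075) (.leaf 114330444)) (.leaf 235958142)))) (.node (.node (.node (.node (.leaf 272756383) (.leaf 2216751)) (.node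 (.leaf 47070004) (.leaf 201))) (.node (.node (.leaf 243074805) (.leaf 234019732)) (.leaf 96227074))) (.node (.node (.node (.leaf 247006341) (.leaf 43628909)) (.leaf 66861749)) (.node (.node (.leaf 220567680) (.leaf 284411208)) (.leaf 110836948))))))

/-- Part of the table `stepT14`. -/
def stepT14_4 : Tr := (.node (.node (.node (.node (.node (.node (.leaf 159881246) (.leaf 26570100)) (.node (.leaf 159153014) (.leaf 283328325))) (.node (.node (.leaf 333) (.leaf 183031182)) (.leaf 33665900))) (.node (.node (.node (.leaf 269174284) (.leaf 253018762)) (.leaf 117003065)) (.node (.node (.leaf 37660309) (.leaf 121157507)) (.leaf 32687336)))) (.node (.node (.node (.node (.leaf 180) (.leaf 103183)) (.node (.leaf 1479534) (.leaf 55980214))) (.node (.node (.leaf 8) (.leaf 286825101)) (.leaf 115595964))) (.node (.node (.node (.leaf 4) (.leaf 38898486)) (.leaf 55980438)) (.node (.node (.leaf 209074831) (.leaf 156808838)) (.leaf 142388833))))) (.node (.node (.node (.node (.node (.leaf 310627888) (.leaf 266836095)) (.node (.leaf 22819979) (.leaf 265345862))) (.node (.node (.leaf 327299285) (.leaf 278115492))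 (.leaf 42496718))) (.node (.node (.node (.leaf 285) (.leaf 74947298)) (.leaf 212240767)) (.node (.node (.leaf 14933571) (.leaf 56330902)) (.leaf 5014264)))) (.node (.node (.node (.node (.leaf 192140806) (.leaf 93019520)) (.node (.leaf 97898664) (.leaf 200097659))) (.node (.node (.leaf 433758) (.leaf 84)) (.leaf 110767885))) (.node (.node (.node (.leaf 105212631) (.leaf 315315039)) (.leaf 258649279)) (.node (.node (.leaf 284176972) (.leaf 124051690)) (.leaf 24530174))))))

/-- Part of the table `stepT14`. -/
def stepT14_5 : Tr := (.node (.node (.node (.node (.node (.node (.leaf 49459729) (.leaf 117510258)) (.node (.leaf 209200869) (.leaf 586559))) (.node (.node (.leaf 144437357) (.leaf 64)) (.leaf 68754791))) (.node (.node (.node (.leaf 2) (.leaf 165277027)) (.leaf 135751849)) (.node (.node (.leaf 201657590) (.leaf 38850243)) (.leaf 41)))) (.node (.node (.node (.node (.leaf 22739457) (.leaf 266382461)) (.node (.leaf 248871028) (.leaf 203252416))) (.node (.node (.leaf 49459987) (.leaf 193262377)) (.leaf 62598405))) (.node (.node (.node (.leaf 253018637) (.leaf 16820004)) (.leaf 122508948))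 (.node (.node (.leaf 117293352) (.leaf 195743127)) (.leaf 321557844))))) (.node (.node (.node (.node (.node (.leaf 37660192) (.leaf 153697900)) (.node (.leaf 238162725) (.leaf 312878986))) (.node (.node (.leaf 173384859) (.leaf 192853833)) (.leaf 410))) (.node (.node (.node (.leaf 225) (.leaf 153391953)) (.leaf 238253217)) (.node (.node (.leaf 292929720) (.leaf 434025)) (.leaf 142388835)))) (.node (.node (.node (.node (.leaf 318215330) (.leaf 184641273)) (.node (.leaf 395) (.leaf 253527960))) (.node (.node (.leaf 243444271) (.leaf 64062704)) (.leaf 286776466))) (.node (.node (.node (.leaf 217925179) (.leaf 117002918)) (.leaf 149044266)) (.node (.node (.leaf 50780789) (.leaf 148997322)) (.leaf 170008345))))))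

/-- Part of the table `stepT14`. -/
def stepT14_6 : Tr := (.node (.node (.node (.node (.node (.node (.leaf 22819850) (.leaf 6039761)) (.node (.leaf 145160762) (.leaf 283748187))) (.node (.node (.leaf 159881245) (.leaf 133911430)) (.leaf 12026455))) (.node (.node (.node (.leaf 34220125) (.leaf 253018761)) (.leaf 228449341)) (.node (.node (.leaf 37660383) (.leaf 23357122)) (.leaf 148234369)))) (.node (.node (.node (.node (.leaf 176) (.leaf 41626312)) (.node (.leaf 29674598) (.leaf 267264299))) (.node (.node (.leaf 129480984) (.leaf 251781904)) (.leaf 321557582))) (.node (.node (.node (.leaf 300787765) (.leaf 235566279)) (.leaf 66861754)) (.node (.node (.leaf 38486649) (.leaf 203677508)) (.leaf 178576986))))) (.node (.node (.node (.node (.node (.leaf 238162481) (.leaf 18714846)) (.node (.leaf 317892950) (.leaf 22739629))) (.node (.node (.leaf 67347027) (.leaf 70)) (.leaf 43634891))) (.node (.node (.node (.leaf 191036627) (.leaf 52)) (.leaf 49460109)) (.node (.node (.leaf 144437313) (.leaf 56825146)) (.leaf 95499143)))) (.node (.node (.node (.node (.leaf 192140869) (.leaf 46)) (.node (.leaf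 322223936) (.leaf 48345316))) (.node (.node (.leaf 46446629) (.leaf 81396487)) (.leaf 157901007))) (.node (.node (.node (.leaf 268804261) (.leaf 200414930)) (.leaf 300778340)) (.node (.node (.leaf 283680017) (.leaf 117495676)) (.leaf 1453395))))))

/-- Part of the table `stepT14`. -/
def stepT14_7 : Tr := (.node (.node (.node (.node (.node (.node (.leaf 22739456) (.leaf 39726908)) (.node (.leaf 219568914) (.leaf 171244390))) (.node (.node (.leaf 22819950) (.leaf 82992499)) (.leaf 37232481))) (.node (.node (.node (.leaf 47278800) (.leaf 51622035)) (.leaf 43413816)) (.node (.node (.leaf 201657577) (.leaf 243444513)) (.leaf 258669340)))) (.node (.node (.node (.node (.leaf 22819863) (.leaf 22739537)) (.node (.leaf 103529763) (.leaf 85525904))) (.node (.node (.leaf 24149581) (.leaf 39036157)) (.leaf 261731885))) (.node (.node (.node (.leaf 22739472) (.leaf 157816895)) (.leaf 2933426)) (.node (.node (.leaf 218381568) (.leaf 75164483)) (.leaf 82381066))))) (.node (.node (.node (.node (.node (.leaf 120) (.leaf 18714863)) (.node (.leaf 14933646) (.leaf 153))) (.node (.node (.leaf 22685472) (.leaf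 192853835)) (.leaf 43634893))) (.node (.node (.node (.leaf 22739463) (.leaf 194037141)) (.leaf 229753650)) (.node (.node (.leaf 203677250) (.leaf 73738948)) (.leaf 63528219)))) (.node (.node (.node (.node (.leaf 37232234) (.leaf 18796267)) (.node (.leaf 262046281) (.leaf 204))) (.node (.node (.leaf 77505576) (.leaf 218157445)) (.leaf 133710459))) (.node (.node (.node (.leaf 185828409) (.leaf 322218372)) (.leaf 77681322)) (.node (.node (.leaf 165429979) (.leaf 218381726)) (.leaf 39169303))))))

/-- Part of the table `stepT14`. -/
def stepT14_8 : Tr := (.node (.node (.node (.node (.node (.node (.leaf 49459755) (.leaf 73652573)) (.node (.leaf 271890512) (.leaf 78860013))) (.node (.node (.leaf 335) (.leaf 105350546)) (.leaf 187573045))) (.node (.node (.node (.leaf 29674640) (.leaf 151651384)) (.leaf 25843452)) (.node (.node (.leaf 37660384) (.leaf 80000193)) (.leaf 84055394)))) (.node (.node (.node (.node (.leaf 14933523) (.leaf 18679035)) (.node (.leaf 135067884) (.leaf 234781553))) (.node (.node (.leaf 56238789) (.leaf 100337394)) (.leaf 39726654))) (.node (.node (.node (.leaf 287509676)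 (.leaf 37122352)) (.leaf 117002935)) (.node (.node (.leaf 256719496) (.leaf 230510960)) (.leaf 153133700))))) (.node (.node (.node (.node (.node (.leaf 49459762) (.leaf 43286)) (.node (.leaf 209074806) (.leaf 4784015))) (.node (.node (.leaf 193810060) (.leaf 71)) (.leaf 246535389))) (.node (.node (.node (.leaf 165276761) (.leaf 115782938)) (.leaf 13411720)) (.node (.node (.leaf 127170930) (.leaf 166875503)) (.leaf 110767883)))) (.node (.node (.node (.node (.leaf 133710460) (.leaf 228706888)) (.node (.leaf 203252250) (.leaf 83587432))) (.node (.node (.leaf 419424) (.leaf 294228798)) (.leaf 29674597))) (.node (.node (.node (.leaf 142704947) (.leaf 634241)) (.leaf 160524478)) (.node (.node (.leaf 142361358) (.leaf 137565358)) (.leaf 286776418))))))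

/-- The table `stepT14`. -/
def stepT14 : Tr := (.node (.node (.node stepT14_1 stepT14_2) (.node stepT14_3 stepT14_4)) (.node (.node stepT14_5 stepT14_6) (.node stepT14_7 stepT14_8)))

/-- Part of the table `stepT15`. -/
def stepT15_1 : Tr := (.node (.node (.node (.node (.node (.node (.leaf 10) (.leaf 133876530)) (.node (.leaf 88663324) (.leaf 96066333))) (.node (.node (.leaf 65879797) (.leaf 117222184)) (.leaf 268493718))) (.node (.node (.node (.leaf 30283359) (.leaf 93019267)) (.leaf 266127039)) (.node (.node (.leaf 9) (.leaf 62015631)) (.leaf 30283626)))) (.node (.node (.node (.node (.leaf 110) (.leaf 116695410)) (.node (.leaf 121689815) (.leaf 166766770))) (.node (.node (.leaf 80295031) (.leaf 238475481)) (.leaf 196840327))) (.node (.node (.node (.leaf 219796107) (.leaf 65460962)) (.leaf 44893361)) (.node (.node (.leaf 377) (.leaf 254362497)) (.leaf 2946382))))) (.node (.node (.node (.node (.node (.leaf 87) (.leaf 225966874)) (.node (.leaf 9071239) (.leaf 307258715))) (.node (.node (.leaf 165267500) (.leaf 304262982)) (.leaf 50011926))) (.node (.node (.node (.leaf 192271437) (.leaf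 54901568)) (.leaf 18502166)) (.node (.node (.leaf 108728936) (.leaf 172874074)) (.leaf 250195716)))) (.node (.node (.node (.node (.leaf 190) (.leaf 174949694)) (.node (.leaf 374) (.leaf 174777035))) (.node (.node (.leaf 354) (.leaf 294981833)) (.leaf 322615414))) (.node (.node (.node (.leaf 176346284) (.leaf 85165331)) (.leaf 292985413)) (.node (.node (.leaf 50780789) (.leaf 148997322)) (.leaf 171716957))))))

/-- Part of the table `stepT15`. -/
def stepT15_2 : Tr := (.node (.node (.node (.node (.node (.node (.leaf 16700948) (.leaf 130837224)) (.node (.leaf 82701700) (.leaf 82701444))) (.node (.node (.leaf 85117508) (.leaf 65295596)) (.leaf 149436461))) (.node (.node (.node (.leaf 243) (.leaf 66342581)) (.leaf 158994265)) (.node (.node (.leaf 125993247) (.leaf 111420118)) (.leaf 137932178)))) (.node (.node (.node (.node (.leaf 20641284) (.leaf 85165369)) (.node (.leaf 123626005) (.leaf 259855263))) (.node (.node (.leaf 92481826) (.leaf 37776994)) (.leaf 320866673))) (.node (.node (.node (.leaf 156476077) (.leaf 33078597)) (.leaf 50164894)) (.node (.node (.leaf 222213443) (.leaf 48857225))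 (.leaf 179484476))))) (.node (.node (.node (.node (.node (.leaf 82701438) (.leaf 148310693)) (.node (.leaf 56417421) (.leaf 163190575))) (.node (.node (.leaf 134725158) (.leaf 15534695)) (.leaf 48392550))) (.node (.node (.node (.leaf 259079752) (.leaf 256003372)) (.leaf 135301176)) (.node (.node (.leaf 80295035) (.leaf 80295014)) (.leaf 54406468)))) (.node (.node (.node (.node (.leaf 49380892) (.leaf 76774016)) (.node (.leaf 8041014) (.leaf 942490))) (.node (.node (.leaf 296621406) (.leaf 23522450)) (.leaf 105238589))) (.node (.node (.node (.leaf 85165099) (.leaf 141772020)) (.leaf 66105021)) (.node (.node (.leaf 37486850) (.leaf 114)) (.leaf 5857021))))))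

/-- Part of the table `stepT15`. -/
def stepT15_3 : Tr := (.node (.node (.node (.node (.node (.node (.leaf 192271366) (.leaf 29697148)) (.node (.leaf 64062730) (.leaf 66991846))) (.node (.node (.leaf 85165106) (.leaf 149739779)) (.leaf 299191982))) (.node (.node (.node (.leaf 231) (.leaf 73774676)) (.leaf 242312873)) (.node (.node (.leaf 9337684) (.leaf 88)) (.leaf 67012912)))) (.node (.node (.node (.node (.leaf 16700935) (.leaf 233364043)) (.node (.leaf 101924188) (.leaf 262421220))) (.node (.node (.leaf 20641446) (.leaf 26314849)) (.leaf 82181939))) (.node (.node (.node (.leaf 85165122) (.leaf 228878592)) (.leaf 166766992)) (.node (.node (.leaf 380) (.leaf 49431312)) (.leaf 113621283))))) (.node (.node (.node (.node (.node (.leaf 0) (.leaf 21949058)) (.node (.leaf 289972379) (.leaf 271778686))) (.node (.node (.leaf 134725366) (.leaf 85117770)) (.leaf 199689592))) (.node (.node (.node (.leaf 116695146) (.leaf 207824006)) (.leaf 88878751)) (.node (.node (.leaf 49431082) (.leaf 14826720)) (.leaf 123063177)))) (.node (.node (.node (.node (.leaf 187) (.leaf 184231176)) (.node (.leaf 238244230)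 (.leaf 581532))) (.node (.node (.leaf 253485889) (.leaf 244804968)) (.leaf 31))) (.node (.node (.node (.leaf 17464889) (.leaf 286773983)) (.leaf 200476465)) (.node (.node (.leaf 143305443) (.leaf 329031566)) (.leaf 100393367))))))

/-- Part of the table `stepT15`. -/
def stepT15_4 : Tr := (.node (.node (.node (.node (.node (.node (.leaf 134725122) (.leaf 137116453)) (.node (.leaf 231820074) (.leaf 255202458))) (.node (.node (.leaf 163732759) (.leaf 304262984)) (.leaf 256347285))) (.node (.node (.node (.leaf 192271436) (.leaf 248734793)) (.leaf 16701010)) (.node (.node (.leaf 80295276) (.leaf 46996684)) (.leaf 38687106)))) (.node (.node (.node (.node (.leaf 29988520) (.leaf 116720840)) (.node (.leaf 323067113) (.leaf 265423040))) (.node (.node (.leaf 56238789) (.leaf 79)) (.leaf 51627364))) (.node (.node (.node (.leaf 42171548) (.leaf 42496822)) (.leaf 157910929)) (.node (.node (.leaf 329031384) (.leaf 152)) (.leaf 192271434))))) (.node (.node (.node (.node (.node (.leaf 142) (.leaf 136706869)) (.node (.leaf 14) (.leaf 322615674))) (.node (.node (.leaf 134725161) (.leaf 63487216)) (.leaf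 49381070))) (.node (.node (.node (.leaf 286) (.leaf 57031991)) (.leaf 305264322)) (.node (.node (.leaf 16) (.leaf 99)) (.leaf 18731271)))) (.node (.node (.node (.node (.leaf 16649249) (.leaf 46)) (.node (.leaf 110793396) (.leaf 125226901))) (.node (.node (.leaf 53342) (.leaf 296621148)) (.leaf 61269785))) (.node (.node (.node (.leaf 129391143) (.leaf 135849752)) (.leaf 24)) (.node (.node (.leaf 82701324) (.leaf 243641226)) (.leaf 22142206))))))

/-- Part of the table `stepT15`. -/
def stepT15_5 : Tr := (.node (.node (.node (.node (.node (.node (.leaf 23) (.leaf 134737277)) (.node (.leaf 311210717) (.leaf 261481840))) (.node (.node (.leaf 148154929) (.leaf 137378394)) (.leaf 215097105))) (.node (.node (.node (.leaf 16649246) (.leaf 47)) (.leaf 156446745)) (.node (.node (.leaf 115785554) (.leaf 313804893)) (.leaf 82381013)))) (.node (.node (.node (.node (.leaf 85165075) (.leaf 152761025)) (.node (.leaf 48395635) (.leaf 245077686))) (.node (.node (.leaf 294981795) (.leaf 134725329)) (.leaf 192271697))) (.node (.node (.node (.leaf 273452609) (.leaf 239307962)) (.leaf 11198128)) (.node (.node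 (.leaf 329031325) (.leaf 325097172)) (.leaf 75973375))))) (.node (.node (.node (.node (.node (.leaf 96) (.leaf 52344027)) (.node (.leaf 48857460) (.leaf 215612138))) (.node (.node (.leaf 238778662) (.leaf 85117769)) (.leaf 306527576))) (.node (.node (.node (.leaf 192271438) (.leaf 263053573)) (.leaf 204905122)) (.node (.node (.leaf 182757405) (.leaf 53609)) (.leaf 321204886)))) (.node (.node (.node (.node (.leaf 279030945) (.leaf 18000606)) (.node (.leaf 103596267) (.leaf 220396749))) (.node (.node (.leaf 355) (.leaf 186519716)) (.leaf 180422480))) (.node (.node (.node (.leaf 110282810) (.leaf 85165332)) (.leaf 182730779)) (.node (.node (.leaf 11) (.leaf 112)) (.leaf 22912269))))))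

/-- Part of the table `stepT15`. -/
def stepT15_6 : Tr := (.node (.node (.node (.node (.node (.node (.leaf 85165059) (.leaf 235654441)) (.node (.leaf 56378427) (.leaf 94763183))) (.node (.node (.leaf 292721336) (.leaf 108562740)) (.leaf 12026454))) (.node (.node (.node (.leaf 10778307) (.leaf 129049862)) (.leaf 135695116)) (.node (.node (.leaf 365) (.leaf 30671231)) (.leaf 329349327)))) (.node (.node (.node (.node (.leaf 149655700) (.leaf 51656463)) (.node (.leaf 222703302) (.leaf 238106526))) (.node (.node (.leaf 299232095) (.leaf 115601007)) (.leaf 82381025))) (.node (.node (.node (.leaf 166766645) (.leaf 233374990)) (.leaf 16944420)) (.node (.node (.leaf 38486648) (.leaf 329253015)) (.leaf 109790272))))) (.node (.node (.node (.node (.node (.leaf 236294253) (.leaf 16006393)) (.node (.leaf 59215500) (.leaf 10505005))) (.node (.node (.leaf 134725160) (.leaf 238388475)) (.leaf 267291545))) (.node (.node (.node (.leaf 129575108) (.leaf 42677133)) (.leaf 178768948)) (.node (.node (.leaf 236294157) (.leaf 101)) (.leaf 7963683)))) (.node (.node (.node (.node (.leaf 192751721) (.leaf 93019520))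 (.node (.leaf 322615409) (.leaf 66580807))) (.node (.node (.leaf 313805153) (.leaf 208968440)) (.leaf 300311681))) (.node (.node (.node (.leaf 60446940) (.leaf 312516671)) (.leaf 67132092)) (.node (.node (.leaf 225195879) (.leaf 224045825)) (.leaf 114214652))))))

/-- Part of the table `stepT15`. -/
def stepT15_7 : Tr := (.node (.node (.node (.node (.node (.node (.leaf 85165061) (.leaf 213754178)) (.node (.leaf 96066336) (.leaf 203806107))) (.node (.node (.leaf 85165107) (.leaf 232981620)) (.leaf 14195237))) (.node (.node (.node (.leaf 30508269) (.leaf 104533234)) (.leaf 306527313)) (.node (.node (.leaf 366) (.leaf 89)) (.leaf 233948794)))) (.node (.node (.node (.node (.leaf 85165073) (.leaf 85165368)) (.node (.leaf 60286295) (.leaf 18502323))) (.node (.node (.leaf 94180443) (.leaf 91618983)) (.leaf 76372331))) (.node (.node (.node (.leaf 85165123) (.leaf 100877522)) (.leaf 29988755)) (.node (.node (.leaf 41148587) (.leaf 117838993)) (.leaf 36))))) (.node (.node (.node (.node (.node (.leaf 121) (.leaf 105176911)) (.node (.leaf 282686000) (.leaf 21134619))) (.node (.node (.leaf 270344466)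 (.leaf 85117771)) (.leaf 211240856))) (.node (.node (.node (.leaf 85165116) (.leaf 262332283)) (.leaf 107298419)) (.node (.node (.leaf 329252879) (.leaf 85230291)) (.leaf 11809433)))) (.node (.node (.node (.node (.leaf 159657657) (.leaf 103596939)) (.node (.leaf 289972362) (.leaf 199069571))) (.node (.node (.leaf 94180435) (.leaf 316817800)) (.leaf 103453449))) (.node (.node (.node (.leaf 58313861) (.leaf 201952503)) (.leaf 26)) (.node (.node (.leaf 80295020) (.leaf 268193067)) (.leaf 171889485))))))

/-- Part of the table `stepT15`. -/
def stepT15_8 : Tr := (.node (.node (.node (.node (.node (.node (.leaf 20641298) (.leaf 46658798)) (.node (.leaf 4479112) (.leaf 218187984))) (.node (.node (.leaf 129328367) (.leaf 101780381)) (.leaf 274956415))) (.node (.node (.node (.leaf 183005758) (.leaf 282101815)) (.leaf 86527315)) (.node (.node (.leaf 61496652) (.leaf 275079293)) (.leaf 34)))) (.node (.node (.node (.node (.leaf 1) (.leaf 138287686)) (.node (.leaf 329253237) (.leaf 90464506))) (.node (.node (.leaf 8) (.leaf 104916627)) (.leaf 243431056))) (.node (.node (.node (.leaf 146061095) (.leaf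 106863406)) (.leaf 108729015)) (.node (.node (.leaf 80294992) (.leaf 25359679)) (.leaf 177465659))))) (.node (.node (.node (.node (.node (.leaf 329252971) (.leaf 22260501)) (.node (.leaf 31801696) (.leaf 17013135))) (.node (.node (.leaf 342) (.leaf 65523979)) (.leaf 329897189))) (.node (.node (.node (.leaf 289) (.leaf 132891532)) (.leaf 83586437)) (.node (.node (.leaf 40895829) (.leaf 92073327)) (.leaf 267227207)))) (.node (.node (.node (.node (.leaf 218) (.leaf 249463908)) (.node (.leaf 85498538) (.leaf 268461972))) (.node (.node (.leaf 14826528) (.leaf 299231829)) (.leaf 296600890))) (.node (.node (.node (.leaf 312516925) (.leaf 38465399)) (.leaf 273579168)) (.node (.node (.leaf 137827015) (.leaf 60976997)) (.leaf 101095153))))))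

/-- The table `stepT15`. -/
def stepT15 : Tr := (.node (.node (.node stepT15_1 stepT15_2) (.node stepT15_3 stepT15_4)) (.node (.node stepT15_5 stepT15_6) (.node stepT15_7 stepT15_8)))

/-- Part of the table `stepT16`. -/
def stepT16_1 : Tr := (.node (.node (.node (.node (.node (.node (.leaf 11) (.leaf 308088072)) (.node (.leaf 323419184) (.leaf 97339727))) (.node (.node (.leaf 27609860) (.leaf 291180840)) (.leaf 163173681))) (.node (.node (.node (.leaf 65733309) (.leaf 73774946)) (.leaf 17023138)) (.node (.node (.leaf 324066519) (.leaf 70629998)) (.leaf 39726120)))) (.node (.node (.node (.node (.leaf 48857186) (.leaf 218840196)) (.node (.leaf 323917563) (.leaf 324862844))) (.node (.node (.leaf 7) (.leaf 77411614)) (.leaf 29))) (.node (.node (.node (.leaf 323654784) (.leaf 31691880)) (.leaf 65989268)) (.node (.node (.leaf 15417438) (.leaf 175045439)) (.leaf 48857343))))) (.node (.node (.node (.node (.node (.leaf 88) (.leaf 293718784)) (.node (.leaf 71318765) (.leaf 12928248))) (.node (.node (.leaf 6) (.leaf 46397771)) (.leaf 301504076))) (.node (.node (.node (.leaf 39726304) (.leaf 304513856))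 (.leaf 300797329)) (.node (.node (.leaf 10760496) (.leaf 39622519)) (.leaf 38)))) (.node (.node (.node (.node (.leaf 1) (.leaf 275905812)) (.node (.leaf 99936915) (.leaf 42733467))) (.node (.node (.leaf 8) (.leaf 209638298)) (.leaf 328632142))) (.node (.node (.node (.leaf 301792039) (.leaf 86274825)) (.leaf 305060924)) (.node (.node (.leaf 279640339) (.leaf 287388878)) (.leaf 12928392))))))

/-- Part of the table `stepT16`. -/
def stepT16_2 : Tr := (.node (.node (.node (.node (.node (.node (.leaf 55) (.leaf 48413760)) (.node (.leaf 243943184) (.leaf 89229165))) (.node (.node (.leaf 326) (.leaf 189237466)) (.leaf 166373003))) (.node (.node (.node (.leaf 39457324) (.leaf 36379883)) (.leaf 149257955)) (.node (.node (.leaf 48857219) (.leaf 310454541)) (.leaf 138864997)))) (.node (.node (.node (.node (.leaf 281930396) (.leaf 256822552)) (.node (.leaf 56842928) (.leaf 217492865))) (.node (.node (.leaf 139625055) (.leaf 162157710)) (.leaf 188976273))) (.node (.node (.node (.leaf 46964281) (.leaf 39242441)) (.leaf 92987060)) (.node (.node (.leaf 37122079) (.leaf 130341227)) (.leaf 297214293)))))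 (.node (.node (.node (.node (.node (.leaf 48857191) (.leaf 323654794)) (.node (.leaf 34465366) (.leaf 169441963))) (.node (.node (.leaf 307541704) (.leaf 182125889)) (.leaf 323011789))) (.node (.node (.node (.leaf 36019236) (.leaf 46964526)) (.leaf 80597046)) (.node (.node (.leaf 10) (.leaf 278259459)) (.leaf 229833477)))) (.node (.node (.node (.node (.leaf 202) (.leaf 198725187)) (.node (.leaf 169441812) (.leaf 98755462))) (.node (.node (.leaf 237140579) (.leaf 144719993)) (.leaf 48857123))) (.node (.node (.node (.leaf 292901560) (.leaf 304882490)) (.leaf 17904710)) (.node (.node (.leaf 236294157) (.leaf 326524816)) (.leaf 9198247))))))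

/-- Part of the table `stepT16`. -/
def stepT16_3 : Tr := (.node (.node (.node (.node (.node (.node (.leaf 34) (.leaf 217063078)) (.node (.leaf 323419178) (.leaf 74119011))) (.node (.node (.leaf 304882237) (.leaf 304882383)) (.leaf 230584647))) (.node (.node (.node (.leaf 2) (.leaf 35841303)) (.leaf 17023136)) (.node (.node (.leaf 48857104) (.leaf 92481824)) (.leaf 65733173)))) (.node (.node (.node (.node (.leaf 165) (.leaf 215320761)) (.node (.leaf 123) (.leaf 18502318))) (.node (.node (.leaf 149616849) (.leaf 146059597)) (.leaf 33323787))) (.node (.node (.node (.leaf 48327303) (.leaf 37133103)) (.leaf 8292978)) (.node (.node (.leaf 66400946) (.leaf 206789333)) (.leaf 237140869))))) (.node (.node (.node (.node (.node (.leaf 108) (.leaf 62221142)) (.node (.leaf 323419404) (.leaf 223849851))) (.node (.node (.leaf 131734) (.leaf 174219662)) (.leaf 28))) (.node (.node (.node (.leaf 323654786) (.leaf 119103151)) (.leaf 209564351)) (.node (.node (.leaf 223002654) (.leaf 11680033)) (.leaf 146596745)))) (.node (.node (.node (.node (.leaf 53899289) (.leaf 8168051)) (.node (.leaf 66401093) (.leaf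 129619800))) (.node (.node (.leaf 310454542) (.leaf 58877343)) (.leaf 200395076))) (.node (.node (.node (.leaf 242771589) (.leaf 304882492)) (.leaf 145893050)) (.node (.node (.leaf 137) (.leaf 324118345)) (.leaf 27619377))))))

/-- Part of the table `stepT16`. -/
def stepT16_4 : Tr := (.node (.node (.node (.node (.node (.node (.leaf 72) (.leaf 29707505)) (.node (.leaf 39457543) (.leaf 77852572))) (.node (.node (.leaf 17904828) (.leaf 68)) (.leaf 117037371))) (.node (.node (.node (.leaf 232) (.leaf 218863173)) (.leaf 166429442)) (.node (.node (.leaf 39726173) (.leaf 48857291)) (.leaf 51627099)))) (.node (.node (.node (.node (.leaf 181) (.leaf 36019445)) (.node (.leaf 449610) (.leaf 92987286))) (.node (.node (.leaf 9309836) (.leaf 108181258)) (.leaf 142448494))) (.node (.node (.node (.leaf 83109548) (.leaf 193141047)) (.leaf 201016473)) (.node (.node (.leaf 309927717) (.leaf 298111862)) (.leaf 169776862))))) (.node (.node (.node (.node (.node (.leaf 143) (.leaf 307926106)) (.node (.leaf 233540948) (.leaf 133493578))) (.node (.node (.leaf 48857217) (.leaf 325864664)) (.leaf 308373368)))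 (.node (.node (.node (.leaf 3) (.leaf 39242540)) (.leaf 29988754)) (.node (.node (.leaf 77628768) (.leaf 125142742)) (.leaf 49151267)))) (.node (.node (.node (.node (.leaf 219491434) (.leaf 79426384)) (.node (.leaf 65733403) (.leaf 146384277))) (.node (.node (.leaf 60687984) (.leaf 58251001)) (.leaf 169776886))) (.node (.node (.node (.leaf 300797209) (.leaf 63316033)) (.leaf 145893054)) (.node (.node (.leaf 85335861) (.leaf 114627371)) (.leaf 23646462))))))

/-- Part of the table `stepT16`. -/
def stepT16_5 : Tr := (.node (.node (.node (.node (.node (.node (.leaf 24) (.leaf 35677053)) (.node (.leaf 48857166) (.leaf 196334996))) (.node (.node (.leaf 63316286) (.leaf 274533708)) (.leaf 163173449))) (.node (.node (.node (.leaf 230745167) (.leaf 34291562)) (.leaf 10224289)) (.node (.node (.leaf 9) (.leaf 174162149)) (.leaf 256394341)))) (.node (.node (.node (.node (.leaf 159) (.leaf 114027051)) (.node (.leaf 192299732) (.leaf 300797096))) (.node (.node (.leaf 279640349) (.leaf 270865005)) (.leaf 153697874))) (.node (.node (.node (.leaf 18525434) (.leaf 243389120)) (.leaf 21)) (.node (.node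 (.leaf 149257885) (.leaf 105284469)) (.leaf 52630278))))) (.node (.node (.node (.node (.node (.leaf 97) (.leaf 91379512)) (.node (.leaf 122) (.leaf 223960810))) (.node (.node (.leaf 243389121) (.leaf 324163962)) (.leaf 46964532))) (.node (.node (.node (.leaf 39726229) (.leaf 127029571)) (.leaf 19)) (.node (.node (.leaf 19783787) (.leaf 311699833)) (.leaf 39)))) (.node (.node (.node (.node (.leaf 53899290) (.leaf 300796990)) (.node (.leaf 136597686) (.leaf 304454019))) (.node (.node (.leaf 49309967) (.leaf 136958675)) (.leaf 248349501))) (.node (.node (.node (.leaf 39242292) (.leaf 292901783)) (.leaf 127083282)) (.node (.node (.leaf 227631452) (.leaf 289835369)) (.leaf 34467166))))))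

/-- Part of the table `stepT16`. -/
def stepT16_6 : Tr := (.node (.node (.node (.node (.node (.node (.leaf 63) (.leaf 169537260)) (.node (.leaf 242711098) (.leaf 237140722))) (.node (.node (.leaf 259524902) (.leaf 8293018)) (.leaf 27))) (.node (.node (.node (.leaf 22298847) (.leaf 308673142)) (.leaf 18)) (.node (.node (.leaf 129621217) (.leaf 223732452)) (.leaf 192174433)))) (.node (.node (.node (.node (.leaf 177) (.leaf 22739539)) (.node (.leaf 39726121) (.leaf 199657886))) (.node (.node (.leaf 39726231) (.leaf 309542644)) (.leaf 149723506))) (.node (.node (.node (.leaf 65733346) (.leaf 71387262)) (.leaf 22)) (.node (.node (.leaf 71) (.leaf 8560497)) (.leaf 39457558))))) (.node (.node (.node (.node (.node (.leaf 236294268) (.leaf 307926372)) (.node (.leaf 39726155) (.leaf 169441965))) (.node (.node (.leaf 307541703) (.leaf 146059602)) (.leaf 323419852))) (.node (.node (.node (.leaf 35841075) (.leaf 217413691)) (.leaf 281930637)) (.node (.node (.leaf 233443153) (.leaf 94134660)) (.leaf 85437576)))) (.node (.node (.node (.node (.leaf 208) (.leaf 271602257)) (.node (.leaf 149257841) (.leaf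 65247615))) (.node (.node (.leaf 39726182) (.leaf 53597)) (.leaf 39726327))) (.node (.node (.node (.leaf 304882242) (.leaf 215354073)) (.leaf 65733152)) (.node (.node (.leaf 15) (.leaf 35676929)) (.leaf 96106323))))))

/-- Part of the table `stepT16`. -/
def stepT16_7 : Tr := (.node (.node (.node (.node (.node (.node (.leaf 46) (.leaf 256153452)) (.node (.leaf 48857188) (.leaf 291118489))) (.node (.node (.leaf 217461532) (.leaf 239857961)) (.leaf 66310255))) (.node (.node (.node (.leaf 48857308) (.leaf 46452462)) (.leaf 229822771)) (.node (.node (.leaf 237140572) (.leaf 74119042)) (.leaf 149257892)))) (.node (.node (.node (.node (.leaf 169) (.leaf 271602296)) (.node (.leaf 83120280) (.leaf 54262451))) (.node (.node (.leaf 49459989) (.leaf 75873021)) (.leaf 243907417))) (.node (.node (.node (.leaf 35841069) (.leaf 242566819)) (.leaf 58877331)) (.node (.node (.leaf 24987418) (.leaf 146059615)) (.leaf 110836967))))) (.node (.node (.node (.node (.node (.leaf 0) (.leaf 46045906)) (.node (.leaf 155969220) (.leaf 11687307))) (.node (.node (.leaf 39726221) (.leaf 38896968)) (.leaf 48857446)))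 (.node (.node (.node (.leaf 114027281) (.leaf 45133182)) (.leaf 281930636)) (.node (.node (.leaf 117104233) (.leaf 252602228)) (.leaf 32757540)))) (.node (.node (.node (.node (.leaf 197) (.leaf 65733278)) (.node (.leaf 23522423) (.leaf 108471704))) (.node (.node (.leaf 111420134) (.leaf 114027355)) (.leaf 48857327))) (.node (.node (.node (.leaf 204068141) (.leaf 117982406)) (.leaf 145893051)) (.node (.node (.leaf 146) (.leaf 135580042)) (.leaf 323917456))))))

/-- Part of the table `stepT16`. -/
def stepT16_8 : Tr := (.node (.node (.node (.node (.node (.node (.leaf 80) (.leaf 36019334)) (.node (.leaf 49309746) (.leaf 6064487))) (.node (.node (.leaf 117) (.leaf 136562882)) (.leaf 301504077))) (.node (.node (.node (.leaf 233) (.leaf 304704568)) (.leaf 65422588)) (.node (.node (.leaf 48857100) (.leaf 9583495)) (.leaf 110836979)))) (.node (.node (.node (.node (.leaf 145892887) (.leaf 35841314)) (.node (.leaf 39726165) (.leaf 305061177))) (.node (.node (.leaf 209132831) (.leaf 256003415)) (.leaf 328089184))) (.node (.node (.node (.leaf 4) (.leaf 263449398)) (.leaf 145893047)) (.node (.node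 (.leaf 101923995) (.leaf 20510056)) (.leaf 39726301))))) (.node (.node (.node (.node (.node (.leaf 125) (.leaf 48327257)) (.node (.leaf 14) (.leaf 10224527))) (.node (.node (.leaf 224151585) (.leaf 93653376)) (.leaf 304882498))) (.node (.node (.node (.leaf 85479039) (.leaf 37133106)) (.leaf 140291370)) (.node (.node (.leaf 66310339) (.leaf 11687279)) (.leaf 48857307)))) (.node (.node (.node (.node (.leaf 37122164) (.leaf 142509143)) (.node (.leaf 17) (.leaf 54262618))) (.node (.node (.leaf 182624852) (.leaf 146059635)) (.leaf 22298661))) (.node (.node (.node (.leaf 5) (.leaf 261621616)) (.leaf 240144042)) (.node (.node (.leaf 85235247) (.leaf 14914973)) (.leaf 48857328))))))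

/-- The table `stepT16`. -/
def stepT16 : Tr := (.node (.node (.node stepT16_1 stepT16_2) (.node stepT16_3 stepT16_4)) (.node (.node stepT16_5 stepT16_6) (.node stepT16_7 stepT16_8)))

/-- Part of the table `stepT17`. -/
def stepT17_1 : Tr := (.node (.node (.node (.node (.node (.node (.leaf 12) (.leaf 304704565)) (.node (.leaf 37122080) (.leaf 150654284))) (.node (.node (.leaf 5) (.leaf 65204381)) (.leaf 84503323))) (.node (.node (.node (.leaf 37122176) (.leaf 273452699)) (.leaf 17)) (.node (.node (.leaf 60703083) (.leaf 318907246)) (.leaf 210164541)))) (.node (.node (.node (.node (.leaf 48857185) (.leaf 218840188)) (.node (.leaf 14) (.leaf 169441971))) (.node (.node (.leaf 98591311) (.leaf 305491020)) (.leaf 188976259))) (.node (.node (.node (.leaf 244206781) (.leaf 152650636)) (.leaf 269209777)) (.node (.node (.leaf 65157836) (.leaf 169537399)) (.leaf 39))))) (.node (.node (.node (.node (.node (.leaf 35676687) (.leaf 243389154)) (.node (.leaf 54811) (.leaf 139810451))) (.node (.node (.leaf 243389121) (.leaf 103384770)) (.leaf 281381150))) (.node (.node (.node (.leaf 35676889) (.leaf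 46219889)) (.leaf 60688107)) (.node (.node (.leaf 132159659) (.leaf 50231103)) (.leaf 95673051)))) (.node (.node (.node (.node (.leaf 53899290) (.leaf 247031637)) (.node (.leaf 215428344) (.leaf 146556265))) (.node (.node (.leaf 35676797) (.leaf 138894236)) (.leaf 228460639))) (.node (.node (.node (.leaf 4) (.leaf 216902945)) (.leaf 65138919)) (.node (.node (.leaf 243444502) (.leaf 319176579)) (.leaf 162019480))))))

/-- Part of the table `stepT17`. -/
def stepT17_2 : Tr := (.node (.node (.node (.node (.node (.node (.leaf 56) (.leaf 48413759)) (.node (.leaf 236294157) (.leaf 14210931))) (.node (.node (.leaf 149077220) (.leaf 223456572)) (.leaf 35676822))) (.node (.node (.node (.leaf 35994674) (.leaf 135810961)) (.leaf 80071506)) (.node (.node (.leaf 175683613) (.leaf 6348121)) (.leaf 149541444)))) (.node (.node (.node (.node (.leaf 172) (.leaf 200882932)) (.node (.leaf 145399317) (.leaf 15762778))) (.node (.node (.leaf 187582286) (.leaf 323235577)) (.leaf 223456463))) (.node (.node (.node (.leaf 18360965) (.leaf 49856666)) (.leaf 299307700)) (.node (.node (.leaf 323917353) (.leaf 199788247))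 (.leaf 134380308))))) (.node (.node (.node (.node (.node (.leaf 0) (.leaf 42)) (.node (.leaf 36539973) (.leaf 159491376))) (.node (.node (.leaf 305491280) (.leaf 144331648)) (.leaf 14046832))) (.node (.node (.node (.leaf 49534599) (.leaf 39108914)) (.leaf 20)) (.node (.node (.leaf 204215573) (.leaf 9080657)) (.leaf 79607)))) (.node (.node (.node (.node (.leaf 203) (.leaf 178139929)) (.node (.leaf 159491126) (.leaf 166794072))) (.node (.node (.leaf 242101385) (.leaf 137378659)) (.leaf 48857122))) (.node (.node (.node (.leaf 122243827) (.leaf 223456580)) (.leaf 45349638)) (.node (.node (.leaf 243943184) (.leaf 191055763)) (.leaf 256851))))))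

/-- Part of the table `stepT17`. -/
def stepT17_3 : Tr := (.node (.node (.node (.node (.node (.node (.leaf 35) (.leaf 295050469)) (.node (.leaf 138) (.leaf 51748985))) (.node (.node (.leaf 261879371) (.leaf 142348945)) (.leaf 8164680))) (.node (.node (.node (.leaf 48857308) (.leaf 51)) (.leaf 17023135)) (.node (.node (.leaf 9) (.leaf 166059127)) (.leaf 163173640)))) (.node (.node (.node (.node (.leaf 47109719) (.leaf 43)) (.node (.leaf 35676762) (.leaf 3382602))) (.node (.node (.leaf 64062689) (.leaf 74647204)) (.leaf 182904591))) (.node (.node (.node (.leaf 37138980) (.leaf 39108908)) (.leaf 189385985)) (.node (.node (.leaf 381) (.leaf 144058225)) (.leaf 55047))))) (.node (.node (.node (.node (.node (.leaf 206607955) (.leaf 9082247)) (.node (.leaf 130) (.leaf 124065182))) (.node (.node (.leaf 279257739) (.leaf 4896658)) (.leaf 48857446))) (.node (.node (.node (.leaf 268) (.leaf 293729059)) (.leaf 19)) (.node (.node (.leaf 26480745) (.leaf 125483785)) (.leaf 60578603)))) (.node (.node (.node (.node (.leaf 53899288) (.leaf 226940215)) (.node (.leaf 49856820) (.leaf 107648902))) (.node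 (.node (.leaf 35676818) (.leaf 102153108)) (.leaf 179484474))) (.node (.node (.node (.leaf 48389689) (.leaf 141771994)) (.leaf 96478906)) (.node (.node (.leaf 48857187) (.leaf 77736831)) (.leaf 22758111))))))

/-- Part of the table `stepT17`. -/
def stepT17_4 : Tr := (.node (.node (.node (.node (.node (.node (.leaf 73) (.leaf 103669948)) (.node (.leaf 236294533) (.leaf 53134234))) (.node (.node (.leaf 306837233) (.leaf 321526629)) (.leaf 97834391))) (.node (.node (.node (.leaf 113623279) (.leaf 328070230)) (.leaf 305579361)) (.node (.node (.leaf 35676757) (.leaf 48857290)) (.leaf 134380317)))) (.node (.node (.node (.node (.leaf 182) (.leaf 165276792)) (.node (.leaf 35676868) (.leaf 299307926))) (.node (.node (.leaf 323053350) (.leaf 57496423)) (.leaf 243431022))) (.node (.node (.node (.leaf 152650396) (.leaf 18189427)) (.leaf 22)) (.node (.node (.leaf 203570398) (.leaf 145893238)) (.leaf 35994917))))) (.node (.node (.node (.node (.node (.leaf 144) (.leaf 205613691)) (.node (.leaf 296226142) (.leaf 110793390))) (.node (.node (.leaf 253756993) (.leaf 184343124)) (.leaf 304138649))) (.node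 (.node (.node (.leaf 85479039) (.leaf 37408047)) (.leaf 50165134)) (.node (.node (.leaf 121689814) (.leaf 311461216)) (.leaf 65733295)))) (.node (.node (.node (.node (.leaf 174193259) (.leaf 137619656)) (.node (.leaf 37122353) (.leaf 236457866))) (.node (.node (.leaf 144342733) (.leaf 292802190)) (.leaf 123175542))) (.node (.node (.node (.leaf 223456323) (.leaf 47004289)) (.leaf 96478910)) (.node (.node (.leaf 60578467) (.leaf 37304201)) (.leaf 21515518))))))

/-- Part of the table `stepT17`. -/
def stepT17_5 : Tr := (.node (.node (.node (.node (.node (.node (.leaf 25) (.leaf 124579506)) (.node (.leaf 56039742) (.leaf 219006367))) (.node (.node (.leaf 261879374) (.leaf 8582991)) (.leaf 163173448))) (.node (.node (.node (.leaf 21948935) (.leaf 194483000)) (.leaf 14152865)) (.node (.node (.leaf 48857104) (.leaf 313076902)) (.leaf 21949010)))) (.node (.node (.node (.node (.leaf 160) (.leaf 116521657)) (.node (.leaf 175683906) (.leaf 282545956))) (.node (.node (.leaf 105950811) (.leaf 53866348)) (.leaf 327669861))) (.node (.node (.node (.leaf 18402341) (.leaf 37122206)) (.leaf 167688368))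 (.node (.node (.leaf 46220072) (.leaf 142072178)) (.leaf 316478022))))) (.node (.node (.node (.node (.node (.leaf 98) (.leaf 141620586)) (.node (.leaf 242101340) (.leaf 37304190))) (.node (.node (.leaf 6) (.leaf 145931165)) (.leaf 289278277))) (.node (.node (.node (.leaf 323917428) (.leaf 277129327)) (.leaf 209564351)) (.node (.node (.leaf 15262314) (.leaf 201522584)) (.leaf 48857343)))) (.node (.node (.node (.node (.leaf 1) (.leaf 195498268)) (.node (.leaf 136597685) (.leaf 316406478))) (.node (.node (.leaf 46705931) (.leaf 105951076)) (.leaf 35676712))) (.node (.node (.node (.leaf 37407802) (.leaf 129789755)) (.leaf 3963665)) (.node (.node (.leaf 59089282) (.leaf 149602715)) (.leaf 323724628))))))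

/-- Part of the table `stepT17`. -/
def stepT17_6 : Tr := (.node (.node (.node (.node (.node (.node (.leaf 64) (.leaf 249238237)) (.node (.leaf 17886260) (.leaf 236294278))) (.node (.node (.leaf 31783052) (.leaf 291271369)) (.leaf 85479149))) (.node (.node (.node (.leaf 17884721) (.leaf 37139190)) (.leaf 85479199)) (.node (.node (.leaf 329081041) (.leaf 324071238)) (.leaf 295026434)))) (.node (.node (.node (.node (.leaf 163454612) (.leaf 139243628)) (.node (.leaf 35676703) (.leaf 33446267))) (.node (.node (.leaf 35676774) (.leaf 252924696)) (.leaf 328089461))) (.node (.node (.node (.leaf 301792000) (.leaf 48389939)) (.leaf 201016473)) (.node (.node (.leaf 145925319) (.leaf 324066517)) (.leaf 151073555))))) (.node (.node (.node (.node (.node (.leaf 236294276) (.leaf 239506131)) (.node (.leaf 253756989) (.leaf 249821485))) (.node (.node (.leaf 35676743) (.leaf 58079459)) (.leaf 255963742))) (.node (.node (.node (.leaf 279) (.leaf 257684365)) (.leaf 181664315)) (.node (.node (.leaf 200836867) (.leaf 126073695)) (.leaf 85235397)))) (.node (.node (.node (.node (.leaf 142348900) (.leaf 200882918))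 (.node (.leaf 6985536) (.leaf 274645321))) (.node (.node (.leaf 35676823) (.leaf 419677)) (.leaf 180558085))) (.node (.node (.node (.leaf 261879437) (.leaf 244019424)) (.leaf 163390512)) (.node (.node (.leaf 35676760) (.leaf 114)) (.leaf 211387047))))))

/-- Part of the table `stepT17`. -/
def stepT17_7 : Tr := (.node (.node (.node (.node (.node (.node (.leaf 47) (.leaf 272412269)) (.node (.leaf 192299728) (.leaf 295900024))) (.node (.node (.leaf 223456318) (.leaf 295025347)) (.leaf 307961667))) (.node (.node (.node (.leaf 2) (.leaf 305435946)) (.leaf 60578430)) (.node (.node (.leaf 48857210) (.leaf 253485916)) (.leaf 45621581)))) (.node (.node (.node (.node (.leaf 170) (.leaf 190101749)) (.node (.leaf 267081608) (.leaf 250485116))) (.node (.node (.leaf 274792458) (.leaf 256764)) (.leaf 179472653))) (.node (.node (.node (.leaf 290) (.leaf 37408053)) (.leaf 281930640)) (.node (.node (.leaf 113391414) (.leaf 48239492)) (.leaf 252489276))))) (.node (.node (.node (.node (.node (.leaf 48857191) (.leaf 49534553)) (.node (.leaf 232992842) (.leaf 8133515))) (.node (.node (.leaf 253756994) (.leaf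 49004359)) (.leaf 28))) (.node (.node (.node (.leaf 274) (.leaf 60578538)) (.leaf 220279912)) (.node (.node (.leaf 199788062) (.leaf 33670240)) (.leaf 15417512)))) (.node (.node (.node (.node (.leaf 79496) (.leaf 84503232)) (.node (.leaf 148155168) (.leaf 195487609))) (.node (.node (.leaf 6347857) (.leaf 118151003)) (.leaf 95673064))) (.node (.node (.node (.leaf 164991661) (.leaf 249581881)) (.leaf 96478907)) (.node (.node (.leaf 202106638) (.leaf 1208725)) (.leaf 323917455))))))

/-- Part of the table `stepT17`. -/
def stepT17_8 : Tr := (.node (.node (.node (.node (.node (.node (.leaf 64062497) (.leaf 79602)) (.node (.leaf 46705708) (.leaf 27578122))) (.node (.node (.leaf 35676749) (.leaf 37360971)) (.leaf 162102389))) (.node (.node (.node (.leaf 240) (.leaf 304704567)) (.leaf 122284797)) (.node (.node (.leaf 48857099) (.leaf 11821910)) (.leaf 63607480)))) (.node (.node (.node (.node (.leaf 96478743) (.leaf 45)) (.node (.leaf 35676765) (.leaf 79616198))) (.node (.node (.leaf 34632722) (.leaf 81693527)) (.leaf 174193524))) (.node (.node (.node (.leaf 301792039) (.leaf 126083354)) (.leaf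 96478903)) (.node (.node (.leaf 227319650) (.leaf 229833584)) (.leaf 55020))))) (.node (.node (.node (.node (.node (.leaf 35676680) (.leaf 177515730)) (.node (.leaf 323917563) (.leaf 14153103))) (.node (.node (.leaf 98591312) (.leaf 24317761)) (.leaf 223456468))) (.node (.node (.node (.leaf 3) (.leaf 48389934)) (.leaf 65733358)) (.node (.node (.leaf 127498025) (.leaf 8133487)) (.leaf 113623078)))) (.node (.node (.node (.node (.leaf 35676821) (.leaf 85235365)) (.node (.leaf 17023138) (.leaf 157135233))) (.node (.node (.leaf 192277208) (.leaf 242107245)) (.leaf 22741242))) (.node (.node (.node (.leaf 27609860) (.leaf 50231144)) (.leaf 240144041)) (.node (.node (.leaf 85235246) (.leaf 93457274)) (.leaf 48857321))))))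

/-- The table `stepT17`. -/
def stepT17 : Tr := (.node (.node (.node stepT17_1 stepT17_2) (.node stepT17_3 stepT17_4)) (.node (.node stepT17_5 stepT17_6) (.node stepT17_7 stepT17_8)))

end Cfsg.Agent.GTwoJTwo
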