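import Cfsg.Agent.Lib.J2.Packed

/-!
# Coset multiplication table
-/

set_option autoImplicit false
set_option maxRecDepth 10000

namespace Cfsg.Agent.GTwoJTwo

open Cfsg.Agent.JTwo (Tr)

/-- Part of the table `stepT18`. -/
def stepT18_1 : Tr := (.node (.node (.node (.node (.node (.node (.leaf 13) (.leaf 289805576)) (.node (.leaf 35676807) (.leaf 119))) (.node (.node (.leaf 204375867) (.leaf 130892977)) (.leaf 194716342))) (.node (.node (.node (.leaf 221) (.leaf 37139203)) (.leaf 53547032)) (.node (.node (.leaf 237140834) (.leaf 202704241)) (.leaf 54828)))) (.node (.node (.node (.node (.leaf 138) (.leaf 39147622)) (.node (.leaf 65696481) (.leaf 26013875))) (.node (.node (.leaf 149616852) (.leaf 73)) (.leaf 153698137))) (.node (.node (.node (.leaf 3) (.leaf 193650998)) (.leaf 166648945)) (.node (.node (.leaf 65793741) (.leaf 49004233)) (.leaf 114903791))))) (.node (.node (.node (.node (.node (.leaf 89) (.leaf 301028096)) (.node (.leaf 65733313) (.leaf 55748470))) (.node (.node (.leaf 94838895) (.leaf 168871106)) (.leaf 37139014))) (.node (.node (.node (.leaf 35994671) (.leaf 48327316)) (.leaf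 158733707)) (.node (.node (.leaf 309484855) (.leaf 300644506)) (.leaf 220341433)))) (.node (.node (.node (.node (.leaf 50047648) (.leaf 59182299)) (.node (.leaf 186065755) (.leaf 148733817))) (.node (.node (.leaf 49309738) (.leaf 328384897)) (.leaf 39457564))) (.node (.node (.node (.leaf 162268455) (.leaf 303723586)) (.leaf 12318269)) (.node (.node (.leaf 65084154) (.leaf 173231513)) (.leaf 64500055))))))

/-- Part of the table `stepT18`. -/
def stepT18_2 : Tr := (.node (.node (.node (.node (.node (.node (.leaf 57) (.leaf 194290783)) (.node (.leaf 329252961) (.leaf 177757450))) (.node (.node (.leaf 327) (.leaf 98031438)) (.leaf 300379889))) (.node (.node (.node (.leaf 2) (.leaf 96128918)) (.leaf 317771428)) (.node (.node (.leaf 67675215) (.leaf 275798338)) (.leaf 267460939)))) (.node (.node (.node (.node (.leaf 28717212) (.leaf 152558886)) (.node (.leaf 49309992) (.leaf 1951647))) (.node (.node (.leaf 202954315) (.leaf 108567903)) (.leaf 153697872))) (.node (.node (.node (.leaf 39242295) (.leaf 20510021)) (.leaf 90896619)) (.node (.node (.leaf 49309746) (.leaf 236294516)) (.leaf 37))))) (.node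 (.node (.node (.node (.node (.leaf 130) (.leaf 49534549)) (.node (.leaf 310454550) (.leaf 26013867))) (.node (.node (.leaf 305491022) (.leaf 253611884)) (.leaf 28))) (.node (.node (.node (.leaf 79584) (.leaf 25992418)) (.leaf 75987245)) (.node (.node (.leaf 233151081) (.leaf 159119180)) (.leaf 79395)))) (.node (.node (.node (.node (.leaf 204) (.leaf 36019416)) (.node (.leaf 26013716) (.leaf 42157466))) (.node (.node (.leaf 236294237) (.leaf 62003548)) (.leaf 54829))) (.node (.node (.node (.leaf 303723525) (.leaf 135849761)) (.leaf 45374661)) (.node (.node (.leaf 236294269) (.leaf 61558174)) (.leaf 247073975))))))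

/-- Part of the table `stepT18`. -/
def stepT18_3 : Tr := (.node (.node (.node (.node (.node (.node (.leaf 36) (.leaf 30576355)) (.node (.leaf 12) (.leaf 59089261))) (.node (.node (.leaf 303723832) (.leaf 151363428)) (.leaf 149689672))) (.node (.node (.node (.leaf 109968511) (.leaf 244206781)) (.leaf 38289945)) (.node (.node (.leaf 329081042) (.leaf 237140576)) (.leaf 45524268)))) (.node (.node (.node (.node (.leaf 317771282) (.leaf 73774678)) (.node (.leaf 67675218) (.leaf 169631049))) (.node (.node (.leaf 67675282) (.leaf 270925438)) (.leaf 327669858))) (.node (.node (.node (.leaf 48327284) (.leaf 36628271)) (.leaf 135358698)) (.node (.node (.leaf 49004413) (.leaf 315959573)) (.leaf 55075))))) (.node (.node (.node (.node (.node (.leaf 236294154) (.leaf 153597828)) (.node (.leaf 16) (.leaf 100805523))) (.node (.node (.leaf 6) (.leaf 69373341)) (.leaf 323751627))) (.node (.node (.node (.leaf 48327256) (.leaf 293898886)) (.leaf 128833214)) (.node (.node (.leaf 150370158) (.leaf 105790233)) (.leaf 273041586)))) (.node (.node (.node (.node (.leaf 318587039) (.leaf 15511667)) (.node (.leaf 296647528)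 (.leaf 36240796))) (.node (.node (.leaf 243074593) (.leaf 239306118)) (.leaf 248842647))) (.node (.node (.node (.leaf 238895749) (.leaf 148416743)) (.leaf 188796305)) (.node (.node (.leaf 11) (.leaf 122576767)) (.leaf 21595768))))))

/-- Part of the table `stepT18`. -/
def stepT18_4 : Tr := (.node (.node (.node (.node (.node (.node (.leaf 74) (.leaf 205588803)) (.node (.leaf 293899050) (.leaf 252919642))) (.node (.node (.leaf 35994824) (.leaf 270369125)) (.leaf 37139085))) (.node (.node (.node (.leaf 245) (.leaf 152558868)) (.leaf 317771430)) (.node (.node (.leaf 37014800) (.leaf 296647262)) (.leaf 116972814)))) (.node (.node (.node (.node (.leaf 28717214) (.leaf 307926156)) (.node (.leaf 305617607) (.leaf 90919204))) (.node (.node (.leaf 92481810) (.leaf 293628153)) (.leaf 111732819))) (.node (.node (.node (.leaf 185828411) (.leaf 212551472)) (.leaf 250733248)) (.node (.node (.leaf 283746065) (.leaf 55748488)) (.leaf 39))))) (.node (.node (.node (.node (.node (.leaf 67675143) (.leaf 8549094)) (.node (.leaf 236294286) (.leaf 26013870))) (.node (.node (.leaf 305491020) (.leaf 99902276)) (.leaf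 42496923))) (.node (.node (.node (.leaf 36019231) (.leaf 53)) (.leaf 28717454)) (.node (.node (.leaf 236294254) (.leaf 136067690)) (.leaf 55047)))) (.node (.node (.node (.node (.leaf 213) (.leaf 230405237)) (.node (.leaf 26013718) (.leaf 40471420))) (.node (.node (.leaf 300644710) (.leaf 296621411)) (.leaf 296749909))) (.node (.node (.node (.leaf 129391347) (.leaf 99502889)) (.leaf 254720682)) (.node (.node (.leaf 284177234) (.leaf 879497)) (.leaf 171577085))))))

/-- Part of the table `stepT18`. -/
def stepT18_5 : Tr := (.node (.node (.node (.node (.node (.node (.leaf 28717073) (.leaf 136562987)) (.node (.leaf 54811) (.leaf 323901784))) (.node (.node (.leaf 82605195) (.leaf 287640791)) (.leaf 65733256))) (.node (.node (.node (.leaf 178576986) (.leaf 174949692)) (.leaf 222994451)) (.node (.node (.leaf 329252996) (.leaf 4741719)) (.leaf 26734736)))) (.node (.node (.node (.node (.leaf 26013697) (.leaf 208600182)) (.node (.leaf 67675217) (.leaf 246576826))) (.node (.node (.leaf 67675281) (.leaf 180597611)) (.leaf 29))) (.node (.node (.node (.leaf 152558635) (.leaf 84082869)) (.leaf 182602048))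 (.node (.node (.leaf 266597040) (.leaf 225310048)) (.leaf 316250820))))) (.node (.node (.node (.node (.node (.leaf 99) (.leaf 277657151)) (.node (.leaf 15) (.leaf 772990))) (.node (.node (.leaf 336) (.leaf 140256658)) (.leaf 37361008))) (.node (.node (.node (.leaf 247) (.leaf 76889406)) (.leaf 44058135)) (.node (.node (.leaf 233151084) (.leaf 141697923)) (.leaf 5870815)))) (.node (.node (.node (.node (.leaf 14395554) (.leaf 49059690)) (.node (.leaf 131867) (.leaf 244567416))) (.node (.node (.leaf 8) (.leaf 149616848)) (.leaf 54835))) (.node (.node (.node (.leaf 4) (.leaf 303723587)) (.leaf 285720808)) (.node (.node (.leaf 31801703) (.leaf 244000152)) (.leaf 312278358))))))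

/-- Part of the table `stepT18`. -/
def stepT18_6 : Tr := (.node (.node (.node (.node (.node (.node (.leaf 303723580) (.leaf 313660733)) (.node (.leaf 222356538) (.leaf 37271215))) (.node (.node (.leaf 180826367) (.leaf 39622452)) (.leaf 58253500))) (.node (.node (.node (.leaf 244) (.leaf 152558867)) (.leaf 200455987)) (.node (.node (.leaf 275798223) (.leaf 193646406)) (.leaf 309439285)))) (.node (.node (.node (.node (.leaf 28717213) (.leaf 304199538)) (.node (.leaf 35994903) (.leaf 271622011))) (.node (.node (.leaf 46705932) (.leaf 289864414)) (.leaf 30))) (.node (.node (.node (.leaf 302) (.leaf 296195301)) (.leaf 84058929)) (.node (.node (.leaf 188239134) (.leaf 236294517)) (.leaf 38))))) (.node (.node (.node (.node (.node (.leaf 0) (.leaf 79611)) (.node (.leaf 35994822) (.leaf 26013869))) (.node (.node (.leaf 35994819) (.leaf 247726367)) (.leaf 114520176))) (.node (.node (.node (.leaf 79580) (.leaf 88437932)) (.leaf 28717453)) (.node (.node (.leaf 236294253) (.leaf 51749250)) (.leaf 189116999)))) (.node (.node (.node (.node (.leaf 209) (.leaf 318633103)) (.node (.leaf 26013717) (.leaf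 72973130))) (.node (.node (.leaf 236294236) (.leaf 166135955)) (.leaf 32))) (.node (.node (.node (.leaf 31038648) (.leaf 318591237)) (.leaf 163390754)) (.node (.node (.leaf 236294268) (.leaf 37360754)) (.leaf 272372990))))))

/-- Part of the table `stepT18`. -/
def stepT18_7 : Tr := (.node (.node (.node (.node (.node (.node (.leaf 48) (.leaf 35994912)) (.node (.leaf 146059355) (.leaf 248766825))) (.node (.node (.leaf 303723833) (.leaf 169743110)) (.leaf 37139021))) (.node (.node (.node (.leaf 55020) (.leaf 79602)) (.leaf 317771427)) (.node (.node (.leaf 9) (.leaf 296621406)) (.leaf 62027522)))) (.node (.node (.node (.node (.leaf 205358753) (.leaf 152558885)) (.node (.leaf 253216093) (.leaf 68613514))) (.node (.node (.leaf 57854678) (.leaf 232076655)) (.leaf 303125115))) (.node (.node (.node (.leaf 79577) (.leaf 242490021)) (.leaf 28717456)) (.node (.node (.leaf 108088090) (.leaf 236294515)) (.leaf 183005758))))) (.node (.node (.node (.node (.node (.leaf 122) (.leaf 39147671)) (.node (.leaf 82605121) (.leaf 140794536))) (.node (.node (.leaf 184562260) (.leaf 169093348)) (.leaf 323728586)))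 (.node (.node (.node (.leaf 152558641) (.leaf 230584577)) (.leaf 28717452)) (.node (.node (.leaf 236294251) (.leaf 241832785)) (.leaf 80352436)))) (.node (.node (.node (.node (.leaf 79489) (.leaf 449689)) (.node (.leaf 62003355) (.leaf 42496718))) (.node (.node (.leaf 146059395) (.leaf 271130776)) (.leaf 113400088))) (.node (.node (.node (.leaf 217925174) (.leaf 204375616)) (.leaf 165018303)) (.node (.node (.leaf 287881427) (.leaf 259906965)) (.leaf 55053))))))

/-- Part of the table `stepT18`. -/
def stepT18_8 : Tr := (.node (.node (.node (.node (.node (.node (.leaf 67675150) (.leaf 79598)) (.node (.leaf 35676800) (.leaf 236294535))) (.node (.node (.leaf 131847405) (.leaf 68)) (.leaf 301248662))) (.node (.node (.node (.leaf 246) (.leaf 123886136)) (.leaf 205358991)) (.node (.node (.leaf 37014799) (.leaf 62015609)) (.leaf 233296698)))) (.node (.node (.node (.node (.leaf 29569705) (.leaf 37139093)) (.node (.leaf 37014795) (.leaf 163012826))) (.node (.node (.leaf 24370529) (.leaf 48996600)) (.leaf 310138177))) (.node (.node (.node (.leaf 46964276) (.leaf 286285416)) (.leaf 183965436)) (.node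 (.node (.leaf 384) (.leaf 61592895)) (.leaf 41))))) (.node (.node (.node (.node (.node (.leaf 137) (.leaf 39147623)) (.node (.leaf 310628125) (.leaf 222994599))) (.node (.node (.leaf 67675236) (.leaf 305491279)) (.leaf 151363173))) (.node (.node (.node (.leaf 37138984) (.leaf 49656114)) (.leaf 57081733)) (.node (.node (.leaf 85524040) (.leaf 165422931)) (.leaf 114903792)))) (.node (.node (.node (.node (.leaf 39457326) (.leaf 145145165)) (.node (.leaf 318299674) (.leaf 41109908))) (.node (.node (.leaf 247150852) (.leaf 19828052)) (.leaf 5870825))) (.node (.node (.node (.leaf 142957321) (.leaf 65843575)) (.leaf 247841979)) (.node (.node (.leaf 59942434) (.leaf 143135610)) (.leaf 173351493))))))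

/-- The table `stepT18`. -/
def stepT18 : Tr := (.node (.node (.node stepT18_1 stepT18_2) (.node stepT18_3 stepT18_4)) (.node (.node stepT18_5 stepT18_6) (.node stepT18_7 stepT18_8)))

/-- Part of the table `stepT19`. -/
def stepT19_1 : Tr := (.node (.node (.node (.node (.node (.node (.leaf 14) (.leaf 306039010)) (.node (.leaf 36539973) (.leaf 176511851))) (.node (.node (.leaf 261879373) (.leaf 248766831)) (.leaf 317027514))) (.node (.node (.node (.leaf 222) (.leaf 18402519)) (.leaf 43743419)) (.node (.node (.leaf 364) (.leaf 62015596)) (.leaf 22298856)))) (.node (.node (.node (.node (.leaf 146) (.leaf 277149926)) (.node (.leaf 35676765) (.leaf 165079946))) (.node (.node (.leaf 203531532) (.leaf 173385017)) (.leaf 188976279))) (.node (.node (.node (.leaf 58452529) (.leaf 294966955)) (.leaf 37314301)) (.node (.node (.leaf 65793740) (.leaf 244063095)) (.leaf 114308332))))) (.node (.node (.node (.node (.node (.leaf 90) (.leaf 46339372)) (.node (.leaf 142735625) (.leaf 292429999))) (.node (.node (.leaf 314427194) (.leaf 68)) (.leaf 268765279))) (.node (.node (.node (.leaf 114903798) (.leaf 159750839))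 (.leaf 185890326)) (.node (.node (.leaf 323615002) (.leaf 256537925)) (.leaf 22298848)))) (.node (.node (.node (.node (.leaf 191) (.leaf 27866670)) (.node (.leaf 28717354) (.leaf 183368398))) (.node (.node (.leaf 50107643) (.leaf 14896540)) (.leaf 136564521))) (.node (.node (.node (.leaf 35772471) (.leaf 252448067)) (.leaf 201165086)) (.node (.node (.leaf 202486021) (.leaf 288412547)) (.leaf 323917550))))))

/-- Part of the table `stepT19`. -/
def stepT19_2 : Tr := (.node (.node (.node (.node (.node (.node (.leaf 58) (.leaf 174109766)) (.node (.leaf 70867300) (.leaf 139304803))) (.node (.node (.leaf 328) (.leaf 7453255)) (.leaf 72812951))) (.node (.node (.node (.leaf 244) (.leaf 95243957)) (.leaf 238634148)) (.node (.node (.leaf 9) (.leaf 70867076)) (.leaf 248629093)))) (.node (.node (.node (.node (.leaf 290174518) (.leaf 131824691)) (.node (.leaf 39108860) (.leaf 125300570))) (.node (.node (.leaf 202954314) (.leaf 162157689)) (.leaf 60317269))) (.node (.node (.node (.leaf 232063783) (.leaf 49655962)) (.leaf 135122203)) (.node (.node (.leaf 243943205) (.leaf 80295284)) (.leaf 36))))) (.node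 (.node (.node (.node (.node (.leaf 131) (.leaf 254494288)) (.node (.leaf 50107426) (.leaf 1341238))) (.node (.node (.leaf 37382433) (.leaf 43052898)) (.leaf 114520176))) (.node (.node (.node (.leaf 72928953) (.leaf 39181576)) (.leaf 281041805)) (.node (.node (.leaf 31801696) (.leaf 96)) (.leaf 58424560)))) (.node (.node (.node (.node (.leaf 205) (.leaf 194483006)) (.node (.leaf 198473275) (.leaf 33426264))) (.node (.node (.leaf 46446817) (.leaf 63316316)) (.leaf 229773942))) (.node (.node (.node (.leaf 326226059) (.leaf 7453262)) (.leaf 294876222)) (.node (.node (.leaf 287881425) (.leaf 286670203)) (.leaf 39108756))))))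

/-- Part of the table `stepT19`. -/
def stepT19_3 : Tr := (.node (.node (.node (.node (.node (.node (.leaf 37) (.leaf 201636517)) (.node (.leaf 146059355) (.leaf 128216406))) (.node (.node (.leaf 291198726) (.leaf 188976225)) (.leaf 149689671))) (.node (.node (.node (.leaf 50107532) (.leaf 106957045)) (.leaf 95591447)) (.node (.node (.leaf 48857231) (.leaf 20503372)) (.leaf 304207104)))) (.node (.node (.node (.node (.leaf 238634002) (.leaf 200882935)) (.node (.leaf 16) (.leaf 185890478))) (.node (.node (.leaf 67675274) (.leaf 203631191)) (.leaf 290753821))) (.node (.node (.node (.leaf 131824915) (.leaf 36628270)) (.leaf 60357502)) (.node (.node (.leaf 144948523) (.leaf 68569966)) (.leaf 53291869))))) (.node (.node (.node (.node (.node (.leaf 80294922) (.leaf 34220382)) (.node (.leaf 67675218) (.leaf 182650256))) (.node (.node (.leaf 184562260) (.leaf 318333306)) (.leaf 48538470))) (.node (.node (.node (.leaf 269) (.leaf 26013848)) (.leaf 209564186)) (.node (.node (.leaf 220389141) (.leaf 4295318)) (.leaf 85088137)))) (.node (.node (.node (.node (.leaf 240144042) (.leaf 327734888)) (.node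 (.leaf 36628276) (.leaf 23320449))) (.node (.node (.leaf 8) (.leaf 123966868)) (.leaf 99025137))) (.node (.node (.node (.leaf 4) (.leaf 290838088)) (.leaf 299529920)) (.node (.node (.leaf 287881427) (.leaf 298065738)) (.leaf 216214845))))))

/-- Part of the table `stepT19`. -/
def stepT19_4 : Tr := (.node (.node (.node (.node (.node (.node (.leaf 75) (.leaf 292612674)) (.node (.leaf 113646427) (.leaf 311027615))) (.node (.node (.leaf 232040708) (.leaf 38896971)) (.leaf 27))) (.node (.node (.node (.leaf 120914109) (.leaf 58424537)) (.leaf 238634150)) (.node (.node (.leaf 134328078) (.leaf 48538314)) (.leaf 177886480)))) (.node (.node (.node (.node (.leaf 268164776) (.leaf 62410367)) (.node (.leaf 47377770) (.leaf 90417457))) (.node (.node (.leaf 46446633) (.leaf 261417346)) (.leaf 30))) (.node (.node (.node (.leaf 294966804) (.leaf 46499212)) (.leaf 229932945)) (.node (.node (.leaf 176586460) (.leaf 17048453)) (.leaf 114903592))))) (.node (.node (.node (.node (.node (.leaf 0) (.leaf 231986790)) (.node (.leaf 80295054) (.leaf 111372105))) (.node (.node (.leaf 115670844) (.leaf 165395181)) (.leaf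 183368600))) (.node (.node (.node (.leaf 27866904) (.leaf 49656114)) (.leaf 268165010)) (.node (.node (.leaf 80295022) (.leaf 68569970)) (.leaf 323917560)))) (.node (.node (.node (.node (.leaf 214) (.leaf 160054456)) (.node (.leaf 28481931) (.leaf 138538389))) (.node (.node (.leaf 144276683) (.leaf 46446858)) (.leaf 32))) (.node (.node (.node (.leaf 300673724) (.leaf 216902940)) (.leaf 318206111)) (.node (.node (.leaf 262884193) (.leaf 107048114)) (.leaf 13980785))))))

/-- Part of the table `stepT19`. -/
def stepT19_5 : Tr := (.node (.node (.node (.node (.node (.node (.leaf 268164627) (.leaf 37154685)) (.node (.leaf 35676813) (.leaf 52772762))) (.node (.node (.leaf 5) (.leaf 137191171)) (.leaf 314802239))) (.node (.node (.node (.leaf 178576985) (.leaf 112938060)) (.leaf 17)) (.node (.node (.leaf 192299842) (.leaf 200555646)) (.leaf 34220124)))) (.node (.node (.node (.node (.leaf 161) (.leaf 131824685)) (.node (.leaf 15) (.leaf 243602102))) (.node (.node (.leaf 67675273) (.leaf 57448567)) (.leaf 303125116))) (.node (.node (.node (.leaf 58452528) (.leaf 72239510)) (.leaf 163454803)) (.node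 (.node (.leaf 65716478) (.leaf 105)) (.leaf 73539290))))) (.node (.node (.node (.node (.node (.leaf 100) (.leaf 145449608)) (.node (.leaf 67675217) (.leaf 94536426))) (.node (.node (.leaf 253756995) (.leaf 19350926)) (.leaf 131847487))) (.node (.node (.node (.leaf 34220118) (.leaf 160729816)) (.leaf 76470297)) (.node (.node (.leaf 369) (.leaf 128403865)) (.leaf 13960471)))) (.node (.node (.node (.node (.leaf 74329769) (.leaf 132507847)) (.node (.leaf 282722539) (.leaf 268765545))) (.node (.node (.leaf 243074593) (.leaf 200893707)) (.leaf 114308390))) (.node (.node (.node (.leaf 238895749) (.leaf 262046544)) (.leaf 91109420)) (.node (.node (.leaf 233540948) (.leaf 149588891)) (.leaf 228835181))))))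

/-- Part of the table `stepT19`. -/
def stepT19_6 : Tr := (.node (.node (.node (.node (.node (.node (.leaf 65) (.leaf 154599544)) (.node (.leaf 222356537) (.leaf 12589430))) (.node (.node (.leaf 31783040) (.leaf 164791656)) (.leaf 92138227))) (.node (.node (.node (.leaf 2) (.leaf 218840180)) (.leaf 160346882)) (.node (.node (.leaf 134328079) (.leaf 234005732)) (.leaf 28068173)))) (.node (.node (.node (.node (.leaf 268164775) (.leaf 215878250)) (.node (.leaf 113623263) (.leaf 204163486))) (.node (.node (.leaf 13335252) (.leaf 289864413)) (.leaf 111732819))) (.node (.node (.node (.leaf 303) (.leaf 246232863)) (.leaf 84445988)) (.node (.node (.leaf 314426941) (.leaf 80295285)) (.leaf 1508642))))) (.node (.node (.node (.node (.node (.leaf 67675143) (.leaf 42)) (.node (.leaf 35676801) (.leaf 255888044))) (.node (.node (.leaf 253756992) (.leaf 3265253)) (.leaf 28))) (.node (.node (.node (.leaf 131824913) (.leaf 158978733)) (.leaf 206580013)) (.node (.node (.leaf 80295021) (.leaf 191210233)) (.leaf 120047438)))) (.node (.node (.node (.node (.leaf 188976253) (.leaf 300859602)) (.node (.leaf 399)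 (.leaf 63484287))) (.node (.node (.leaf 35676816) (.leaf 44609266)) (.leaf 296749909))) (.node (.node (.node (.leaf 290838133) (.leaf 188493562)) (.leaf 134733862)) (.node (.node (.leaf 192299549) (.leaf 37154561)) (.leaf 28927664))))))

/-- Part of the table `stepT19`. -/
def stepT19_7 : Tr := (.node (.node (.node (.node (.node (.node (.leaf 131824683) (.leaf 241965889)) (.node (.leaf 12) (.leaf 288412536))) (.node (.node (.leaf 261879369) (.leaf 139295032)) (.leaf 233333051))) (.node (.node (.node (.leaf 239) (.leaf 250661011)) (.leaf 238634147)) (.node (.node (.leaf 67675215) (.leaf 166325124)) (.leaf 49486131)))) (.node (.node (.node (.node (.leaf 185890305) (.leaf 131824690)) (.node (.leaf 242773795) (.leaf 185890483))) (.node (.node (.leaf 57854677) (.leaf 145399473)) (.leaf 303125114))) (.node (.node (.node (.leaf 131824916) (.leaf 36398307)) (.leaf 268165011)) (.node (.node (.leaf 210180919) (.leaf 80295283)) (.leaf 79350469))))) (.node (.node (.node (.node (.node (.leaf 123) (.leaf 192638297)) (.node (.leaf 326225980) (.leaf 115117214))) (.node (.node (.leaf 6) (.leaf 46397766)) (.leaf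 166984286))) (.node (.node (.node (.leaf 131824643) (.leaf 229933170)) (.leaf 290174768)) (.node (.node (.leaf 80295019) (.leaf 265192832)) (.leaf 162651289)))) (.node (.node (.node (.node (.leaf 198) (.leaf 268521140)) (.node (.leaf 63316123) (.leaf 186247545))) (.node (.node (.leaf 146059394) (.leaf 31600262)) (.leaf 31))) (.node (.node (.node (.leaf 263617692) (.leaf 249409731)) (.leaf 49548448)) (.node (.node (.leaf 11) (.leaf 286670204)) (.leaf 50107480))))))

/-- Part of the table `stepT19`. -/
def stepT19_8 : Tr := (.node (.node (.node (.node (.node (.node (.leaf 67675149) (.leaf 277357399)) (.node (.leaf 242383615) (.leaf 80295303))) (.node (.node (.leaf 115670852) (.leaf 168871106)) (.leaf 208405785))) (.node (.node (.node (.leaf 17884719) (.leaf 277000244)) (.leaf 185890325)) (.node (.node (.leaf 13335247) (.leaf 246859103)) (.leaf 64808559)))) (.node (.node (.node (.node (.leaf 99127970) (.leaf 103367401)) (.node (.leaf 192299728) (.leaf 72138436))) (.node (.node (.leaf 202627922) (.leaf 200518407)) (.leaf 17884960))) (.node (.node (.node (.leaf 49512504) (.leaf 221633139)) (.leaf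 130829608)) (.node (.node (.leaf 51710801) (.leaf 230036336)) (.leaf 134380306))))) (.node (.node (.node (.node (.node (.leaf 145) (.leaf 231986789)) (.node (.leaf 48857186) (.leaf 157))) (.node (.node (.leaf 67675235) (.leaf 237140815)) (.leaf 60317287))) (.node (.node (.node (.leaf 18402343) (.leaf 53)) (.leaf 314625416)) (.node (.node (.leaf 40652007) (.leaf 141697856)) (.leaf 35)))) (.node (.node (.node (.node (.leaf 219) (.leaf 144295221)) (.node (.leaf 308134078) (.leaf 310809478))) (.node (.node (.leaf 128403656) (.leaf 129865063)) (.leaf 113623189))) (.node (.node (.node (.leaf 287020737) (.leaf 189117129)) (.leaf 24)) (.node (.node (.leaf 38490390) (.leaf 110309789)) (.leaf 173458567))))))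

/-- The table `stepT19`. -/
def stepT19 : Tr := (.node (.node (.node stepT19_1 stepT19_2) (.node stepT19_3 stepT19_4)) (.node (.node stepT19_5 stepT19_6) (.node stepT19_7 stepT19_8)))

/-- Part of the table `stepT20`. -/
def stepT20_1 : Tr := (.node (.node (.node (.node (.node (.node (.leaf 270736903) (.leaf 238210354)) (.node (.leaf 134642426) (.leaf 242380135))) (.node (.node (.leaf 65879795) (.leaf 196808817)) (.leaf 181664561))) (.node (.node (.node (.leaf 223) (.leaf 3591523)) (.leaf 321642656)) (.node (.node (.leaf 365) (.leaf 77505794)) (.leaf 292117132)))) (.node (.node (.node (.node (.leaf 270736978) (.leaf 27702011)) (.node (.leaf 80295044) (.leaf 273537918))) (.node (.node (.leaf 270736907) (.leaf 305491017)) (.leaf 33323787))) (.node (.node (.node (.leaf 56774705) (.leaf 217291063)) (.leaf 151246513)) (.node (.node (.leaf 222372729) (.leaf 6660440)) (.leaf 111071468))))) (.node (.node (.node (.node (.node (.leaf 91) (.leaf 170291503)) (.node (.leaf 146059381) (.leaf 63316120))) (.node (.node (.leaf 307541704) (.leaf 19350926)) (.leaf 301504072))) (.node (.node (.node (.leaf 84055126)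 (.leaf 262599837)) (.leaf 109918443)) (.node (.node (.leaf 320280374) (.leaf 272958342)) (.leaf 34)))) (.node (.node (.node (.node (.leaf 270736920) (.leaf 45)) (.node (.leaf 63316360) (.leaf 183368397))) (.node (.node (.leaf 111420134) (.leaf 47636336)) (.leaf 76741850))) (.node (.node (.node (.leaf 272310840) (.leaf 270736962)) (.leaf 232160319)) (.node (.node (.leaf 51760263) (.leaf 287388874)) (.leaf 57335955))))))

/-- Part of the table `stepT20`. -/
def stepT20_2 : Tr := (.node (.node (.node (.node (.node (.node (.leaf 272310788) (.leaf 130837223)) (.node (.leaf 80295056) (.leaf 185384151))) (.node (.node (.leaf 329) (.leaf 132185422)) (.leaf 221132094))) (.node (.node (.node (.leaf 245) (.leaf 264787857)) (.leaf 138833781)) (.node (.node (.leaf 134328079) (.leaf 93)) (.leaf 211267485)))) (.node (.node (.node (.node (.leaf 270736916) (.leaf 321642547)) (.node (.leaf 214130709) (.leaf 140169012))) (.node (.node (.leaf 50233148) (.leaf 305491281)) (.leaf 272495226))) (.node (.node (.node (.leaf 170141748) (.leaf 270293396)) (.leaf 130755979)) (.node (.node (.leaf 77243685) (.leaf 307393395))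 (.leaf 1508642))))) (.node (.node (.node (.node (.node (.leaf 188653089) (.leaf 205613691)) (.node (.leaf 311269088) (.leaf 247094042))) (.node (.node (.leaf 6) (.leaf 205304150)) (.leaf 42496923))) (.node (.node (.node (.leaf 278) (.leaf 272027189)) (.leaf 270737068)) (.node (.node (.leaf 234513061) (.leaf 191210233)) (.leaf 57230064)))) (.node (.node (.node (.node (.leaf 206) (.leaf 142922647)) (.node (.leaf 321642652) (.leaf 114460023))) (.node (.node (.leaf 32567106) (.leaf 270737051)) (.leaf 113623259))) (.node (.node (.node (.leaf 270736901) (.leaf 19322964)) (.leaf 124178115)) (.node (.node (.leaf 80295055) (.leaf 282237739)) (.leaf 9152167))))))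

/-- Part of the table `stepT20`. -/
def stepT20_3 : Tr := (.node (.node (.node (.node (.node (.node (.leaf 38) (.leaf 84055392)) (.node (.leaf 146059354) (.leaf 117104482))) (.node (.node (.leaf 270737208) (.leaf 1241180)) (.leaf 176696494))) (.node (.node (.node (.leaf 232) (.leaf 106957044)) (.leaf 321642658)) (.node (.node (.leaf 329081041) (.leaf 19784066)) (.leaf 245413166)))) (.node (.node (.node (.node (.leaf 138833418) (.leaf 321642543)) (.node (.leaf 307635338) (.leaf 169631047))) (.node (.node (.leaf 270736912) (.leaf 159881429)) (.leaf 29))) (.node (.node (.node (.leaf 321642771) (.leaf 141747968)) (.leaf 130755978)) (.node (.node (.leaf 196757371) (.leaf 319276877)) (.leaf 22553351))))) (.node (.node (.node (.node (.node (.leaf 234512914) (.leaf 252489537)) (.node (.leaf 307635346) (.leaf 214130866))) (.node (.node (.leaf 305491022) (.leaf 183501131)) (.leaf 308373368))) (.node (.node (.node (.leaf 270) (.leaf 7750831)) (.leaf 270737066)) (.node (.node (.leaf 320280373) (.leaf 89337997)) (.leaf 319260563)))) (.node (.node (.node (.node (.leaf 270736922) (.leaf 276125580)) (.node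 (.leaf 114073946) (.leaf 22635327))) (.node (.node (.leaf 146059394) (.leaf 111601306)) (.leaf 76741848))) (.node (.node (.node (.leaf 272310842) (.leaf 43019871)) (.leaf 11198358)) (.node (.node (.leaf 130561236) (.leaf 324118342)) (.leaf 154548352))))))

/-- Part of the table `stepT20`. -/
def stepT20_4 : Tr := (.node (.node (.node (.node (.node (.node (.leaf 76) (.leaf 169012547)) (.node (.leaf 214594437) (.leaf 178044264))) (.node (.node (.leaf 106975855) (.leaf 324163962)) (.leaf 208405785))) (.node (.node (.node (.leaf 2) (.leaf 57230041)) (.leaf 138833518)) (.node (.node (.leaf 134328077) (.leaf 235504515)) (.leaf 51627096)))) (.node (.node (.node (.node (.leaf 130755737) (.leaf 44)) (.node (.leaf 305458305) (.leaf 44893370))) (.node (.node (.leaf 77505576) (.leaf 159166284)) (.leaf 171107681))) (.node (.node (.node (.leaf 272310838) (.leaf 330094696)) (.leaf 101477045)) (.node (.node (.leaf 291233823) (.leaf 303524187)) (.leaf 110836777))))) (.node (.node (.node (.node (.node (.leaf 307635213) (.leaf 42)) (.node (.leaf 80295021) (.leaf 111372104))) (.node (.node (.leaf 305491018) (.leaf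 219360068)) (.leaf 28))) (.node (.node (.node (.leaf 275905809) (.leaf 124897506)) (.leaf 228651714)) (.node (.node (.leaf 234513062) (.leaf 175224549)) (.leaf 22553379)))) (.node (.node (.node (.node (.leaf 268676734) (.leaf 104154817)) (.node (.leaf 107570459) (.leaf 329411841))) (.node (.node (.leaf 361) (.leaf 77505795)) (.leaf 113623189))) (.node (.node (.node (.leaf 315) (.leaf 131833028)) (.leaf 270737086)) (.node (.node (.leaf 185383966) (.leaf 208354704)) (.leaf 12301679))))))

/-- Part of the table `stepT20`. -/
def stepT20_5 : Tr := (.node (.node (.node (.node (.node (.node (.leaf 270736897) (.leaf 329411998)) (.node (.leaf 308203670) (.leaf 115871433))) (.node (.node (.leaf 182860427) (.leaf 122243850)) (.leaf 55964446))) (.node (.node (.node (.leaf 269174284) (.leaf 112938059)) (.leaf 321642657)) (.node (.node (.leaf 129621217) (.leaf 156736214)) (.leaf 256394337)))) (.node (.node (.node (.node (.leaf 321642513) (.leaf 256822318)) (.node (.leaf 307635337) (.leaf 278583076))) (.node (.node (.leaf 270736911) (.leaf 305491284)) (.leaf 327669858))) (.node (.node (.node (.leaf 56774704)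 (.leaf 164991680)) (.leaf 263471280)) (.node (.node (.leaf 185236288) (.leaf 145071843)) (.leaf 286982953))))) (.node (.node (.node (.node (.node (.leaf 101) (.leaf 119282237)) (.node (.leaf 307635345) (.leaf 182261427))) (.node (.node (.leaf 305491280) (.leaf 68)) (.leaf 22526337))) (.node (.node (.node (.leaf 110836982) (.leaf 310988017)) (.leaf 270737065)) (.node (.node (.leaf 320280371) (.leaf 94)) (.leaf 5870813)))) (.node (.node (.node (.node (.leaf 270736921) (.leaf 132507846)) (.node (.leaf 214130710) (.leaf 316406475))) (.node (.node (.leaf 146059395) (.leaf 270737047)) (.leaf 111071526))) (.node (.node (.node (.leaf 272310841) (.leaf 270736963)) (.leaf 214469247)) (.node (.node (.leaf 222372471) (.leaf 222372464)) (.leaf 228835180))))))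

/-- Part of the table `stepT20`. -/
def stepT20_6 : Tr := (.node (.node (.node (.node (.node (.node (.leaf 270736956) (.leaf 178272511)) (.node (.leaf 270737029) (.leaf 263260294))) (.node (.node (.leaf 120185149) (.leaf 248266655)) (.leaf 301504077))) (.node (.node (.node (.leaf 120914109) (.leaf 82857588)) (.leaf 138833516)) (.node (.node (.leaf 9) (.leaf 97970559)) (.leaf 142333294)))) (.node (.node (.node (.node (.leaf 130755732) (.leaf 243306271)) (.node (.leaf 113623262) (.leaf 328495997))) (.node (.node (.leaf 32566995) (.leaf 252924695)) (.leaf 192141138))) (.node (.node (.node (.leaf 170577196) (.leaf 330094698)) (.leaf 101477046)) (.node (.node (.leaf 146059400) (.leaf 234513060)) (.leaf 36))))) (.node (.node (.node (.node (.node (.leaf 307635214) (.leaf 231986790)) (.node (.leaf 80935786) (.leaf 321642893))) (.node (.node (.leaf 307541701) (.leaf 306050930)) (.leaf 183368600))) (.node (.node (.node (.leaf 280) (.leaf 170141997)) (.leaf 270737069)) (.node (.node (.leaf 80295054) (.leaf 96)) (.leaf 272203847)))) (.node (.node (.node (.node (.leaf 210) (.leaf 22739581)) (.node (.leaf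 128250664) (.leaf 235119332))) (.node (.node (.leaf 356) (.leaf 273276759)) (.leaf 5870825))) (.node (.node (.node (.leaf 236442377) (.leaf 245478469)) (.leaf 134733861)) (.node (.node (.leaf 49459997) (.leaf 320097685)) (.leaf 39108947))))))

/-- Part of the table `stepT20`. -/
def stepT20_7 : Tr := (.node (.node (.node (.node (.node (.node (.leaf 321642539) (.leaf 84055390)) (.node (.leaf 146059353) (.leaf 171269478))) (.node (.node (.leaf 270737209) (.leaf 260647174)) (.leaf 168390332))) (.node (.node (.node (.leaf 113623279) (.leaf 27701998)) (.leaf 281790059)) (.node (.node (.leaf 275798223) (.leaf 44559648)) (.leaf 220255089)))) (.node (.node (.node (.node (.leaf 270736915) (.leaf 321642546)) (.node (.leaf 39920376) (.leaf 296457962))) (.node (.node (.leaf 94180439) (.leaf 39108861)) (.leaf 1241173))) (.node (.node (.node (.leaf 321642772) (.leaf 330094697)) (.leaf 208853385)) (.node (.node (.leaf 101997227) (.leaf 307393396)) (.leaf 109790272))))) (.node (.node (.node (.node (.node (.leaf 270736976) (.leaf 46045904)) (.node (.leaf 182860353) (.leaf 214130868))) (.node (.node (.leaf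 37382433) (.leaf 183501130)) (.leaf 304138649))) (.node (.node (.node (.leaf 321642499) (.leaf 134242684)) (.leaf 43381875)) (.node (.node (.leaf 198209699) (.leaf 176731487)) (.leaf 114556072)))) (.node (.node (.node (.node (.leaf 199) (.leaf 50614430)) (.node (.leaf 270737244) (.leaf 42496716))) (.node (.node (.leaf 8) (.leaf 289831798)) (.leaf 113623260))) (.node (.node (.node (.leaf 272310843) (.leaf 62)) (.leaf 270737083)) (.node (.node (.leaf 202106636) (.leaf 196757106)) (.leaf 22553360))))))

/-- Part of the table `stepT20`. -/
def stepT20_8 : Tr := (.node (.node (.node (.node (.node (.node (.leaf 270736896) (.leaf 27702002)) (.node (.leaf 53655160) (.leaf 10846543))) (.node (.node (.leaf 163073773) (.leaf 140256658)) (.leaf 27))) (.node (.node (.node (.leaf 110836983) (.leaf 182860583)) (.leaf 64904956)) (.node (.node (.leaf 270736975) (.leaf 165742464)) (.leaf 250195716)))) (.node (.node (.node (.node (.leaf 270736919) (.leaf 247031637)) (.node (.leaf 270737241) (.leaf 185721628))) (.node (.node (.leaf 94180435) (.leaf 183903581)) (.leaf 268676996))) (.node (.node (.node (.leaf 272310839)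 (.leaf 180078896)) (.leaf 157155727)) (.node (.node (.leaf 222372473) (.leaf 8288156)) (.leaf 110836775))))) (.node (.node (.node (.node (.node (.leaf 270736977) (.leaf 231986788)) (.node (.leaf 80295036) (.leaf 279191735))) (.node (.node (.leaf 270736999) (.leaf 14887815)) (.leaf 151363171))) (.node (.node (.node (.leaf 321642770) (.leaf 121159944)) (.leaf 108257578)) (.node (.node (.leaf 48738886) (.leaf 18281214)) (.leaf 113623075)))) (.node (.node (.node (.node (.leaf 315834998) (.leaf 174932245)) (.node (.leaf 321642655) (.leaf 185973573))) (.node (.node (.leaf 108948282) (.leaf 252245355)) (.leaf 32))) (.node (.node (.node (.leaf 166030520) (.leaf 108445594)) (.leaf 270737087)) (.node (.node (.leaf 240014009) (.leaf 74843493)) (.leaf 192840965))))))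

/-- The table `stepT20`. -/
def stepT20 : Tr := (.node (.node (.node stepT20_1 stepT20_2) (.node stepT20_3 stepT20_4)) (.node (.node stepT20_5 stepT20_6) (.node stepT20_7 stepT20_8)))

/-- Part of the table `stepT21`. -/
def stepT21_1 : Tr := (.node (.node (.node (.node (.node (.node (.leaf 236294157) (.leaf 267387051)) (.node (.leaf 219509009) (.leaf 51652465))) (.node (.node (.leaf 233661006) (.leaf 238151837)) (.leaf 53486385))) (.node (.node (.node (.leaf 3557049) (.leaf 18402518)) (.leaf 17023135)) (.node (.node (.leaf 136067690) (.leaf 221536887)) (.leaf 42326357)))) (.node (.node (.node (.node (.leaf 236294282) (.leaf 34623079)) (.node (.leaf 37660193) (.leaf 244209534))) (.node (.node (.leaf 222372495) (.leaf 232091449)) (.leaf 243907417))) (.node (.node (.node (.leaf 152558635) (.leaf 160094946)) (.leaf 95148692)) (.node (.node (.leaf 65309386) (.leaf 802672)) (.leaf 35))))) (.node (.node (.node (.node (.node (.leaf 92) (.leaf 256999820)) (.node (.leaf 110938328) (.leaf 270737288))) (.node (.node (.leaf 298764569) (.leaf 318333306)) (.leaf 263004870))) (.node (.node (.node (.leaf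 114903796) (.leaf 276039793)) (.leaf 65763563)) (.node (.node (.leaf 75672629) (.leaf 307393384)) (.leaf 5870813)))) (.node (.node (.node (.node (.leaf 296021018) (.leaf 262964029)) (.node (.leaf 270737048) (.leaf 182050201))) (.node (.node (.leaf 237140579) (.leaf 326226264)) (.leaf 53160072))) (.node (.node (.node (.leaf 164991661) (.leaf 58518339)) (.leaf 300536004)) (.node (.node (.leaf 165429791) (.leaf 74582393)) (.leaf 329253112))))))

/-- Part of the table `stepT21`. -/
def stepT21_2 : Tr := (.node (.node (.node (.node (.node (.node (.leaf 59) (.leaf 110428801)) (.node (.leaf 12) (.leaf 126))) (.node (.node (.leaf 330) (.leaf 8582727)) (.leaf 308594872))) (.node (.node (.node (.leaf 246) (.leaf 38802833)) (.leaf 268879239)) (.node (.node (.leaf 65066765) (.leaf 70867075)) (.leaf 320360850)))) (.node (.node (.node (.node (.leaf 303723653) (.leaf 152424153)) (.node (.leaf 72953008) (.leaf 180738452))) (.node (.node (.leaf 286962373) (.leaf 246220453)) (.leaf 302684957))) (.node (.node (.node (.leaf 113886380) (.leaf 323549492)) (.leaf 16980363)) (.node (.node (.leaf 283626771) (.leaf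 107)) (.leaf 114903592))))) (.node (.node (.node (.node (.node (.leaf 132) (.leaf 34623074)) (.node (.leaf 65066775) (.leaf 125644040))) (.node (.node (.leaf 24317755) (.leaf 104585586)) (.leaf 48468838))) (.node (.node (.node (.leaf 58424542) (.leaf 152635190)) (.leaf 18571316)) (.node (.node (.leaf 233443153) (.leaf 227549973)) (.leaf 58424559)))) (.node (.node (.node (.node (.leaf 54039646) (.leaf 70848193)) (.node (.leaf 198473274) (.leaf 323134876))) (.node (.node (.leaf 8) (.leaf 59603110)) (.leaf 255))) (.node (.node (.node (.leaf 222372491) (.leaf 8582733)) (.leaf 286719051)) (.node (.node (.leaf 11) (.leaf 294683947)) (.leaf 5870845))))))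

/-- Part of the table `stepT21`. -/
def stepT21_3 : Tr := (.node (.node (.node (.node (.node (.node (.leaf 39) (.leaf 29697145)) (.node (.leaf 329252961) (.leaf 299636453))) (.node (.node (.leaf 46795526) (.leaf 1241179)) (.leaf 248219519))) (.node (.node (.node (.leaf 233) (.leaf 328070230)) (.leaf 17)) (.node (.node (.leaf 65066764) (.leaf 237140846)) (.leaf 254207280)))) (.node (.node (.node (.node (.leaf 23929486) (.leaf 299296445)) (.node (.leaf 222372434) (.leaf 329698020))) (.node (.node (.leaf 222372498) (.leaf 327299338)) (.leaf 1241173))) (.node (.node (.node (.leaf 293) (.leaf 221294195)) (.leaf 16980362)) (.node (.node (.leaf 74582395) (.leaf 32528716)) (.leaf 169776882))))) (.node (.node (.node (.node (.node (.leaf 109) (.leaf 321557842)) (.node (.leaf 236294160) (.leaf 1541810))) (.node (.node (.leaf 134725363) (.leaf 68)) (.leaf 34010224))) (.node (.node (.node (.leaf 34622985) (.leaf 321642794)) (.leaf 107147967)) (.node (.node (.leaf 150369888) (.leaf 254362223)) (.leaf 23110035)))) (.node (.node (.node (.node (.leaf 296021016) (.leaf 297634607)) (.node (.leaf 777882) (.leaf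 323514266))) (.node (.node (.leaf 46446817) (.leaf 270737242)) (.leaf 180422261))) (.node (.node (.node (.leaf 263617692) (.leaf 52239559)) (.leaf 145617814)) (.node (.node (.leaf 236294269) (.leaf 298065736)) (.leaf 27619374))))))

/-- Part of the table `stepT21`. -/
def stepT21_4 : Tr := (.node (.node (.node (.node (.node (.node (.leaf 24317502) (.leaf 59890242)) (.node (.leaf 169776774) (.leaf 328021894))) (.node (.node (.leaf 237140621) (.leaf 174219662)) (.leaf 263004872))) (.node (.node (.node (.leaf 110836983) (.leaf 51)) (.leaf 57574748)) (.node (.node (.leaf 65066767) (.leaf 48606924)) (.leaf 259091151)))) (.node (.node (.node (.node (.leaf 16980121) (.leaf 57229973)) (.node (.leaf 323067111) (.leaf 256470714))) (.node (.node (.leaf 323053346) (.leaf 256719693)) (.leaf 17884960))) (.node (.node (.node (.leaf 185828409) (.leaf 257285420)) (.leaf 298111669)) (.node (.node (.leaf 51579527) (.leaf 270737270)) (.leaf 36))))) (.node (.node (.node (.node (.node (.leaf 222372359) (.leaf 34623077)) (.node (.leaf 34841106) (.leaf 133493574))) (.node (.node (.leaf 245670976) (.leaf 128998637))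 (.leaf 54039913))) (.node (.node (.node (.leaf 18525434) (.leaf 323419959)) (.leaf 300220261)) (.node (.node (.leaf 41510555) (.leaf 237140834)) (.leaf 169776878)))) (.node (.node (.node (.node (.leaf 215) (.leaf 142699415)) (.node (.leaf 238307611) (.leaf 195334401))) (.node (.node (.leaf 37489692) (.leaf 296621143)) (.leaf 114308140))) (.node (.node (.node (.leaf 8582662) (.leaf 63)) (.leaf 296021179)) (.node (.node (.leaf 388) (.leaf 194909072)) (.leaf 22617271))))))

/-- Part of the table `stepT21`. -/
def stepT21_5 : Tr := (.node (.node (.node (.node (.node (.node (.leaf 299307545) (.leaf 195334558)) (.node (.leaf 41832196) (.leaf 210036097))) (.node (.node (.leaf 63315973) (.leaf 287640789)) (.leaf 99498780))) (.node (.node (.node (.leaf 29674640) (.leaf 230601411)) (.leaf 95591447)) (.node (.node (.leaf 329252994) (.leaf 4741987)) (.leaf 34220122)))) (.node (.node (.node (.node (.leaf 162) (.leaf 141318272)) (.node (.leaf 222372433) (.leaf 35778852))) (.node (.node (.leaf 222372497) (.leaf 270865004)) (.leaf 303125115))) (.node (.node (.node (.leaf 3) (.leaf 56885952)) (.leaf 296021013))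 (.node (.node (.leaf 276039976) (.leaf 114364800)) (.leaf 135567421))))) (.node (.node (.node (.node (.node (.leaf 65066538) (.leaf 227639081)) (.node (.leaf 236294159) (.leaf 306591923))) (.node (.node (.leaf 245670979) (.leaf 183501131)) (.leaf 323514057))) (.node (.node (.node (.leaf 110836981) (.leaf 202834697)) (.leaf 286550547)) (.node (.node (.leaf 163304299) (.leaf 37489870)) (.leaf 34)))) (.node (.node (.node (.node (.leaf 299307521) (.leaf 311978568)) (.node (.leaf 1541654) (.leaf 282522008))) (.node (.node (.leaf 236294237) (.leaf 136958672)) (.leaf 152825108))) (.node (.node (.node (.leaf 217925174) (.leaf 232877904)) (.leaf 37019168)) (.node (.node (.leaf 37486850) (.leaf 74582392)) (.leaf 17884959))))))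

/-- Part of the table `stepT21`. -/
def stepT21_6 : Tr := (.node (.node (.node (.node (.node (.node (.leaf 63316033) (.leaf 124552923)) (.node (.leaf 303723540) (.leaf 76314501))) (.node (.node (.leaf 180600877) (.leaf 145648453)) (.leaf 315072084))) (.node (.node (.node (.leaf 17884719) (.leaf 50)) (.leaf 212724052)) (.node (.node (.leaf 65066766) (.leaf 300220078)) (.leaf 314009986)))) (.node (.node (.node (.node (.leaf 296021169) (.leaf 226090348)) (.node (.leaf 111071510) (.leaf 115266429))) (.node (.node (.leaf 32566994) (.leaf 23334624)) (.leaf 310138177))) (.node (.node (.node (.leaf 73591912) (.leaf 40381293)) (.leaf 298111670)) (.node (.node (.leaf 238475482) (.leaf 228675407)) (.leaf 110836777))))) (.node (.node (.node (.node (.node (.leaf 236294144) (.leaf 34623076)) (.node (.leaf 237140550) (.leaf 85324071))) (.node (.node (.leaf 24317756) (.leaf 190644054)) (.leaf 322970315))) (.node (.node (.node (.leaf 222629445) (.leaf 217413687)) (.leaf 181664312)) (.node (.node (.leaf 10) (.leaf 58322229)) (.leaf 251556686)))) (.node (.node (.node (.node (.leaf 211) (.leaf 287574740)) (.node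 (.leaf 199043392) (.leaf 72973127))) (.node (.node (.leaf 236294233) (.leaf 80545117)) (.leaf 5870824))) (.node (.node (.node (.leaf 170096369) (.leaf 174382872)) (.leaf 294098194)) (.node (.node (.leaf 236294266) (.leaf 57585557)) (.leaf 5870844))))))

/-- Part of the table `stepT21`. -/
def stepT21_7 : Tr := (.node (.node (.node (.node (.node (.node (.leaf 49) (.leaf 122806867)) (.node (.leaf 70867300) (.leaf 243702683))) (.node (.node (.leaf 233661001) (.leaf 58518328)) (.leaf 256440609))) (.node (.node (.node (.leaf 240) (.leaf 243018019)) (.leaf 148832115)) (.node (.node (.leaf 237140568) (.leaf 24370529)) (.leaf 257220967)))) (.node (.node (.node (.node (.leaf 286550697) (.leaf 219047028)) (.node (.leaf 326226067) (.leaf 20100842))) (.node (.node (.leaf 151121155) (.leaf 155308199)) (.leaf 29))) (.node (.node (.node (.leaf 294) (.leaf 110774623)) (.leaf 297258889)) (.node (.node (.leaf 242296114) (.leaf 174124195)) (.leaf 192271434))))) (.node (.node (.node (.node (.node (.leaf 124) (.leaf 34623127)) (.node (.leaf 222372412) (.leaf 1541812))) (.node (.node (.leaf 298512060) (.leaf 183501129))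 (.leaf 323569357))) (.node (.node (.node (.leaf 152558640) (.leaf 295117692)) (.leaf 267387136)) (.node (.node (.leaf 372) (.leaf 241851497)) (.leaf 15014056)))) (.node (.node (.node (.node (.leaf 34506847) (.leaf 137151134)) (.node (.leaf 44088430) (.leaf 193353603))) (.node (.node (.leaf 32567106) (.leaf 123732315)) (.leaf 229302533))) (.node (.node (.node (.leaf 4) (.leaf 8582732)) (.leaf 296021182)) (.node (.node (.leaf 287881425) (.leaf 74582130)) (.leaf 50456655))))))

/-- Part of the table `stepT21`. -/
def stepT21_8 : Tr := (.node (.node (.node (.node (.node (.node (.leaf 222372366) (.leaf 243017991)) (.node (.leaf 3667574) (.leaf 186996388))) (.node (.node (.leaf 24317764) (.leaf 69373341)) (.leaf 40340794))) (.node (.node (.node (.leaf 2) (.leaf 71103373)) (.leaf 159247699)) (.node (.node (.leaf 65066768) (.leaf 177634019)) (.leaf 321204886)))) (.node (.node (.node (.node (.leaf 99127969) (.leaf 34623116)) (.node (.leaf 65066763) (.leaf 285871390))) (.node (.node (.leaf 296621406) (.leaf 222705495)) (.leaf 30))) (.node (.node (.node (.leaf 204068141) (.leaf 323011886)) (.leaf 108489470))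 (.node (.node (.leaf 164769120) (.leaf 241579895)) (.leaf 110836774))))) (.node (.node (.node (.node (.node (.leaf 236294281) (.leaf 34623078)) (.node (.leaf 222372432) (.leaf 206458735))) (.node (.node (.leaf 64457467) (.leaf 228047221)) (.leaf 262574310))) (.node (.node (.node (.leaf 18402341) (.leaf 303593242)) (.leaf 180738223)) (.node (.node (.leaf 261481834) (.leaf 194655631)) (.leaf 114308332)))) (.node (.node (.node (.node (.leaf 133710456) (.leaf 18402553)) (.node (.leaf 17023136) (.leaf 270737311))) (.node (.node (.leaf 18030619) (.leaf 12768563)) (.leaf 177392255))) (.node (.node (.node (.leaf 318) (.leaf 210036031)) (.leaf 50778794)) (.node (.node (.leaf 129576159) (.leaf 167572674)) (.leaf 220))))))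

/-- The table `stepT21`. -/
def stepT21 : Tr := (.node (.node (.node stepT21_1 stepT21_2) (.node stepT21_3 stepT21_4)) (.node (.node stepT21_5 stepT21_6) (.node stepT21_7 stepT21_8)))

/-- Part of the table `stepT22`. -/
def stepT22_1 : Tr := (.node (.node (.node (.node (.node (.node (.leaf 15) (.leaf 85665536)) (.node (.leaf 46219807) (.leaf 236294263))) (.node (.node (.leaf 261879371) (.leaf 291180657)) (.leaf 251900574))) (.node (.node (.node (.leaf 149) (.leaf 196983617)) (.leaf 16830111)) (.node (.node (.leaf 80295276) (.leaf 24570737)) (.leaf 39726114)))) (.node (.node (.node (.node (.leaf 151) (.leaf 39147619)) (.node (.leaf 175683906) (.leaf 246715259))) (.node (.node (.leaf 279640349) (.leaf 183199469)) (.leaf 188976274))) (.node (.node (.node (.leaf 48327284) (.leaf 323743024)) (.leaf 263471281)) (.node (.node (.leaf 230486730) (.leaf 323742874)) (.leaf 184415508))))) (.node (.node (.node (.node (.node (.leaf 35676684) (.leaf 323742984)) (.node (.leaf 163732766) (.leaf 206083320))) (.node (.node (.leaf 307541703) (.leaf 46397766)) (.leaf 27))) (.node (.node (.node (.leaf 2) (.leaf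 149257885)) (.leaf 144622993)) (.node (.node (.leaf 329252968) (.leaf 144622793)) (.leaf 196510348)))) (.node (.node (.node (.node (.leaf 57724442) (.leaf 57230079)) (.node (.leaf 85665427) (.leaf 85665689))) (.node (.node (.leaf 39726183) (.leaf 85665626)) (.leaf 3809687))) (.node (.node (.node (.leaf 323742776) (.leaf 60)) (.leaf 281166601)) (.node (.node (.leaf 283680017) (.leaf 296779129)) (.leaf 192247176))))))

/-- Part of the table `stepT22`. -/
def stepT22_2 : Tr := (.node (.node (.node (.node (.node (.node (.leaf 323742724) (.leaf 174109837)) (.node (.leaf 35676764) (.leaf 9491806))) (.node (.node (.leaf 331) (.leaf 67)) (.leaf 297))) (.node (.node (.node (.leaf 35994671) (.leaf 507627)) (.leaf 238078118)) (.node (.node (.leaf 134328078) (.leaf 77505761)) (.leaf 267460935)))) (.node (.node (.node (.node (.leaf 180738068) (.leaf 192673520)) (.node (.leaf 149257749) (.leaf 139883420))) (.node (.node (.leaf 50233147) (.leaf 97723231)) (.leaf 188976271))) (.node (.node (.node (.leaf 323742772) (.leaf 57725303)) (.leaf 406)) (.node (.node (.leaf 49309744) (.leaf 329252973)) (.leaf 114903591)))))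 (.node (.node (.node (.node (.node (.leaf 35676680) (.leaf 177515730)) (.node (.leaf 134440168) (.leaf 218508))) (.node (.node (.leaf 307541701) (.leaf 240381282)) (.leaf 48544614))) (.node (.node (.node (.leaf 124446335) (.leaf 323743020)) (.leaf 180738220)) (.node (.node (.leaf 248928361) (.leaf 80295008)) (.leaf 37303859)))) (.node (.node (.node (.node (.leaf 271074910) (.leaf 70513882)) (.node (.leaf 218268) (.leaf 209610644))) (.node (.node (.leaf 35676804) (.leaf 137378695)) (.leaf 90864957))) (.node (.node (.node (.leaf 312) (.leaf 62)) (.leaf 7569486)) (.node (.node (.leaf 236294266) (.leaf 243641226)) (.leaf 211368615))))))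

/-- Part of the table `stepT22`. -/
def stepT22_3 : Tr := (.node (.node (.node (.node (.node (.node (.leaf 40) (.leaf 280124131)) (.node (.leaf 35676761) (.leaf 260428118))) (.node (.node (.leaf 5) (.leaf 142348944)) (.leaf 150662501))) (.node (.node (.node (.leaf 39726304) (.leaf 37139191)) (.leaf 218129)) (.node (.node (.leaf 35676757) (.leaf 185740620)) (.leaf 318116578)))) (.node (.node (.node (.node (.leaf 318116515) (.leaf 190101749)) (.node (.leaf 192299728) (.leaf 221741981))) (.node (.node (.leaf 345) (.leaf 488801)) (.leaf 182904588))) (.node (.node (.node (.leaf 3) (.leaf 323743026)) (.leaf 294660395)) (.node (.node (.leaf 382) (.leaf 116130670)) (.leaf 35676806))))) (.node (.node (.node (.node (.node (.leaf 329252971) (.leaf 9082211)) (.node (.leaf 37014795) (.leaf 271778684))) (.node (.node (.leaf 35994819) (.leaf 183501129)) (.leaf 282079856))) (.node (.node (.node (.leaf 271) (.leaf 224055587)) (.leaf 76470463)) (.node (.node (.leaf 117351701) (.leaf 190886631)) (.leaf 85665537)))) (.node (.node (.node (.node (.leaf 57724440) (.leaf 182860570)) (.node (.leaf 323743088) (.leaf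 216354207))) (.node (.node (.leaf 35676803) (.leaf 85665624)) (.leaf 96606492))) (.node (.node (.node (.leaf 323742778) (.leaf 294660377)) (.leaf 65102219)) (.node (.node (.leaf 236294268) (.leaf 244073358)) (.leaf 188976246))))))

/-- Part of the table `stepT22`. -/
def stepT22_4 : Tr := (.node (.node (.node (.node (.node (.node (.leaf 77) (.leaf 292612673)) (.node (.leaf 35676914) (.leaf 228365185))) (.node (.node (.leaf 35676801) (.leaf 38896968)) (.leaf 268765279))) (.node (.node (.node (.leaf 84055126) (.leaf 18402543)) (.leaf 238078116)) (.node (.node (.leaf 9) (.leaf 37675212)) (.leaf 42257487)))) (.node (.node (.node (.node (.leaf 55980214) (.leaf 241355961)) (.node (.leaf 85665391) (.leaf 180))) (.node (.node (.leaf 77505574) (.leaf 248887170)) (.leaf 114903765))) (.node (.node (.node (.leaf 323742774) (.leaf 256822)) (.leaf 55980054)) (.node (.node (.leaf 192299770) (.leaf 17910103)) (.leaf 114903589))))) (.node (.node (.node (.node (.node (.leaf 145) (.leaf 231986788)) (.node (.leaf 48395635) (.leaf 226554234))) (.node (.node (.leaf 14443708) (.leaf 138562873)) (.leaf 271075177)))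 (.node (.node (.node (.leaf 48327303) (.leaf 323743022)) (.leaf 291268991)) (.node (.node (.leaf 329253237) (.leaf 11396978)) (.leaf 242490031)))) (.node (.node (.node (.node (.leaf 122806867) (.leaf 138287752)) (.node (.leaf 219374784) (.leaf 148323219))) (.node (.node (.leaf 144622620) (.leaf 36060548)) (.leaf 113623263))) (.node (.node (.node (.leaf 316) (.leaf 136811761)) (.leaf 57724603)) (.node (.node (.leaf 215778903) (.leaf 114)) (.leaf 225947503))))))

/-- Part of the table `stepT22`. -/
def stepT22_5 : Tr := (.node (.node (.node (.node (.node (.node (.leaf 55980057) (.leaf 85665514)) (.node (.leaf 35676742) (.leaf 254655366))) (.node (.node (.leaf 291198726) (.leaf 211622176)) (.leaf 149515381))) (.node (.node (.node (.leaf 84055131) (.leaf 37139187)) (.leaf 73018391)) (.node (.node (.leaf 39726173) (.leaf 63826)) (.leaf 84055396)))) (.node (.node (.node (.node (.leaf 218274) (.leaf 266382456)) (.node (.leaf 14) (.leaf 271074984))) (.node (.node (.leaf 7) (.leaf 292168043)) (.leaf 50505939))) (.node (.node (.node (.leaf 293) (.leaf 200455963)) (.leaf 151246512)) (.node (.node (.leaf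 304513856) (.leaf 31691616)) (.leaf 265223998))))) (.node (.node (.node (.node (.node (.leaf 102) (.leaf 194706104)) (.node (.leaf 13) (.leaf 37304189))) (.node (.node (.leaf 35676743) (.leaf 183501130)) (.leaf 271075176))) (.node (.node (.node (.leaf 238883005) (.leaf 196)) (.leaf 270851603)) (.node (.node (.leaf 211154028) (.leaf 144622798)) (.leaf 42257749)))) (.node (.node (.node (.node (.leaf 55980033) (.leaf 307309370)) (.node (.leaf 58247861) (.leaf 85665688))) (.node (.node (.leaf 35676802) (.leaf 82)) (.leaf 35676707))) (.node (.node (.node (.leaf 323742777) (.leaf 230587214)) (.leaf 149664534)) (.node (.node (.leaf 225195879) (.leaf 296779128)) (.leaf 321586029))))))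

/-- Part of the table `stepT22`. -/
def stepT22_6 : Tr := (.node (.node (.node (.node (.node (.node (.leaf 66) (.leaf 324266541)) (.node (.leaf 287192709) (.leaf 241832711))) (.node (.node (.leaf 34084059) (.leaf 90079039)) (.leaf 301504076))) (.node (.node (.node (.leaf 114903798) (.leaf 49)) (.leaf 65090867)) (.node (.node (.leaf 134328077) (.leaf 234240706)) (.leaf 199776077)))) (.node (.node (.node (.node (.leaf 149257876) (.leaf 20328042)) (.node (.leaf 32) (.leaf 179))) (.node (.node (.leaf 35676770) (.leaf 21240041)) (.leaf 114903766))) (.node (.node (.node (.leaf 323742773) (.leaf 186274591)) (.leaf 65018009)) (.node (.node (.leaf 238883009) (.leaf 329252974)) (.leaf 151073554))))) (.node (.node (.node (.node (.node (.leaf 137) (.leaf 231986789)) (.node (.leaf 232040708) (.leaf 218509))) (.node (.node (.leaf 6) (.leaf 275002085)) (.leaf 287435))) (.node (.node (.node (.leaf 325473029) (.leaf 323743021)) (.leaf 180738221)) (.node (.node (.leaf 329253236) (.leaf 328426745)) (.leaf 142021968)))) (.node (.node (.node (.node (.leaf 188976251) (.leaf 271602256)) (.node (.leaf 149258024)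 (.leaf 193404818))) (.node (.node (.leaf 39726177) (.leaf 92309339)) (.leaf 35994903))) (.node (.node (.node (.leaf 304882239) (.leaf 68707036)) (.leaf 149515305)) (.node (.node (.leaf 11) (.leaf 37304201)) (.leaf 1475411))))))

/-- Part of the table `stepT22`. -/
def stepT22_7 : Tr := (.node (.node (.node (.node (.node (.node (.leaf 50) (.leaf 215)) (.node (.leaf 35676762) (.leaf 141658011))) (.node (.node (.leaf 324) (.leaf 14933643)) (.leaf 37139018))) (.node (.node (.node (.leaf 35676889) (.leaf 213497130)) (.leaf 318116370)) (.node (.node (.leaf 37014800) (.leaf 27578122)) (.leaf 150118146)))) (.node (.node (.node (.node (.leaf 270851753) (.leaf 43)) (.node (.leaf 85665432) (.leaf 201844126))) (.node (.node (.leaf 151120926) (.leaf 11650813)) (.leaf 50505937))) (.node (.node (.node (.leaf 37304044) (.leaf 8270501)) (.leaf 405)) (.node (.node (.leaf 182860403) (.leaf 117838990)) (.leaf 35994913))))) (.node (.node (.node (.node (.node (.leaf 125) (.leaf 39147658)) (.node (.leaf 22820163) (.leaf 56472250))) (.node (.node (.leaf 253756992) (.leaf 68)) (.leaf 84173))) (.node (.node (.node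 (.leaf 275) (.leaf 307309234)) (.leaf 180738219)) (.node (.node (.leaf 329252874) (.leaf 307853649)) (.leaf 557348)))) (.node (.node (.node (.node (.leaf 200) (.leaf 242490161)) (.node (.leaf 45422415) (.leaf 121531779))) (.node (.node (.leaf 77505569) (.leaf 101500765)) (.leaf 36839493))) (.node (.node (.node (.leaf 323742779) (.leaf 19322964)) (.leaf 57724606)) (.node (.node (.leaf 192299549) (.leaf 250706320)) (.leaf 314427087))))))

/-- Part of the table `stepT22`. -/
def stepT22_8 : Tr := (.node (.node (.node (.node (.node (.node (.leaf 81) (.leaf 180597637)) (.node (.leaf 49309742) (.leaf 253485916))) (.node (.node (.leaf 35676745) (.leaf 169093348)) (.leaf 301504072))) (.node (.node (.node (.leaf 114903796) (.leaf 85665575)) (.leaf 188077308)) (.node (.node (.leaf 39726168) (.leaf 275079289)) (.leaf 256014186)))) (.node (.node (.node (.node (.leaf 99333793) (.leaf 37139165)) (.node (.leaf 16) (.leaf 47251160))) (.node (.node (.leaf 190082174) (.leaf 18904950)) (.leaf 259))) (.node (.node (.node (.leaf 323742775) (.leaf 323743031)) (.leaf 16052111)) (.node (.node (.leaf 236294528) (.leaf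 7713076)) (.leaf 35994914))))) (.node (.node (.node (.node (.node (.leaf 0) (.leaf 42)) (.node (.leaf 192299732) (.leaf 116503735))) (.node (.node (.leaf 21240038) (.leaf 41307803)) (.leaf 290838267))) (.node (.node (.node (.leaf 37138980) (.leaf 323743023)) (.leaf 200455918)) (.node (.node (.leaf 85665430) (.leaf 196164862)) (.leaf 17884966)))) (.node (.node (.node (.node (.leaf 46219904) (.leaf 228353333)) (.node (.leaf 16830112) (.leaf 238470042))) (.node (.node (.leaf 128403654) (.leaf 73705300)) (.leaf 113623262))) (.node (.node (.node (.leaf 304882237) (.leaf 90079045)) (.leaf 74329770)) (.node (.node (.leaf 142323244) (.leaf 316602542)) (.leaf 111071512))))))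

/-- The table `stepT22`. -/
def stepT22 : Tr := (.node (.node (.node stepT22_1 stepT22_2) (.node stepT22_3 stepT22_4)) (.node (.node stepT22_5 stepT22_6) (.node stepT22_7 stepT22_8)))

/-- Part of the table `stepT23`. -/
def stepT23_1 : Tr := (.node (.node (.node (.node (.node (.node (.leaf 16) (.leaf 309572402)) (.node (.leaf 23502141) (.leaf 290996587))) (.node (.node (.leaf 223456318) (.leaf 60260136)) (.leaf 196344625))) (.node (.node (.node (.leaf 224) (.leaf 306991363)) (.leaf 13898402)) (.node (.node (.leaf 61496652) (.leaf 70629996)) (.leaf 32)))) (.node (.node (.node (.node (.leaf 0) (.leaf 42)) (.node (.leaf 35676762) (.leaf 218512))) (.node (.node (.leaf 149616849) (.leaf 279257739)) (.leaf 188976273))) (.node (.node (.node (.leaf 79577) (.leaf 186563383)) (.leaf 68028949)) (.node (.node (.leaf 229833418) (.leaf 323917466)) (.leaf 184415507))))) (.node (.node (.node (.node (.node (.leaf 93) (.leaf 39181615)) (.node (.leaf 35994921) (.leaf 272184979))) (.node (.node (.leaf 48857217) (.leaf 323917640)) (.leaf 46637718))) (.node (.node (.node (.leaf 238883005) (.leaf 10389824)) (.leaf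 87984875)) (.node (.node (.leaf 58088246) (.leaf 143867081)) (.leaf 22298846)))) (.node (.node (.node (.node (.leaf 53899289) (.leaf 321642769)) (.node (.leaf 319500024) (.leaf 59622809))) (.node (.node (.leaf 39726182) (.leaf 240451418)) (.leaf 281711369))) (.node (.node (.node (.leaf 243718789) (.leaf 230587214)) (.leaf 407)) (.node (.node (.leaf 165430015) (.leaf 107802489)) (.leaf 292379800))))))

/-- Part of the table `stepT23`. -/
def stepT23_2 : Tr := (.node (.node (.node (.node (.node (.node (.leaf 323917364) (.leaf 169921305)) (.node (.leaf 236294274) (.leaf 185384202))) (.node (.node (.leaf 323917380) (.leaf 66)) (.leaf 203585310))) (.node (.node (.node (.leaf 247) (.leaf 218233233)) (.leaf 84503203)) (.node (.node (.leaf 13335247) (.leaf 91)) (.leaf 82381028)))) (.node (.node (.node (.node (.leaf 173) (.leaf 43)) (.node (.leaf 58247857) (.leaf 140375452))) (.node (.node (.leaf 92481825) (.leaf 117706873)) (.leaf 29))) (.node (.node (.node (.leaf 323917316) (.leaf 65578871)) (.leaf 149258123)) (.node (.node (.leaf 323917347) (.leaf 228675407)) (.leaf 134380306))))) (.node (.node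 (.node (.node (.node (.leaf 48857185) (.leaf 218840188)) (.node (.leaf 311269087) (.leaf 109571354))) (.node (.node (.leaf 305491018) (.leaf 15534688)) (.leaf 49004390))) (.node (.node (.node (.leaf 79581) (.leaf 323917365)) (.leaf 181664315)) (.node (.node (.leaf 77628768) (.leaf 139929954)) (.leaf 37303858)))) (.node (.node (.node (.node (.leaf 171027550) (.leaf 198725183)) (.node (.leaf 397) (.leaf 200492948))) (.node (.node (.leaf 236294233) (.leaf 23522446)) (.leaf 31))) (.node (.node (.node (.leaf 313) (.leaf 7453259)) (.leaf 7569485)) (.node (.node (.leaf 243943180) (.leaf 323917692)) (.leaf 35841363))))))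

/-- Part of the table `stepT23`. -/
def stepT23_3 : Tr := (.node (.node (.node (.node (.node (.node (.leaf 41) (.leaf 217063077)) (.node (.leaf 236294276) (.leaf 63260409))) (.node (.node (.leaf 324) (.leaf 142348931)) (.leaf 84503234))) (.node (.node (.node (.leaf 39726229) (.leaf 47)) (.leaf 13898400)) (.node (.node (.leaf 48857099) (.leaf 139929964)) (.leaf 149575470)))) (.node (.node (.node (.node (.leaf 166) (.leaf 200882932)) (.node (.leaf 14) (.leaf 287192978))) (.node (.node (.leaf 7) (.leaf 118002814)) (.leaf 272495226))) (.node (.node (.node (.leaf 37304044) (.leaf 292209408)) (.leaf 325832882)) (.node (.node (.leaf 323917426) (.leaf 106)) (.leaf 236294533))))) (.node (.node (.node (.node (.node (.leaf 110) (.leaf 268676996)) (.node (.leaf 13) (.leaf 101163402))) (.node (.node (.leaf 305491020) (.leaf 323917642)) (.leaf 169537136))) (.node (.node (.node (.leaf 272) (.leaf 293898990)) (.leaf 68627987)) (.node (.node (.leaf 370) (.leaf 95)) (.leaf 325933290)))) (.node (.node (.node (.node (.leaf 1) (.leaf 113856396)) (.node (.leaf 323917680) (.leaf 159944607))) (.node (.node (.leaf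 35676816) (.leaf 150329688)) (.leaf 105238589))) (.node (.node (.node (.leaf 309350183) (.leaf 7453325)) (.leaf 256470934)) (.node (.node (.leaf 130561234) (.leaf 128656250)) (.leaf 321557573))))))

/-- Part of the table `stepT23`. -/
def stepT23_4 : Tr := (.node (.node (.node (.node (.node (.node (.leaf 78) (.leaf 39108679)) (.node (.leaf 55047) (.leaf 304542081))) (.node (.node (.leaf 319418055) (.leaf 323917638)) (.leaf 282554599))) (.node (.node (.node (.leaf 110836982) (.leaf 49)) (.leaf 18)) (.node (.node (.leaf 39726168) (.leaf 37360844)) (.leaf 177886477)))) (.node (.node (.node (.node (.leaf 149257881) (.leaf 103950569)) (.node (.leaf 46637768) (.leaf 145617594))) (.node (.node (.leaf 46446629) (.leaf 270737261)) (.leaf 262050387))) (.node (.node (.node (.leaf 323917613) (.leaf 48086120)) (.leaf 53899445)) (.node (.node (.leaf 176586459) (.leaf 188427101)) (.leaf 110836774))))) (.node (.node (.node (.node (.node (.leaf 146) (.leaf 27702011)) (.node (.leaf 101924188) (.leaf 321723790))) (.node (.node (.leaf 6) (.leaf 138562872)) (.leaf 171027817))) (.node (.node (.node (.leaf 35841069)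 (.leaf 145630946)) (.leaf 325189806)) (.node (.node (.leaf 10) (.leaf 15471893)) (.leaf 293899050)))) (.node (.node (.node (.node (.leaf 110836949) (.leaf 217268420)) (.node (.leaf 201016603) (.leaf 263192990))) (.node (.node (.leaf 143866908) (.leaf 227043171)) (.leaf 22298856))) (.node (.node (.node (.leaf 223456320) (.leaf 189278913)) (.leaf 281930401)) (.node (.node (.leaf 25455442) (.leaf 323917694)) (.leaf 7981967))))))

/-- Part of the table `stepT23`. -/
def stepT23_5 : Tr := (.node (.node (.node (.node (.node (.node (.leaf 26) (.leaf 323917569)) (.node (.leaf 48857160) (.leaf 306044294))) (.node (.node (.leaf 261879369) (.leaf 122243799)) (.leaf 242828094))) (.node (.node (.node (.leaf 225) (.leaf 73774676)) (.leaf 169441982)) (.node (.node (.leaf 48857100) (.leaf 313804887)) (.leaf 33)))) (.node (.node (.node (.node (.leaf 10224287) (.leaf 321642776)) (.node (.leaf 192299728) (.leaf 238640932))) (.node (.node (.leaf 345) (.leaf 235859575)) (.leaf 153697872))) (.node (.node (.node (.leaf 294) (.leaf 196344512)) (.leaf 65018004)) (.node (.node (.leaf 243389085) (.leaf 305491049)) (.leaf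 241448053))))) (.node (.node (.node (.node (.node (.leaf 103) (.leaf 178732248)) (.node (.leaf 37014795) (.leaf 323917705))) (.node (.node (.leaf 253756993) (.leaf 323917641)) (.leaf 171027816))) (.node (.node (.node (.leaf 2) (.leaf 37139080)) (.leaf 185890495)) (.node (.node (.leaf 305491313) (.leaf 143867086)) (.leaf 6107926)))) (.node (.node (.node (.node (.leaf 53899288) (.leaf 193221380)) (.node (.leaf 149257750) (.leaf 32960920))) (.node (.node (.leaf 236294236) (.leaf 81)) (.leaf 54832))) (.node (.node (.node (.leaf 47038519) (.leaf 60)) (.leaf 188344149)) (.node (.node (.leaf 52050260) (.leaf 107802488)) (.leaf 38203266))))))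

/-- Part of the table `stepT23`. -/
def stepT23_6 : Tr := (.node (.node (.node (.node (.node (.node (.leaf 67) (.leaf 275043463)) (.node (.leaf 218481720) (.leaf 236294386))) (.node (.node (.leaf 327299322) (.leaf 20393791)) (.leaf 35841219))) (.node (.node (.node (.leaf 34220118) (.leaf 18402543)) (.leaf 166429442)) (.node (.node (.leaf 270736975) (.leaf 268566885)) (.leaf 231416095)))) (.node (.node (.node (.node (.leaf 68029104) (.leaf 24937838)) (.node (.leaf 39726114) (.leaf 180738453))) (.node (.node (.leaf 39726205) (.leaf 197357241)) (.leaf 110836766))) (.node (.node (.node (.leaf 323917612) (.leaf 180710221)) (.leaf 53899446)) (.node (.node (.leaf 166914801) (.leaf 107)) (.leaf 110836775))))) (.node (.node (.node (.node (.node (.leaf 138) (.leaf 277149926)) (.node (.leaf 115670842) (.leaf 156))) (.node (.node (.leaf 14443708) (.leaf 149061429)) (.leaf 84171))) (.node (.node (.node (.leaf 35841070) (.leaf 323917366)) (.leaf 20)) (.node (.node (.leaf 41510555) (.leaf 270737238)) (.leaf 248599363)))) (.node (.node (.node (.node (.leaf 212) (.leaf 287574739)) (.node (.leaf 163173489)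 (.leaf 164041629))) (.node (.node (.leaf 8) (.leaf 184053110)) (.leaf 54828))) (.node (.node (.node (.leaf 60446938) (.leaf 106139776)) (.leaf 149515304)) (.node (.node (.leaf 39726165) (.leaf 323917693)) (.leaf 52253351))))))

/-- Part of the table `stepT23`. -/
def stepT23_7 : Tr := (.node (.node (.node (.node (.node (.node (.leaf 51) (.leaf 311503136)) (.node (.leaf 175683906) (.leaf 141783963))) (.node (.node (.leaf 5) (.leaf 188001005)) (.leaf 35841221))) (.node (.node (.node (.leaf 323917428) (.leaf 14189231)) (.leaf 84503204)) (.node (.node (.leaf 37014799) (.leaf 227043166)) (.leaf 39153971)))) (.node (.node (.node (.node (.leaf 68628138) (.leaf 192673520)) (.node (.leaf 184278920) (.leaf 68847507))) (.node (.node (.leaf 145075926) (.leaf 35841276)) (.leaf 302684957))) (.node (.node (.node (.leaf 3) (.leaf 47038691)) (.leaf 180738227)) (.node (.node (.leaf 24049835) (.leaf 295832967)) (.leaf 177465659))))) (.node (.node (.node (.node (.node (.leaf 48857186) (.leaf 39147657)) (.node (.leaf 232993104) (.leaf 149257908))) (.node (.node (.leaf 115670844) (.leaf 323917643)) (.leaf 287437)))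 (.node (.node (.node (.leaf 276) (.leaf 84503339)) (.leaf 18896499)) (.node (.node (.leaf 373) (.leaf 288514944)) (.leaf 100467880)))) (.node (.node (.node (.node (.leaf 223960687) (.leaf 136597662)) (.node (.leaf 44088429) (.leaf 252073859))) (.node (.node (.leaf 356) (.leaf 83893079)) (.leaf 229773942))) (.node (.node (.node (.leaf 164991660) (.leaf 201952499)) (.leaf 23)) (.node (.node (.leaf 143) (.leaf 167598459)) (.leaf 22553358))))))

/-- Part of the table `stepT23`. -/
def stepT23_8 : Tr := (.node (.node (.node (.node (.node (.node (.leaf 82) (.leaf 79494)) (.node (.leaf 262753541) (.leaf 319514995))) (.node (.node (.leaf 39108870) (.leaf 323917639)) (.leaf 319352390))) (.node (.node (.node (.leaf 110836981) (.leaf 290278970)) (.leaf 16997629)) (.node (.node (.leaf 9) (.leaf 323750239)) (.leaf 181258950)))) (.node (.node (.node (.node (.leaf 187) (.leaf 174559871)) (.node (.leaf 15) (.leaf 184))) (.node (.node (.leaf 313805153) (.leaf 83893083)) (.leaf 252489537))) (.node (.node (.node (.leaf 39153721) (.leaf 271223088)) (.leaf 169081711)) (.node (.node (.leaf 233192273) (.leaf 7543092))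 (.leaf 36))))) (.node (.node (.node (.node (.node (.leaf 151) (.leaf 39147619)) (.node (.leaf 123) (.leaf 54157566))) (.node (.node (.leaf 270736997) (.leaf 228047220)) (.leaf 60317284))) (.node (.node (.node (.leaf 290) (.leaf 46339336)) (.leaf 65095459)) (.node (.node (.leaf 146596379) (.leaf 268789943)) (.leaf 17884965)))) (.node (.node (.node (.node (.leaf 220) (.leaf 137085157)) (.node (.leaf 10224145) (.leaf 238347162))) (.node (.node (.leaf 362) (.leaf 323786599)) (.leaf 292117132))) (.node (.node (.node (.leaf 217461532) (.leaf 20393797)) (.leaf 268164777)) (.node (.node (.leaf 188806423) (.leaf 278251903)) (.leaf 133710456))))))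

/-- The table `stepT23`. -/
def stepT23 : Tr := (.node (.node (.node stepT23_1 stepT23_2) (.node stepT23_3 stepT23_4)) (.node (.node stepT23_5 stepT23_6) (.node stepT23_7 stepT23_8)))

end Cfsg.Agent.GTwoJTwo
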