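import Cfsg.Agent.Lib.GTwoJTwo.Data
import Cfsg.Agent.Lib.GTwoJTwo.Step0
import Cfsg.Agent.Lib.GTwoJTwo.Step1
import Cfsg.Agent.Lib.GTwoJTwo.Step2
import Cfsg.Agent.Lib.GTwoJTwo.Step3
import Cfsg.Agent.Lib.J2.Ops
import Cfsg.Agent.Lib.GTwoJTwo.Rep

/-!
# The tests for the action on 416 points
-/

set_option autoImplicit false

namespace Cfsg.Agent.GTwoJTwo

open Cfsg.Agent.JTwo (Tr mulP)

/-- A root element. -/
def zP (k : ℕ) : ℕ := zT.get k

/-- A coset representative. -/
def rP (i : ℕ) : ℕ := rT.get i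

/-- The coset table of one root element. -/
def stepT : ℕ → Tr
  | 0 => stepT0 | 1 => stepT1 | 2 => stepT2 | 3 => stepT3 | 4 => stepT4 | 5 => stepT5
  | 6 => stepT6 | 7 => stepT7 | 8 => stepT8 | 9 => stepT9 | 10 => stepT10 | 11 => stepT11
  | 12 => stepT12 | 13 => stepT13 | 14 => stepT14 | 15 => stepT15 | 16 => stepT16 | 17 => stepT17
  | 18 => stepT18 | 19 => stepT19 | 20 => stepT20 | 21 => stepT21 | 22 => stepT22
  | _ => stepT23

/-- The permutation of a root element. -/
def perm (k i : ℕ) : ℕ := (stepT k).get i % 512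

/-- The table of one of the four involutions. -/
def hpermT : ℕ → Tr
  | 0 => hpermT0 | 1 => hpermT1 | 2 => hpermT2 | _ => hpermT3

/-- The permutation of one of the four involutions. -/
def hperm (g i : ℕ) : ℕ := (hpermT g).get i

/-- The action of a word. -/
def app (p : ℕ → ℕ → ℕ) : List ℕ → ℕ → ℕ
  | [], i => i
  | k :: w, i => p k (app p w i)

/-- The image of a set packed in a numeral. -/
def imgMask (p : ℕ → ℕ → ℕ) (w : List ℕ) (K : ℕ) : ℕ :=
  (List.range 416).foldl (fun acc i => bif K.testBit i then acc ||| 2 ^ app p w i else acc) 0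

/-- Adjoin the image of a set meeting its image. -/
def grow (p : ℕ → ℕ → ℕ) (K : ℕ) (w : List ℕ) : ℕ :=
  let I := imgMask p w K
  bif (I &&& K == 0) then K else K ||| I

/-- The set forced by two points. -/
def growAll (p : ℕ → ℕ → ℕ) (ws : List (List ℕ)) (K : ℕ) : ℕ := ws.foldl (grow p) K

/-- Adjoin images under words fixing the base point. -/
def reachAll (p : ℕ → ℕ → ℕ) (ws : List (List ℕ)) (K : ℕ) : ℕ :=
  ws.foldl (fun K w => K ||| imgMask p w K) K

/-- The certificate that a point stabiliser is maximal on an orbit. -/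
def certOk (p : ℕ → ℕ → ℕ) (n q : ℕ) (mask : ℕ) (cert : List (ℕ × List (List ℕ)))
    (ws : List (List ℕ)) : Bool :=
  (ws.all fun w => (w.all fun k => decide (k < n)) && app p w q == q) &&
  (cert.all fun c => decide (c.1 < 416) &&
    (c.2.all fun w => w.all fun k => decide (k < n)) &&
    growAll p c.2 (2 ^ q ||| 2 ^ c.1) &&& mask == mask) &&
  (((reachAll p ws ((cert.map fun c => 2 ^ c.1).foldl (· ||| ·) 0)) ||| 2 ^ q) &&& mask == mask)

/-- The product of a word. -/
def zWord : List ℕ → ℕ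
  | [] => Cfsg.Agent.JTwo.oneP
  | k :: w => mulP (zP k) (zWord w)

/-- Test on one entry of the coset table. -/
def stepOk (k i : ℕ) : Bool :=
  let v := (stepT k).get i
  decide (v % 512 < 416) && decide (v / 512 % 2048 < 1920) && decide (v / 1048576 < 315) &&
    mulP (zP k) (rP i) ==
      mulP (rP (v % 512)) (mulP (Cfsg.Agent.JTwo.hP (v / 512 % 2048)) (Cfsg.Agent.JTwo.vP (v / 1048576)))

/-- Test on one edge of the spanning tree. -/
def parOk (i : ℕ) : Bool :=
  bif (i == 0) then rP i == Cfsg.Agent.JTwo.oneP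
  else
    let v := parT.get i
    decide (v / 32 < i) && decide (v % 32 < 24) && mulP (zP (v % 32)) (rP (v / 32)) == rP i

/-- The parameter of a root element. -/
def param (k : ℕ) : Matrix (Fin 2) (Fin 2) (ZMod 2) := if k % 2 = 0 then 1 else w2

end Cfsg.Agent.GTwoJTwo
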