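import Cfsg.Agent.Lib.GTwoJTwo.Defs

/-!
# Maximal point stabilisers from certificates
-/

set_option autoImplicit false

namespace Cfsg.Agent.GTwoJTwo

universe u v

theorem testBit_foldl {f : ℕ → ℕ} {K j : ℕ} :
    ∀ {l : List ℕ} {acc : ℕ},
      (l.foldl (fun acc i => bif K.testBit i then acc ||| 2 ^ f i else acc) acc).testBit j = true →
        acc.testBit j = true ∨ ∃ i ∈ l, K.testBit i = true ∧ f i = j := by
  intro l
  induction l with
  | nil => intro acc h; exact Or.inl h
  | cons a l ih =>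
    intro acc h
    rw [List.foldl_cons] at h
    rcases ih h with h' | ⟨i, hi, hK, he⟩
    · cases hb : K.testBit a
      · rw [hb, cond_false] at h'; exact Or.inl h'
      · rw [hb, cond_true, Nat.testBit_or, Bool.or_eq_true, Nat.testBit_two_pow] at h'
        rcases h' with h' | h'
        · exact Or.inl h'
        · exact Or.inr ⟨a, List.mem_cons_self, hb, by simpa using h'⟩
    · exact Or.inr ⟨i, List.mem_cons_of_mem _ hi, hK, he⟩

theorem testBit_img {p : ℕ → ℕ → ℕ} {w : List ℕ} {K j : ℕ} (h : (imgMask p w K).testBit j = true) :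
    ∃ i < 416, K.testBit i = true ∧ app p w i = j := by
  rcases testBit_foldl h with h | ⟨i, hi, h⟩
  · simp at h
  · exact ⟨i, List.mem_range.1 hi, h⟩

section

variable {G : Type u} {X : Type v} [Group G] [MulAction G X]

/-- The data of an action presented by tables. -/
structure TableAction (G : Type u) (X : Type v) [Group G] [MulAction G X] where
  n : ℕ
  x : ℕ → G
  c : ℕ → X
  p : ℕ → ℕ → ℕ
  smul_eq : ∀ k < n, ∀ i < 416, x k • c i = c (p k i)
  p_lt : ∀ k < n, ∀ i < 416, p k i < 416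

/-- The element of a word. -/
def TableAction.el (T : TableAction G X) : List ℕ → G
  | [] => 1
  | k :: w => T.x k * T.el w

variable (T : TableAction G X)

theorem TableAction.el_spec : ∀ {w : List ℕ}, (∀ k ∈ w, k < T.n) → ∀ {i : ℕ}, i < 416 →
    app T.p w i < 416 ∧ T.el w • T.c i = T.c (app T.p w i) := by
  intro w
  induction w with
  | nil => intro _ i hi; exact ⟨hi, one_smul _ _⟩
  | cons k w ih =>
    intro h i hi
    obtain ⟨h1, h2⟩ := ih (fun j hj => h j (List.mem_cons_of_mem _ hj)) hi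
    have hk := h k List.mem_cons_self
    exact ⟨T.p_lt k hk _ h1, by rw [TableAction.el, mul_smul, h2, T.smul_eq k hk _ h1]; rfl⟩

/-- A point reached by `L` from the base point. -/
def TableAction.InBlock (L : Subgroup G) (q i : ℕ) : Prop :=
  i < 416 ∧ ∃ l ∈ L, l • T.c q = T.c i

theorem TableAction.grow_sound {L : Subgroup G} {q : ℕ}
    (hL : MulAction.stabilizer G (T.c q) ≤ L) {ws : List (List ℕ)}
    (hws : ∀ w ∈ ws, ∀ k ∈ w, k < T.n) :
    ∀ {K : ℕ}, (∀ j, K.testBit j = true → T.InBlock L q j) →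
      ∀ j, (growAll T.p ws K).testBit j = true → T.InBlock L q j := by
  induction ws with
  | nil => intro K hK; exact hK
  | cons w ws ih =>
    intro K hK
    refine ih (fun v hv => hws v (List.mem_cons_of_mem _ hv)) (K := grow T.p K w) fun j hj => ?_
    have hw := hws w List.mem_cons_self
    simp only [grow] at hj
    cases hb : (imgMask T.p w K &&& K == 0)
    · rw [hb, cond_false, Nat.testBit_or, Bool.or_eq_true] at hj
      rcases hj with hj | hj
      · exact hK j hj
      have hne : imgMask T.p w K &&& K ≠ 0 := by simpa using hb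
      obtain ⟨m, hm⟩ := Nat.exists_testBit_of_ne_zero hne
      rw [Nat.testBit_and, Bool.and_eq_true] at hm
      obtain ⟨a, ha, haK, ham⟩ := testBit_img hm.1
      obtain ⟨-, la, hla, hla'⟩ := hK a haK
      obtain ⟨-, lm, hlm, hlm'⟩ := hK m hm.2
      have hg : T.el w ∈ L := by
        have hs : lm⁻¹ * (T.el w * la) ∈ MulAction.stabilizer G (T.c q) := by
          rw [MulAction.mem_stabilizer_iff, mul_smul, mul_smul, hla', (T.el_spec hw ha).2, ham,
            ← hlm', inv_smul_smul]
        have := L.mul_mem hlm (hL hs)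
        rw [mul_inv_cancel_left] at this
        simpa using L.mul_mem this (L.inv_mem hla)
      obtain ⟨i, hi, hiK, hij⟩ := testBit_img hj
      obtain ⟨-, li, hli, hli'⟩ := hK i hiK
      refine ⟨hij ▸ (T.el_spec hw hi).1, T.el w * li, L.mul_mem hg hli, ?_⟩
      rw [mul_smul, hli', (T.el_spec hw hi).2, hij]
    · rw [hb, cond_true] at hj; exact hK j hj

theorem TableAction.reach_sound {q : ℕ} (hq : q < 416) {ws : List (List ℕ)}
    (hws : ∀ w ∈ ws, (∀ k ∈ w, k < T.n) ∧ app T.p w q = q) {R : ℕ → Prop}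
    (hR : ∀ i, R i → i < 416) :
    ∀ {K : ℕ}, (∀ j, K.testBit j = true →
        j < 416 ∧ ∃ s ∈ MulAction.stabilizer G (T.c q), ∃ r, R r ∧ s • T.c r = T.c j) →
      ∀ j, (reachAll T.p ws K).testBit j = true →
        j < 416 ∧ ∃ s ∈ MulAction.stabilizer G (T.c q), ∃ r, R r ∧ s • T.c r = T.c j := by
  induction ws with
  | nil => intro K hK; exact hK
  | cons w ws ih =>
    intro K hK
    refine ih (fun v hv => hws v (List.mem_cons_of_mem _ hv)) (K := K ||| imgMask T.p w K)
      fun j hj => ?_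
    rw [Nat.testBit_or, Bool.or_eq_true] at hj
    rcases hj with hj | hj
    · exact hK j hj
    obtain ⟨i, hi, hiK, hij⟩ := testBit_img hj
    obtain ⟨hw, hfix⟩ := hws w List.mem_cons_self
    obtain ⟨-, s, hs, r, hr, hsr⟩ := hK i hiK
    refine ⟨hij ▸ (T.el_spec hw hi).1, T.el w * s, mul_mem ?_ hs, r, hr, ?_⟩
    · rw [MulAction.mem_stabilizer_iff, (T.el_spec hw hq).2, hfix]
    · rw [mul_smul, hsr, (T.el_spec hw hi).2, hij]

theorem TableAction.orbit_sound {q : ℕ} {ws : List (List ℕ)}
    (hws : ∀ w ∈ ws, ∀ k ∈ w, k < T.n) :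
    ∀ {K : ℕ}, (∀ j, K.testBit j = true → j < 416 ∧ ∃ g : G, g • T.c q = T.c j) →
      ∀ j, (reachAll T.p ws K).testBit j = true → j < 416 ∧ ∃ g : G, g • T.c q = T.c j := by
  induction ws with
  | nil => intro K hK; exact hK
  | cons w ws ih =>
    intro K hK
    refine ih (fun v hv => hws v (List.mem_cons_of_mem _ hv)) (K := K ||| imgMask T.p w K)
      fun j hj => ?_
    rw [Nat.testBit_or, Bool.or_eq_true] at hj
    rcases hj with hj | hj
    · exact hK j hj
    obtain ⟨i, hi, hiK, hij⟩ := testBit_img hj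
    have hw := hws w List.mem_cons_self
    obtain ⟨-, g, hg⟩ := hK i hiK
    exact ⟨hij ▸ (T.el_spec hw hi).1, T.el w * g, by rw [mul_smul, hg, (T.el_spec hw hi).2, hij]⟩

theorem testBit_foldl_or {j : ℕ} : ∀ {l : List ℕ} {acc : ℕ},
    (l.foldl (· ||| ·) acc).testBit j = true → acc.testBit j = true ∨ ∃ a ∈ l, a.testBit j = true := by
  intro l
  induction l with
  | nil => intro acc h; exact Or.inl h
  | cons a l ih =>
    intro acc h
    rcases ih h with h | ⟨b, hb, h⟩
    · rw [Nat.testBit_or, Bool.or_eq_true] at h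
      rcases h with h | h
      · exact Or.inl h
      · exact Or.inr ⟨a, List.mem_cons_self, h⟩
    · exact Or.inr ⟨b, List.mem_cons_of_mem _ hb, h⟩

theorem TableAction.isCoatom_stabilizer (q mask : ℕ) (cert : List (ℕ × List (List ℕ))) (ws : List (List ℕ))
    (hq : q < 416) (hok : certOk T.p T.n q mask cert ws = true)
    (horb : ∀ g : G, ∃ i < 416, mask.testBit i = true ∧ g • T.c q = T.c i)
    (hmove : MulAction.stabilizer G (T.c q) ≠ ⊤) :
    IsCoatom (MulAction.stabilizer G (T.c q)) := by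
  refine ⟨hmove, fun L hL => ?_⟩
  simp only [certOk, Bool.and_eq_true, List.all_eq_true, decide_eq_true_eq, beq_iff_eq] at hok
  obtain ⟨⟨hws, hcert⟩, hreach⟩ := hok
  obtain ⟨g, hgL, hg⟩ := SetLike.exists_of_lt hL
  obtain ⟨b, hb, hbm, hgb⟩ := horb g
  have hbq : q ≠ b := fun h => hg (MulAction.mem_stabilizer_iff.2 (h ▸ hgb))
  have hb' : ((reachAll T.p ws ((cert.map fun c : ℕ × List (List ℕ) => 2 ^ c.1).foldl (· ||| ·) 0)) ||| 2 ^ q).testBit b
      = true := by
    have := congrArg (fun n => n.testBit b) hreach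
    simp only [Nat.testBit_and, hbm, Bool.and_true] at this
    exact this
  rw [Nat.testBit_or, Bool.or_eq_true, Nat.testBit_two_pow] at hb'
  have hb'' := hb'.resolve_right (by simpa using hbq)
  have hstart : ∀ j, ((cert.map fun c : ℕ × List (List ℕ) => 2 ^ c.1).foldl (· ||| ·) 0).testBit j = true →
      j < 416 ∧ ∃ s ∈ MulAction.stabilizer G (T.c q), ∃ r, (∃ c ∈ cert, c.1 = r) ∧
        s • T.c r = T.c j := by
    intro j hj
    rcases testBit_foldl_or hj with hj | ⟨a, ha, hj⟩
    · simp at hj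
    obtain ⟨c, hc, rfl⟩ := List.mem_map.1 ha
    rw [Nat.testBit_two_pow, decide_eq_true_eq] at hj
    subst hj
    exact ⟨(hcert c hc).1.1, 1, one_mem _, _, ⟨c, hc, rfl⟩, one_smul _ _⟩
  obtain ⟨-, s, hs, r, ⟨c, hc, rfl⟩, hsr⟩ :=
    T.reach_sound hq hws (by rintro i ⟨c, hc, rfl⟩; exact (hcert c hc).1.1) hstart b hb''
  obtain ⟨⟨hc416, hcw⟩, hgrow⟩ := hcert c hc
  have hbase : ∀ j, (2 ^ q ||| 2 ^ c.1).testBit j = true → T.InBlock L q j := by
    intro j hj
    simp only [Nat.testBit_or, Nat.testBit_two_pow, Bool.or_eq_true, decide_eq_true_eq] at hj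
    rcases hj with rfl | rfl
    · exact ⟨hq, 1, one_mem _, one_smul _ _⟩
    · refine ⟨hc416, s⁻¹ * g, L.mul_mem (L.inv_mem (hL.le hs)) hgL, ?_⟩
      rw [mul_smul, hgb, ← hsr, inv_smul_smul]
  refine eq_top_iff.2 fun k _ => ?_
  obtain ⟨i, hi, him, hki⟩ := horb k
  have hi' : (growAll T.p c.2 (2 ^ q ||| 2 ^ c.1)).testBit i = true := by
    have := congrArg (fun n => n.testBit i) hgrow
    simp only [Nat.testBit_and, him, Bool.and_true] at this
    exact this
  obtain ⟨-, l, hl, hl'⟩ := T.grow_sound hL.le hcw hbase i hi'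
  have hst : l⁻¹ * k ∈ MulAction.stabilizer G (T.c q) := by
    rw [MulAction.mem_stabilizer_iff, mul_smul, hki, ← hl', inv_smul_smul]
  simpa using L.mul_mem hl (hL.le hst)

end

end Cfsg.Agent.GTwoJTwo
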