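import Cfsg.Agent.Lib.GTwoJTwo.Engine
import Cfsg.Agent.Lib.GTwoJTwo.Checks0
import Cfsg.Agent.Lib.GTwoJTwo.Checks1
import Cfsg.Agent.Lib.GTwoJTwo.Checks2
import Cfsg.Agent.Lib.GTwoJTwo.Checks3
import Cfsg.Agent.Lib.GTwoJTwo.ChecksM
import Cfsg.Agent.Lib.GTwoJTwo.ChecksO
import Cfsg.Agent.Lib.J2.Link

/-!
# The Hall–Janko group as a maximal subgroup of index 416 in `G₂(4)`
-/

set_option autoImplicit false

set_option maxHeartbeats 1000000

namespace Cfsg.Agent.GTwoJTwo

open Cfsg.Lie Cfsg.Agent.Chev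
open Cfsg.Agent.JTwo (Mat ev mulP oneP gP gU M MM Hm V ev_mulP ev_oneP ev_eq range_all)

attribute [local irreducible] ev mulP

noncomputable section

variable {F : Type*} [Field F] [Fintype F] (hF : Fintype.card F = 4)

include hF in
theorem exists_model : ∃ (ρ : ↥(chevG2.group F) →* Matˣ) (z : ℕ → ↥(chevG2.group F)),
    Function.Injective ρ ∧ (∀ k < 24, ((ρ (z k) : Matˣ) : Mat) = ev (zP k)) ∧
      Subgroup.closure (z '' {k | k < 24}) = ⊤ ∧ ∀ k, z k * z k = 1 := by
  haveI := charTwo hF
  obtain ⟨ω, hω⟩ := exists_omega hF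
  obtain ⟨φ, hφ, hφω⟩ := exists_phi hF hω
  obtain ⟨π, hπ, hπY⟩ := exists_rep (F := F)
  have hb := check_base
  rw [Bool.and_eq_true] at hb
  let U : Matˣ := ⟨ev pP, ev piP, by rw [← ev_mulP, ev_eq hb.1, ev_oneP],
    by rw [← ev_mulP, ev_eq hb.2, ev_oneP]⟩
  let ρ : ↥(chevG2.group F) →* Matˣ :=
    (MulAut.conj U).toMonoidHom.comp ((Units.map (blow φ).toMonoidHom).comp π)
  let tp : ℕ → F := fun k => if k % 2 = 0 then 1 else ω
  let z : ℕ → ↥(chevG2.group F) := fun k => xe ⟨k / 2 % 12, Nat.mod_lt _ (by norm_num)⟩ (tp k)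
  have hρ : Function.Injective ρ := by
    refine (MulAut.conj U).injective.comp ?_
    refine Function.Injective.comp (g := Units.map (blow φ).toMonoidHom) ?_ hπ
    exact Units.map_injective (blow_injective hφ)
  refine ⟨ρ, z, hρ, fun k hk => ?_, ?_, fun k => ?_⟩
  · have hφt : φ (tp k) = param k := by
      by_cases h : k % 2 = 0 <;> simp [tp, param, h, hφω]
    have hk12 : k / 2 % 12 = k / 2 := Nat.mod_eq_of_lt (by omega)
    have hY : blow φ (G2Six.Y (k / 2) (tp k)) = ev (mulP (mulP piP (zP k)) pP) := by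
      ext i j
      rw [blow_Y, hφt]
      have h := check_z
      simp only [List.all_eq_true, List.mem_finRange, true_implies, beq_iff_eq] at h
      exact h ⟨k, hk⟩ i j
    show ((U : Mat) * (blow φ ((π (z k) : GL G2Six.W F) : Matrix G2Six.W G2Six.W F))) *
      ((U⁻¹ : Matˣ) : Mat) = ev (zP k)
    have hpz : π (z k) = G2Six.yu (Nat.mod_lt _ (by norm_num) : k / 2 % 12 < 12) (tp k) :=
      hπY (k / 2 % 12) (Nat.mod_lt _ (by norm_num)) (tp k) _
    rw [hpz]
    show ev pP * blow φ (G2Six.Y (k / 2 % 12) (tp k)) * ev piP = ev (zP k)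
    rw [hk12, hY, ev_mulP, ev_mulP]
    have e1 : ev pP * ev piP = (1 : Mat) := U.val_inv
    calc ev pP * (ev piP * ev (zP k) * ev pP) * ev piP
        = (ev pP * ev piP) * ev (zP k) * (ev pP * ev piP) := by simp only [mul_assoc]
      _ = ev (zP k) := by rw [e1, one_mul, mul_one]
  · rw [eq_top_iff, ← closure_xe, Subgroup.closure_le]
    rintro g ⟨r, t, rfl⟩
    set C := Subgroup.closure (z '' {k | k < 24})
    have hgen : ∀ k < 24, z k ∈ C := fun k hk => Subgroup.subset_closure ⟨k, hk, rfl⟩
    have h1 : xe r (1 : F) ∈ C := by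
      have := hgen (2 * r.val) (by omega)
      simpa [z, tp, Nat.mul_mod_right, Nat.mod_eq_of_lt r.isLt] using this
    have hw : xe r ω ∈ C := by
      have := hgen (2 * r.val + 1) (by omega)
      simpa [z, tp, Nat.mod_eq_of_lt r.isLt, show (2 * r.val + 1) / 2 = r.val by omega,
        show (2 * r.val + 1) % 2 = 1 by omega] using this
    rcases four_cases hF hω t with rfl | rfl | rfl | rfl
    · rw [xe_zero]; exact one_mem C
    · exact h1
    · exact hw
    · rw [← xe_add]; exact C.mul_mem hw h1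
  · show xe _ (tp k) * xe _ (tp k) = 1
    rw [xe_add, CharTwo.add_self_eq_zero, xe_zero]

theorem card_group (hF : Fintype.card F = 4) : Nat.card ↥(chevG2.group F) = 251596800 := by
  rw [Cfsg.Agent.S1059.result hF]
  norm_num

theorem perm_lt {k i : ℕ} (hk : k < 24) (hi : i < 416) :
    perm k i < 416 ∧ stepOk k i = true := by
  have h : (List.range 416).all (stepOk k) = true := by
    interval_cases k
    exacts [check_step0, check_step1, check_step2, check_step3, check_step4, check_step5,
      check_step6, check_step7, check_step8, check_step9, check_step10, check_step11,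
      check_step12, check_step13, check_step14, check_step15, check_step16, check_step17,
      check_step18, check_step19, check_step20, check_step21, check_step22, check_step23]
  have h' := range_all h hi
  refine ⟨?_, h'⟩
  simp only [stepOk, Bool.and_eq_true, decide_eq_true_eq] at h'
  exact h'.1.1.1

include hF in
/-- The main statement. -/
theorem exists_extremely_primitive : ∃ H : Subgroup ↥(chevG2.group F),
    IsCoatom H ∧ Cfsg.Spor.IsoJ2 H ∧ ∀ x : ↥(chevG2.group F), x ∉ H →
      IsCoatom ((H ⊓ H.map (MulAut.conj x).toMonoidHom).subgroupOf H) := by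
  set G := ↥(chevG2.group F)
  obtain ⟨ρ, z, hρ, hz, htop, hzz⟩ := exists_model hF
  haveI : Finite G := Nat.finite_of_card_ne_zero (by rw [card_group hF]; norm_num)
  -- words
  let zel : List ℕ → G := fun w => (w.map z).prod
  have hzel : ∀ w : List ℕ, (∀ k ∈ w, k < 24) → ((ρ (zel w) : Matˣ) : Mat) = ev (zWord w) := by
    intro w
    induction w with
    | nil => intro _; simp [zel, zWord, ev_oneP]
    | cons k w ih =>
      intro h
      have e : zel (k :: w) = z k * zel w := by simp [zel]
      rw [e, map_mul, Units.val_mul, hz k (h k (by simp)),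
        ih (fun j hj => h j (List.mem_cons_of_mem _ hj)), zWord, ev_mulP]
  let ge : ℕ → G := fun g => zel (hgWords.getD g [])
  have hge : ∀ g : Fin 4, ρ (ge g) = gU g := by
    intro g
    have h := range_all check_gens g.isLt
    simp only [Bool.and_eq_true, List.all_eq_true, decide_eq_true_eq] at h
    exact Units.ext ((hzel _ h.1).trans ((ev_eq h.2).trans rfl))
  -- the subgroup
  let H : Subgroup G := M.comap ρ
  have hMr : M ≤ ρ.range := by
    rw [Cfsg.Agent.JTwo.M, Subgroup.closure_le]
    rintro _ ⟨g, rfl⟩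
    exact ⟨ge g, hge g⟩
  have hmap : H.map ρ = M := Subgroup.map_comap_eq_self hMr
  let eH : ↥H ≃* ↥M := (H.equivMapOfInjective ρ hρ).trans (MulEquiv.subgroupCongr hmap)
  have hcardH : Nat.card H = 604800 := by
    rw [Nat.card_congr eH.toEquiv, Cfsg.Agent.JTwo.card_M]
  have hidx : H.index = 416 := by
    have h := H.card_mul_index
    rw [hcardH, card_group hF] at h
    omega
  -- representatives
  have hrep : ∀ i < 416, ∃ u : G, ((ρ u : Matˣ) : Mat) = ev (rP i) := by
    intro i
    induction i using Nat.strong_induction_on with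
    | _ i ih =>
      intro hi
      have h := range_all check_par hi
      unfold parOk at h
      by_cases h0 : i = 0
      · subst h0
        simp only [beq_self_eq_true, cond_true] at h
        exact ⟨1, by rw [map_one, Units.val_one, ev_eq h, ev_oneP]⟩
      · rw [show (i == 0) = false by simpa using h0, cond_false] at h
        simp only [Bool.and_eq_true, decide_eq_true_eq] at h
        obtain ⟨⟨hp, hk⟩, he⟩ := h
        obtain ⟨u, hu⟩ := ih _ hp (by omega)
        exact ⟨z (parT.get i % 32) * u, by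
          rw [map_mul, Units.val_mul, hz _ hk, hu, ← ev_mulP, ev_eq he]⟩
  choose! u hu using hrep
  let c : ℕ → G ⧸ H := fun i => (u i : G ⧸ H)
  have hc0 : c 0 = ((1 : G) : G ⧸ H) := by
    have h := range_all check_par (by norm_num : 0 < 416)
    simp only [parOk, beq_self_eq_true, cond_true] at h
    have : u 0 = 1 := hρ (Units.ext (by rw [hu 0 (by norm_num), ev_eq h, ev_oneP, map_one]; rfl))
    show ((u 0 : G) : G ⧸ H) = _
    rw [this]
  have hstep : ∀ k < 24, ∀ i < 416, z k • c i = c (perm k i) := by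
    intro k hk i hi
    obtain ⟨hj, h⟩ := perm_lt hk hi
    simp only [stepOk, Bool.and_eq_true, decide_eq_true_eq] at h
    obtain ⟨⟨⟨-, hl⟩, hv⟩, he⟩ := h
    obtain ⟨m, hm⟩ := Cfsg.Agent.JTwo.exists_unit (MM.mul_mem
      (Cfsg.Agent.JTwo.HH_le_MM (Cfsg.Agent.JTwo.Hm_mem hl)) (Cfsg.Agent.JTwo.V_mem hv))
    have key : ρ (z k * u i) = ρ (u (perm k i)) * (m : Matˣ) := by
      apply Units.ext
      rw [map_mul, Units.val_mul, Units.val_mul, hz k hk, hu i hi, hu _ hj, hm, ← ev_mulP,
        ev_eq he, ev_mulP, ev_mulP]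
      rfl
    show ((z k * u i : G) : G ⧸ H) = ((u (perm k i) : G) : G ⧸ H)
    rw [eq_comm, QuotientGroup.eq]
    show ρ ((u (perm k i))⁻¹ * (z k * u i)) ∈ M
    rw [map_mul, map_inv, key, inv_mul_cancel_left]
    exact m.2
  let T : TableAction G (G ⧸ H) := ⟨24, z, c, perm, hstep, fun k hk i hi => (perm_lt hk hi).1⟩
  -- all cosets
  have hsurj : ∀ q : G ⧸ H, ∃ i < 416, q = c i := by
    intro q
    obtain ⟨g, rfl⟩ := QuotientGroup.mk_surjective q
    have key : ∀ g : G, ∀ i < 416, ∃ j < 416, g • c i = c j := by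
      intro g
      have hg : g ∈ Subgroup.closure (z '' {k | k < 24}) := by rw [htop]; trivial
      induction hg using Subgroup.closure_induction'' with
      | mem x hx =>
        obtain ⟨k, hk, rfl⟩ := hx
        exact fun i hi => ⟨_, (perm_lt hk hi).1, hstep k hk i hi⟩
      | inv_mem x hx =>
        obtain ⟨k, hk, rfl⟩ := hx
        rw [inv_eq_of_mul_eq_one_right (hzz k)]
        exact fun i hi => ⟨_, (perm_lt hk hi).1, hstep k hk i hi⟩
      | one => exact fun i hi => ⟨i, hi, one_smul _ _⟩
      | mul a b _ _ ha hb =>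
        intro i hi
        obtain ⟨j, hj, e⟩ := hb i hi
        obtain ⟨l, hl, e'⟩ := ha j hj
        exact ⟨l, hl, by rw [mul_smul, e, e']⟩
    obtain ⟨j, hj, e⟩ := key g 0 (by norm_num)
    refine ⟨j, hj, ?_⟩
    rw [← e, hc0]
    show ((g : G) : G ⧸ H) = ((g * 1 : G) : G ⧸ H)
    rw [mul_one]
  have hinj : ∀ i < 416, ∀ j < 416, c i = c j → i = j := by
    have hb : Function.Bijective (fun i : Fin 416 => c i) := by
      refine (Nat.bijective_iff_surjective_and_card _).2 ⟨fun q => ?_, ?_⟩
      · obtain ⟨i, hi, e⟩ := hsurj q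
        exact ⟨⟨i, hi⟩, e.symm⟩
      · rw [Nat.card_fin, ← Subgroup.index_eq_card, hidx]
    intro i hi j hj e
    exact congrArg Fin.val (hb.1 (a₁ := ⟨i, hi⟩) (a₂ := ⟨j, hj⟩) e)
  have hstab : MulAction.stabilizer G (c 0) = H := by
    rw [hc0]; exact MulAction.stabilizer_quotient H
  have hmask : ∀ i < 416, mask_g.testBit i = true ∧
      (i = 0 ∨ mask_h1.testBit i = true ∨ mask_h3.testBit i = true) := by
    intro i hi
    have h := range_all check_mask hi
    simpa only [Bool.and_eq_true, Bool.or_eq_true, decide_eq_true_eq, or_assoc] using h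
  have hco : IsCoatom H := by
    rw [← hstab]
    refine T.isCoatom_stabilizer 0 mask_g cert_g reach_g (by norm_num) check_cert_g
      (fun g => ?_) ?_
    · obtain ⟨i, hi, e⟩ := hsurj (g • c 0)
      exact ⟨i, hi, (hmask i hi).1, e⟩
    · show MulAction.stabilizer G (c 0) ≠ ⊤
      rw [hstab]
      intro h
      rw [h, Subgroup.index_top] at hidx
      norm_num at hidx
  refine ⟨H, hco, ⟨eH.trans Cfsg.Agent.JTwo.equivJ2⟩, fun x hx => ?_⟩
  -- the action of the subgroup
  have hgeH : ∀ g, g < 4 → ge g ∈ H := fun g hg => by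
    show ρ (ge g) ∈ M
    rw [hge ⟨g, hg⟩]
    exact Subgroup.subset_closure ⟨_, rfl⟩
  have hclH : ∀ h : ↥H, (h : G) ∈ Subgroup.closure (ge '' {g | g < 4}) := by
    intro h
    have hm : ρ (h : G) ∈ (Subgroup.closure (ge '' {g | g < 4})).map ρ := by
      rw [MonoidHom.map_closure]
      refine Subgroup.closure_mono ?_ h.2
      rintro _ ⟨g, rfl⟩
      exact ⟨_, ⟨g.val, g.isLt, rfl⟩, hge g⟩
    obtain ⟨y, hy, e⟩ := hm
    exact hρ e ▸ hy
  have hel : ∀ w : List ℕ, (∀ k ∈ w, k < 24) → zel w = T.el w := by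
    intro w
    induction w with
    | nil => intro _; rfl
    | cons k w ih =>
      intro h
      show (List.map z (k :: w)).prod = z k * T.el w
      rw [List.map_cons, List.prod_cons, ← ih (fun j hj => h j (List.mem_cons_of_mem _ hj))]
  have hgc : ∀ g < 4, ∀ i < 416, hperm g i < 416 ∧ ge g • c i = c (hperm g i) := by
    intro g hg i hi
    have h := range_all check_gens hg
    simp only [Bool.and_eq_true, List.all_eq_true, decide_eq_true_eq] at h
    have h2 := range_all (range_all check_hperm hg) hi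
    rw [beq_iff_eq] at h2
    obtain ⟨h3, h4⟩ := T.el_spec (w := hgWords.getD g []) h.1 hi
    refine ⟨h2 ▸ h3, ?_⟩
    show zel _ • T.c i = _
    rw [hel _ h.1, h4, show app T.p (hgWords.getD g []) i = hperm g i from h2]
  let gH : ℕ → ↥H := fun g => if h : g < 4 then ⟨ge g, hgeH g h⟩ else 1
  let TH : TableAction ↥H (G ⧸ H) := ⟨4, gH, c, hperm, fun g hg i hi => by
      show (gH g : G) • c i = _
      simp only [gH, dif_pos hg]
      exact (hgc g hg i hi).2, fun g hg i hi => (hgc g hg i hi).1⟩
  -- the orbit masks are invariant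
  have hinv : ∀ g < 4, ∀ i < 416, (mask_h1.testBit (hperm g i) = mask_h1.testBit i) ∧
      (mask_h3.testBit (hperm g i) = mask_h3.testBit i) := by
    intro g hg i hi
    have h := range_all (range_all check_inv hg) hi
    simpa only [Bool.and_eq_true, beq_iff_eq] using h
  have horb : ∀ (h : ↥H) (i : ℕ), i < 416 → ∃ j < 416, (h : G) • c i = c j ∧
      mask_h1.testBit j = mask_h1.testBit i ∧ mask_h3.testBit j = mask_h3.testBit i := by
    intro h
    have key : ∀ y ∈ Subgroup.closure (ge '' {g | g < 4}), ∀ i < 416, ∃ j < 416, y • c i = c j ∧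
        mask_h1.testBit j = mask_h1.testBit i ∧ mask_h3.testBit j = mask_h3.testBit i := by
      intro y hy
      induction hy using Subgroup.closure_induction'' with
      | mem x hx =>
        obtain ⟨g, hg, rfl⟩ := hx
        exact fun i hi => ⟨_, (hgc g hg i hi).1, (hgc g hg i hi).2, hinv g hg i hi⟩
      | inv_mem x hx =>
        obtain ⟨g, hg, rfl⟩ := hx
        have : (ge g)⁻¹ = ge g := inv_eq_of_mul_eq_one_right (hρ (by
          rw [map_mul, hge ⟨g, hg⟩, map_one]
          exact Units.ext (Cfsg.Agent.JTwo.G_mul_self hg)))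
        rw [this]
        exact fun i hi => ⟨_, (hgc g hg i hi).1, (hgc g hg i hi).2, hinv g hg i hi⟩
      | one => exact fun i hi => ⟨i, hi, one_smul _ _, rfl, rfl⟩
      | mul a b _ _ ha hb =>
        intro i hi
        obtain ⟨j, hj, e, f1, f2⟩ := hb i hi
        obtain ⟨l, hl, e', f1', f2'⟩ := ha j hj
        exact ⟨l, hl, by rw [mul_smul, e, e'], f1'.trans f1, f2'.trans f2⟩
    exact key _ (hclH h)
  have hstabx : (H ⊓ H.map (MulAut.conj x).toMonoidHom).subgroupOf H =
      MulAction.stabilizer ↥H ((x : G) : G ⧸ H) := by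
    ext ⟨h, hh⟩
    rw [Subgroup.mem_subgroupOf, Subgroup.mem_inf, MulAction.mem_stabilizer_iff]
    show h ∈ H ∧ h ∈ H.map (MulAut.conj x).toMonoidHom ↔ ((h * x : G) : G ⧸ H) = ((x : G) : G ⧸ H)
    rw [eq_comm (a := ((h * x : G) : G ⧸ H)), QuotientGroup.eq, Subgroup.mem_map]
    constructor
    · rintro ⟨-, y, hy, rfl⟩
      simpa [mul_assoc] using hy
    · intro h'
      exact ⟨hh, _, h', by simp [mul_assoc]⟩
  rw [hstabx]
  obtain ⟨i, hi, hxi⟩ := hsurj ((x : G) : G ⧸ H)
  have hi0 : i ≠ 0 := by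
    rintro rfl
    rw [hc0, QuotientGroup.eq, mul_one] at hxi
    exact hx (H.inv_mem_iff.1 hxi)
  rw [hxi]
  have base : ∀ (b mask : ℕ) (cert : List (ℕ × List (List ℕ))) (ws : List (List ℕ)), b < 416 →
      certOk hperm 4 b mask cert ws = true → mask.testBit b = true →
      (∀ (h : ↥H) (j : ℕ), j < 416 → ∃ l < 416, (h : G) • c j = c l ∧
        mask.testBit l = mask.testBit j) →
      (reachAll hperm rounds (2 ^ b) &&& mask == mask) = true →
      (∃ g < 4, hperm g b ≠ b) → mask.testBit i = true →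
      IsCoatom (MulAction.stabilizer ↥H (c i)) := by
    intro b mask cert ws hb hok hbb ho hreach ⟨g, hg, hgb⟩ hbit
    have hmax : IsCoatom (MulAction.stabilizer ↥H (c b)) := by
      refine TH.isCoatom_stabilizer b mask cert ws hb hok (fun h => ?_) (fun htop' => ?_)
      · obtain ⟨j, hj, e, hm⟩ := ho h b hb
        exact ⟨j, hj, hm.trans hbb, e⟩
      · have hs' : gH g ∈ MulAction.stabilizer ↥H (c b) := by
          rw [show MulAction.stabilizer ↥H (c b) = ⊤ from htop']; trivial
        rw [MulAction.mem_stabilizer_iff, TH.smul_eq g hg b hb] at hs'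
        exact hgb (hinj _ (hgc g hg b hb).1 b hb hs')
    have hr : (reachAll hperm rounds (2 ^ b)).testBit i = true := by
      have := congrArg (fun n => n.testBit i) (beq_iff_eq.1 hreach)
      simp only [Nat.testBit_and, hbit, Bool.and_true] at this
      exact this
    have hrounds : ∀ w ∈ rounds, ∀ k ∈ w, k < 4 := by decide +kernel
    obtain ⟨-, s, hs⟩ := TH.orbit_sound (q := b) hrounds (fun j hj => by
      rw [Nat.testBit_two_pow, decide_eq_true_eq] at hj
      subst hj
      exact ⟨hb, 1, one_smul _ _⟩) i hr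
    have hconj : MulAction.stabilizer ↥H (c i) =
        (MulAction.stabilizer ↥H (c b)).map (MulAut.conj s).toMonoidHom := by
      rw [← MulAction.stabilizer_smul_eq_stabilizer_map_conj]
      exact congrArg _ hs.symm
    rw [hconj]
    exact (OrderIso.isCoatom_iff (MulEquiv.mapSubgroup (MulAut.conj s)) _).2 hmax
  have ho := check_orbits
  simp only [Bool.and_eq_true, List.any_eq_true, List.mem_range, Bool.not_eq_true',
    beq_eq_false_iff_ne] at ho
  obtain ⟨⟨⟨⟨⟨o1, o3⟩, m1⟩, m3⟩, g1⟩, g3⟩ := ho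
  rcases ((hmask i hi).2).resolve_left hi0 with hm | hm
  · exact base 1 mask_h1 cert_h1 reach_h1 (by norm_num) check_cert_h1 m1
      (fun h j hj => by obtain ⟨l, hl, e, f, -⟩ := horb h j hj; exact ⟨l, hl, e, f⟩) o1 g1 hm
  · exact base 3 mask_h3 cert_h3 reach_h3 (by norm_num) check_cert_h3 m3
      (fun h j hj => by obtain ⟨l, hl, e, -, f⟩ := horb h j hj; exact ⟨l, hl, e, f⟩) o3 g3 hm

end

end Cfsg.Agent.GTwoJTwo
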